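import Mathlib
import Cfsg.Agent.H26.CentDef
import Cfsg.Agent.H26.Tot
import Cfsg.Agent.H11.Defect5

set_option autoImplicit false

/-!
# Groups with a Sylow `p`-subgroup of order `p`: local facts
-/

namespace Cfsg.Agent.LD

open Cfsg Cfsg.Agent.H3 Cfsg.Agent.H11 Cfsg.Agent.H26 Finset
open scoped ComplexConjugate

universe u

/-- The Sylow `p`-subgroup has order `p`. -/
structure Loc {G : Type u} [Group G] (p : ℕ) (P : Subgroup G) : Prop where
  card : Nat.card P = p
  sq : ¬ p ^ 2 ∣ Nat.card G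

variable {G : Type u} [Group G] [Fintype G] {p : ℕ} [hp : Fact p.Prime] {M : Ideal AlgInt}
  {P : Subgroup G}

namespace Loc

omit [Fintype G] in
theorem zpowers_eq (h : Loc p P) {x : G} (hx : x ∈ P) (h1 : x ≠ 1) :
    Subgroup.zpowers x = P := by
  have hfin : Finite P := Nat.finite_of_card_ne_zero (by rw [h.card]; exact hp.out.ne_zero)
  have hle : Subgroup.zpowers x ≤ P := by rwa [Subgroup.zpowers_le]
  apply Subgroup.eq_of_le_of_card_ge hle
  have h2 : Nat.card (Subgroup.zpowers x) ∣ Nat.card P := Subgroup.card_dvd_of_le hle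
  rw [h.card] at h2 ⊢
  rcases (Nat.dvd_prime hp.out).mp h2 with h3 | h3
  · exfalso
    rw [Subgroup.card_eq_one, Subgroup.zpowers_eq_bot] at h3
    exact h1 h3
  · rw [h3]

omit [Fintype G] in
theorem orderOf_eq (h : Loc p P) {x : G} (hx : x ∈ P) (h1 : x ≠ 1) : orderOf x = p := by
  rw [← Nat.card_zpowers, h.zpowers_eq hx h1, h.card]

omit [Fintype G] hp in
theorem pel (h : Loc p P) [Fact p.Prime] {x : G} (hx : x ∈ P) : ∃ k : ℕ, orderOf x = p ^ k := by
  by_cases h1 : x = 1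
  · exact ⟨0, by rw [h1, orderOf_one, pow_zero]⟩
  · exact ⟨1, by rw [h.orderOf_eq hx h1, pow_one]⟩

omit [Fintype G] in
theorem cz_eq (h : Loc p P) {x : G} (hx : x ∈ P) (h1 : x ≠ 1) :
    cz P = Subgroup.centralizer ({x} : Set G) := by
  rw [← centralizer_zpowers x, h.zpowers_eq hx h1]

omit [Fintype G] in
theorem comm (h : Loc p P) {x y : G} (hx : x ∈ P) (hy : y ∈ P) : x * y = y * x := by
  by_cases h1 : x = 1
  · rw [h1, one_mul, mul_one]
  · rw [← h.zpowers_eq hx h1] at hy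
    obtain ⟨k, rfl⟩ := Subgroup.mem_zpowers_iff.mp hy
    exact (Commute.refl x).zpow_right k

omit [Fintype G] in
theorem le_cz (h : Loc p P) : P ≤ cz P := by
  intro x hx
  rw [Subgroup.mem_centralizer_iff]
  exact fun y hy => h.comm hy hx

omit [Fintype G] in
theorem center (h : Loc p P) : P.subgroupOf (cz P) ≤ Subgroup.center (cz P) := by
  intro u hu
  rw [Subgroup.mem_center_iff]
  intro c
  apply Subtype.ext
  exact (Subgroup.mem_centralizer_iff.mp c.2 u (Subgroup.mem_subgroupOf.mp hu)).symm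

theorem fact_eq (h : Loc p P) : (Nat.card G).factorization p = 1 := by
  have h0 : Nat.card G ≠ 0 := Nat.card_pos.ne'
  have h1 : p ∣ Nat.card G := by
    rw [← h.card]; exact Subgroup.card_subgroup_dvd_card P
  have h2 := (hp.out.dvd_iff_one_le_factorization h0).mp h1
  have h3 : ¬ 2 ≤ (Nat.card G).factorization p := fun h4 =>
    h.sq ((hp.out.pow_dvd_iff_le_factorization h0).mpr h4)
  omega

theorem card_cz (h : Loc p P) : (Nat.card (cz P)).factorization p = 1 := by
  have h0 : Nat.card (cz P) ≠ 0 := Nat.card_pos.ne'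
  have h1 : p ∣ Nat.card (cz P) := by
    conv_lhs => rw [← h.card]
    exact Subgroup.card_dvd_of_le h.le_cz
  have h2 := (hp.out.dvd_iff_one_le_factorization h0).mp h1
  have h3 := (Nat.factorization_le_iff_dvd h0 Nat.card_pos.ne').mpr
    (Subgroup.card_subgroup_dvd_card (cz P)) p
  rw [h.fact_eq] at h3
  omega

/-- `P` as a Sylow subgroup -/
noncomputable def syl (h : Loc p P) : Sylow p G :=
  Sylow.ofCard P (by rw [h.card, h.fact_eq, pow_one])

theorem coe_syl (h : Loc p P) : (h.syl : Subgroup G) = P := rfl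

theorem mem_of_pel (h : Loc p P) {c : G} (hc : c ∈ nz P) (hcp : ∃ k : ℕ, orderOf c = p ^ k) :
    c ∈ P := by
  have h1 := IsPGroup.inf_normalizer_sylow (isPGroup_zpowers hcp) h.syl
  rw [h.coe_syl] at h1
  have h2 : c ∈ Subgroup.zpowers c ⊓ Subgroup.normalizer ((h.syl : Subgroup G) : Set G) :=
    ⟨Subgroup.mem_zpowers c, hc⟩
  change c ∈ Subgroup.zpowers c ⊓ Subgroup.normalizer (h.syl : Set G) at h2
  rw [h1] at h2
  exact h2.2

omit [Fintype G] hp in
theorem cz_le_nz : cz P ≤ nz P := by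
  intro c hc
  rw [Subgroup.mem_normalizer_iff]
  intro y
  have hc' := Subgroup.mem_centralizer_iff.mp hc
  constructor
  · intro hy
    rw [← hc' y hy, mul_inv_cancel_right]
    exact hy
  · intro hy
    have h1 := hc' _ hy
    have h2 : c * y * c⁻¹ = y := by
      have : c * (c * y * c⁻¹) = c * y := by rw [← h1]; group
      exact mul_left_cancel this
    rwa [h2] at hy

omit [Fintype G] in
theorem card_sub (h : Loc p P) : Nat.card (P.subgroupOf (cz P)) = p := by
  rw [Nat.card_congr (Subgroup.subgroupOfEquivOfLe h.le_cz).toEquiv, h.card]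

theorem sum_C (h : Loc p P) (F : cz P → ℂ) (hF : ∀ g, ∀ u ∈ P.subgroupOf (cz P), F (u * g) = F g)
    [Fintype (cz P)] :
    ∑ g, F g = (p : ℂ) * ∑ g : cz P, if p ∣ orderOf g then 0 else F g := by
  classical
  have hDp : IsPGroup p (P.subgroupOf (cz P)) := by
    rw [IsPGroup.iff_card]
    exact ⟨1, by rw [h.card_sub, pow_one]⟩
  have h1 := sum_over_D hp.out hDp h.center F hF (by
    intro g x hx hxD
    exfalso
    apply hxD
    rw [Subgroup.mem_subgroupOf]
    obtain ⟨y, h1, h2, h3, h4⟩ := hx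
    apply h.mem_of_pel (cz_le_nz x.2)
    obtain ⟨k, hk⟩ := h3
    exact ⟨k, by rw [← hk, Subgroup.orderOf_coe]⟩)
  rw [h1, h.card_sub]

theorem isDef (h : Loc p P) (hM : IsPModular p M) {b : Set (IrrCharacter (cz P))}
    (hb : IsPBlock M b) : IsDefectGroup p M b (P.subgroupOf (cz P)) := by
  have : Fintype (cz P) := Fintype.ofFinite _
  obtain ⟨D, hD⟩ := exists_isDefectGroup hM hb
  have hn : (P.subgroupOf (cz P)).Normal := by
    constructor
    intro n hn c
    rw [Subgroup.mem_center_iff.mp (h.center hn) c, mul_inv_cancel_right]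
    exact hn
  have hDp : IsPGroup p (P.subgroupOf (cz P)) := by
    rw [IsPGroup.iff_card]
    exact ⟨1, by rw [h.card_sub, pow_one]⟩
  have h1 := normal_le_defect hM hb hD hDp
  have h2 : D ≤ P.subgroupOf (cz P) := by
    intro c hc
    rw [Subgroup.mem_subgroupOf]
    apply h.mem_of_pel (cz_le_nz c.2)
    obtain ⟨k, hk⟩ := (IsPGroup.iff_orderOf.mp (H11.IsDefectGroup.isPGroup hM hD)) ⟨c, hc⟩
    exact ⟨k, by rw [Subgroup.orderOf_coe, ← hk, ← Subgroup.orderOf_coe (⟨c, hc⟩ : D)]⟩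
  rw [le_antisymm h1 h2]
  exact hD

end Loc

/-- `P` is in the kernel. -/
def InKer (P : Subgroup G) (θ : cz P → ℂ) : Prop :=
  ∀ u : cz P, (u : G) ∈ P → ∀ g, θ (u * g) = θ g

namespace Loc

omit [Fintype G] in
theorem inKer_of (h : Loc p P) [Finite G]
    {θ : cz P → ℂ} (hθ : IsIrrCharacter (cz P) θ)
    (h1 : ∀ u : cz P, (u : G) ∈ P → θ u = θ 1) : InKer P θ := by
  have : Fintype (cz P) := Fintype.ofFinite _
  intro u hu g
  have h2 := lam_mul_char (χ := (⟨θ, hθ⟩ : IrrCharacter (cz P)))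
    (h.center (Subgroup.mem_subgroupOf.mpr hu)) g
  change θ (u * g) = _ * θ g at h2
  rw [h2]
  unfold H11.lam
  change θ u / θ 1 * θ g = θ g
  rw [h1 u hu, div_self (irr_one_ne_zero hθ), one_mul]

theorem reg_eq (h : Loc p P) (hM : IsPModular p M) {b : Set (IrrCharacter (cz P))}
    (hb : IsPBlock M b) {φ θ : IrrCharacter (cz P)} (hφ : φ ∈ b) (hθ : θ ∈ b) {s : cz P}
    (hs : ¬ p ∣ orderOf s) : (φ : cz P → ℂ) s = (θ : cz P → ℂ) s := by
  have : Fintype (cz P) := Fintype.ofFinite _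
  exact (cd_reg hM hb (h.isDef hM hb) h.center hφ hθ).2 s hs

theorem exists_can (h : Loc p P) (hM : IsPModular p M) {b : Set (IrrCharacter (cz P))}
    (hb : IsPBlock M b) : ∃ θ ∈ b, InKer P (θ : cz P → ℂ) := by
  have : Fintype (cz P) := Fintype.ofFinite _
  obtain ⟨θ, hθ, h1⟩ := cd_exists hM hb (h.isDef hM hb) h.center 1
  refine ⟨θ, hθ, ?_⟩
  intro u hu g
  have h2 := lam_mul_char (χ := θ) (h.center (Subgroup.mem_subgroupOf.mpr hu)) g
  rw [h2]
  have h3 := h1 ⟨u, Subgroup.mem_subgroupOf.mpr hu⟩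
  change H11.lam θ u = _ at h3
  rw [h3, MonoidHom.one_apply, Units.val_one, one_mul]

theorem can_unique (h : Loc p P) (hM : IsPModular p M) {b : Set (IrrCharacter (cz P))}
    (hb : IsPBlock M b) {θ θ' : IrrCharacter (cz P)} (hθ : θ ∈ b) (hθ' : θ' ∈ b)
    (h1 : InKer P (θ : cz P → ℂ)) (h2 : InKer P (θ' : cz P → ℂ)) : θ' = θ := by
  have : Fintype (cz P) := Fintype.ofFinite _
  apply cd_unique hM hb (h.isDef hM hb) h.center hθ hθ'
  intro u hu
  unfold H11.lam
  have e1 := h1 u (Subgroup.mem_subgroupOf.mp hu) 1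
  have e2 := h2 u (Subgroup.mem_subgroupOf.mp hu) 1
  rw [mul_one] at e1 e2
  rw [e1, e2, div_self (irr_one_ne_zero θ.2), div_self (irr_one_ne_zero θ'.2)]

/-- the `p`-regular inner product of characters with `P` in the kernel -/
theorem reg_inner (h : Loc p P) [Fintype (cz P)] {θ θ' : IrrCharacter (cz P)}
    (h1 : InKer P (θ : cz P → ℂ)) (h2 : InKer P (θ' : cz P → ℂ)) :
    ∑ s : cz P, (if p ∣ orderOf s then 0 else (θ : cz P → ℂ) s * conj ((θ' : cz P → ℂ) s)) =
      (Nat.card (cz P) : ℂ) / p * classInner (θ : cz P → ℂ) (θ' : cz P → ℂ) := by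
  have hp0 : (p : ℂ) ≠ 0 := Nat.cast_ne_zero.mpr hp.out.ne_zero
  have h3 := h.sum_C (fun s => (θ : cz P → ℂ) s * conj ((θ' : cz P → ℂ) s)) (by
    intro g u hu
    rw [h1 u (Subgroup.mem_subgroupOf.mp hu), h2 u (Subgroup.mem_subgroupOf.mp hu)])
  have hC0 : (Nat.card (cz P) : ℂ) ≠ 0 := card_ne_zeroC
  rw [classInner, h3]
  field_simp

theorem card_block (h : Loc p P) (hM : IsPModular p M) {b : Set (IrrCharacter (cz P))}
    (hb : IsPBlock M b) : Nat.card b = p := by
  classical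
  have : Fintype (cz P) := Fintype.ofFinite _
  have := Fintype.ofFinite (IrrCharacter (cz P))
  obtain ⟨θ, hθ, h1⟩ := h.exists_can hM hb
  have h2 := st4669 p M hM b hb _ (h.isDef hM hb) h.center
  have h3 := blockRank_kr hM hb
  rw [h2, Nat.cast_one, mul_one] at h3
  have h4 : ∀ g ∈ (Finset.univ.filter fun g : cz P => ¬ p ∣ orderOf g), kr b g g =
      (Nat.card b : ℂ) * ((θ : cz P → ℂ) g * conj ((θ : cz P → ℂ) g)) := by
    intro g hg
    have hg' := (Finset.mem_filter.mp hg).2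
    rw [kr_eq, Finset.sum_congr rfl (fun φ hφ => by
      rw [h.reg_eq hM hb (Finset.mem_filter.mp hφ).2 hθ hg']), Finset.sum_const, nsmul_eq_mul,
      natCard_block]
  rw [Finset.sum_congr rfl h4, ← Finset.mul_sum, Finset.sum_filter] at h3
  have h5 := h.reg_inner h1 h1
  rw [classInner_irr', if_pos rfl, mul_one] at h5
  have h6 : ∑ g : cz P, (if ¬ p ∣ orderOf g then (θ : cz P → ℂ) g * conj ((θ : cz P → ℂ) g) else 0) =
      ∑ s : cz P, (if p ∣ orderOf s then 0 else (θ : cz P → ℂ) s * conj ((θ : cz P → ℂ) s)) := by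
    refine Finset.sum_congr rfl fun g _ => ?_
    by_cases hg : p ∣ orderOf g
    · rw [if_neg (not_not.mpr hg), if_pos hg]
    · rw [if_pos hg, if_neg hg]
  rw [h6, h5] at h3
  have hp0 : (p : ℂ) ≠ 0 := Nat.cast_ne_zero.mpr hp.out.ne_zero
  have hC0 : (Nat.card (cz P) : ℂ) ≠ 0 := card_ne_zeroC
  have h7 : (Nat.card b : ℂ) = p := by
    field_simp at h3
    exact h3.symm
  exact_mod_cast h7

theorem kr_reg (h : Loc p P) (hM : IsPModular p M) {b : Set (IrrCharacter (cz P))}
    (hb : IsPBlock M b) {θ : IrrCharacter (cz P)} (hθ : θ ∈ b) {s t : cz P}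
    (hs : ¬ p ∣ orderOf s) (ht : ¬ p ∣ orderOf t) :
    kr b s t = (p : ℂ) * ((θ : cz P → ℂ) s * conj ((θ : cz P → ℂ) t)) := by
  classical
  have := Fintype.ofFinite (IrrCharacter (cz P))
  rw [kr_eq, Finset.sum_congr rfl (fun φ hφ => by
      rw [h.reg_eq hM hb (Finset.mem_filter.mp hφ).2 hθ hs,
        h.reg_eq hM hb (Finset.mem_filter.mp hφ).2 hθ ht]), Finset.sum_const, nsmul_eq_mul,
      ← natCard_block, h.card_block hM hb]

end Loc

end Cfsg.Agent.LD
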