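import Mathlib
import Cfsg.Agent.L.DO1

set_option autoImplicit false

/-!
# The action of the normalizer on a group of order `p`
-/

namespace Cfsg.Agent.LD

open Cfsg Cfsg.Agent.H3 Cfsg.Agent.H11 Cfsg.Agent.H26 Finset

universe u

theorem mem_iff_pow {A : Type*} [Group A] [Finite A] [IsCyclic A] (E : Subgroup A) (a : A) :
    a ∈ E ↔ a ^ Nat.card E = 1 := by
  classical
  have := Fintype.ofFinite A
  constructor
  · intro h
    have h1 : (⟨a, h⟩ : E) ^ Nat.card E = 1 := pow_card_eq_one'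
    exact congrArg Subtype.val h1
  · intro h
    have h1 := IsCyclic.card_pow_eq_one_le (α := A) (n := Nat.card E) Nat.card_pos
    have h2 : (Finset.univ.filter fun b : A => b ∈ E) ⊆
        Finset.univ.filter fun b : A => b ^ Nat.card E = 1 := by
      intro b hb
      have hb' := (Finset.mem_filter.mp hb).2
      refine Finset.mem_filter.mpr ⟨Finset.mem_univ _, ?_⟩
      have h1 : (⟨b, hb'⟩ : E) ^ Nat.card E = 1 := pow_card_eq_one'
      exact congrArg Subtype.val h1
    have h3 : (Finset.univ.filter fun b : A => b ∈ E).card = Nat.card E := by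
      rw [Nat.card_eq_fintype_card, Fintype.card_subtype]
    have h4 := Finset.eq_of_subset_of_card_le h2 (by rw [h3]; exact h1)
    have h5 : a ∈ Finset.univ.filter fun b : A => b ^ Nat.card E = 1 :=
      Finset.mem_filter.mpr ⟨Finset.mem_univ _, h⟩
    rw [← h4] at h5
    exact (Finset.mem_filter.mp h5).2

variable {G : Type u} [Group G] [Fintype G] {p : ℕ} [hp : Fact p.Prime] {P : Subgroup G}

theorem Loc.cyc_aut (h : Loc p P) {T : Subgroup G} (hT : T ≤ nz P) (hC : cz P ≤ T) :
    ∃ (g0 f : ℕ), (cz P).relIndex T * f = p - 1 ∧ ¬ p ∣ g0 ∧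
      (∀ k : ℕ, ¬ p ∣ k → ∃ j, ∀ x ∈ P, x ^ k = x ^ (g0 ^ j)) ∧
      ∀ j : ℕ, (∃ m ∈ T, ∀ x ∈ P, m * x * m⁻¹ = x ^ (g0 ^ j)) ↔ f ∣ j := by
  classical
  have hPc : IsCyclic P := isCyclic_of_prime_card (p := p) h.card
  have hcard : Nat.card (MulAut P) = p - 1 := by
    rw [IsCyclic.card_mulAut, h.card, Nat.totient_prime hp.out]
  have hcyc : IsCyclic (MulAut P) := by
    have e := IsCyclic.mulAutMulEquiv P
    rw [h.card] at e
    exact isCyclic_of_surjective e.symm e.symm.surjective
  obtain ⟨γ, hγ⟩ := IsCyclic.exists_generator (α := MulAut P)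
  obtain ⟨x0, hx0⟩ := IsCyclic.exists_generator (α := P)
  obtain ⟨g0, hg0⟩ : ∃ g0 : ℕ, x0 ^ g0 = γ x0 := by
    have := (mem_powers_iff_mem_zpowers.mpr (hx0 (γ x0)))
    exact this
  have hγx : ∀ x : P, γ x = x ^ g0 := by
    intro x
    obtain ⟨k, rfl⟩ := (mem_powers_iff_mem_zpowers.mpr (hx0 x))
    change γ (x0 ^ k) = (x0 ^ k) ^ g0
    rw [map_pow, ← hg0, ← pow_mul, ← pow_mul, mul_comm]
  have hγj : ∀ (j : ℕ) (x : P), (γ ^ j) x = x ^ (g0 ^ j) := by
    intro j
    induction j with
    | zero => intro x; simp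
    | succ j ih =>
      intro x
      rw [pow_succ, MulAut.mul_apply, hγx, ih, ← pow_mul, pow_succ, mul_comm]
  let E : Subgroup (MulAut P) := (T.subgroupOf (nz P)).map P.normalizerMonoidHom
  have hE : Nat.card E = (cz P).relIndex T := by
    have h1 : P.normalizerMonoidHom.ker.relIndex (T.subgroupOf (nz P)) = Nat.card E :=
      Subgroup.relIndex_ker _ _
    rw [← h1, Subgroup.normalizerMonoidHom_ker]
    exact Subgroup.relIndex_subgroupOf hT
  have hdvd : Nat.card E ∣ p - 1 := by
    rw [← hcard]; exact Subgroup.card_subgroup_dvd_card E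
  obtain ⟨f, hf⟩ := hdvd
  have hp1 : 0 < p - 1 := Nat.sub_pos_of_lt hp.out.one_lt
  have hf0 : 0 < f := by
    rcases Nat.eq_zero_or_pos f with h0 | h0
    · rw [h0, mul_zero] at hf; omega
    · exact h0
  have hE0 : 0 < Nat.card E := Nat.card_pos
  have hord : orderOf γ = p - 1 := by
    rw [orderOf_eq_card_of_forall_mem_zpowers hγ, hcard]
  obtain ⟨x1, hx1P, hx11⟩ : ∃ x ∈ P, x ≠ 1 := by
    by_contra hc
    push Not at hc
    have : P = ⊥ := (Subgroup.eq_bot_iff_forall P).mpr hc
    have h1 := h.card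
    rw [this, Subgroup.card_bot] at h1
    exact hp.out.one_lt.ne h1
  refine ⟨g0, f, by rw [← hE, ← hf], ?_, ?_, ?_⟩
  · intro hd
    have h1 := hγx ⟨x1, hx1P⟩
    have h2 : (⟨x1, hx1P⟩ : P) ^ g0 = 1 := by
      apply orderOf_dvd_iff_pow_eq_one.mp
      rw [Subgroup.orderOf_mk, h.orderOf_eq hx1P hx11]
      exact hd
    rw [h2] at h1
    have h3 := (MulEquiv.map_eq_one_iff γ).mp h1
    exact hx11 (congrArg Subtype.val h3)
  · intro k hk
    -- the k-th power automorphism
    let α : P ≃* P := MulEquiv.ofBijective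
      ({ toFun := fun x => x ^ k
         map_one' := one_pow k
         map_mul' := fun a b => by
          have hab : Commute a b := Subtype.ext (h.comm a.2 b.2)
          exact hab.mul_pow k } : P →* P) (by
        rw [← Finite.injective_iff_bijective]
        rw [injective_iff_map_eq_one]
        intro a ha
        change a ^ k = 1 at ha
        by_contra ha1
        have h2 := orderOf_dvd_iff_pow_eq_one.mpr ha
        have h3 : orderOf a = p := by
          rw [← Subgroup.orderOf_coe]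
          exact h.orderOf_eq a.2 (fun hh => ha1 (Subtype.ext hh))
        rw [h3] at h2
        exact hk h2)
    obtain ⟨j, hj⟩ := mem_powers_iff_mem_zpowers.mpr (hγ α)
    refine ⟨j, fun x hx => ?_⟩
    have h1 : (γ ^ j) ⟨x, hx⟩ = α ⟨x, hx⟩ := by
      change (fun n => γ ^ n) j = α at hj
      simp only at hj
      rw [hj]
    rw [hγj] at h1
    exact (congrArg Subtype.val h1).symm
  · intro j
    have h1 : (∃ m ∈ T, ∀ x ∈ P, m * x * m⁻¹ = x ^ (g0 ^ j)) ↔ γ ^ j ∈ E := by
      constructor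
      · rintro ⟨m, hm, hmx⟩
        refine ⟨⟨m, hT hm⟩, Subgroup.mem_subgroupOf.mpr hm, ?_⟩
        ext x
        rw [hγj]
        exact hmx x x.2
      · rintro ⟨m, hm, hmx⟩
        refine ⟨m, Subgroup.mem_subgroupOf.mp hm, fun x hx => ?_⟩
        have h2 := congrArg (fun α : MulAut P => ((α ⟨x, hx⟩ : P) : G)) hmx
        simp only [hγj] at h2
        exact h2
    rw [h1, mem_iff_pow, ← pow_mul, ← orderOf_dvd_iff_pow_eq_one, hord, hf, mul_comm j]
    exact Nat.mul_dvd_mul_iff_left hE0

end Cfsg.Agent.LD
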