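import Mathlib
import Cfsg.Agent.L.DO1

set_option autoImplicit false

/-!
# Groups with a Sylow `p`-subgroup of order `p`: generalised decomposition numbers
-/

namespace Cfsg.Agent.LD

open Cfsg Cfsg.Agent.H3 Cfsg.Agent.H11 Cfsg.Agent.H26 Finset
open scoped ComplexConjugate

universe u

variable {G : Type u} [Group G] [Fintype G] {p : ℕ} [hp : Fact p.Prime] {M : Ideal AlgInt}
  {P : Subgroup G}

/-- canonical characters of the blocks of `C(P)` inducing `B` -/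
def Th (M : Ideal AlgInt) (P : Subgroup G) (B : Set (IrrCharacter G)) :
    Set (IrrCharacter (cz P)) :=
  {θ | InKer P (θ : cz P → ℂ) ∧ IsInducedBlock M (cz P) (blockOf M (θ : cz P → ℂ)) B}

/-- generalised decomposition numbers -/
noncomputable def dd (M : Ideal AlgInt) [Fintype (cz P)] (x : G) (χ : G → ℂ)
    (θ : IrrCharacter (cz P)) : ℂ :=
  ∑ᶠ φ ∈ blockOf M (θ : cz P → ℂ), ac (cz P) x χ (φ : cz P → ℂ)

/-- the regular coefficient -/
noncomputable def DD (p : ℕ) [Fintype (cz P)] (x : G) (χ : G → ℂ) (φ : cz P → ℂ) : ℂ :=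
  ∑ s : cz P, if p ∣ orderOf s then 0 else χ (x * s) * conj (φ s)

/-- conjugation on the centralizer -/
def cjE (P : Subgroup G) {n : G} (hn : n ∈ nz P) : cz P ≃* cz P where
  toFun s := ⟨n * s * n⁻¹, by
    have h := (normalizer_le_normalizer_centralizer P) hn
    exact (Subgroup.mem_normalizer_iff.mp h _).mp s.2⟩
  invFun s := ⟨n⁻¹ * s * n, by
    have h := (Subgroup.inv_mem _ ((normalizer_le_normalizer_centralizer P) hn))
    have := (Subgroup.mem_normalizer_iff.mp h _).mp s.2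
    simpa using this⟩
  left_inv s := by apply Subtype.ext; simp; group
  right_inv s := by apply Subtype.ext; simp; group
  map_mul' s t := by apply Subtype.ext; simp

theorem cjE_coe {n : G} (hn : n ∈ nz P) (s : cz P) : (cjE P hn s : G) = n * s * n⁻¹ := rfl

/-- the conjugate character -/
def cjI {n : G} (hn : n ∈ nz P) (θ : IrrCharacter (cz P)) : IrrCharacter (cz P) :=
  ⟨fun s => (θ : cz P → ℂ) (cjE P hn s), (isIrr_comp_equiv_iff (cjE P hn)).mpr θ.2⟩

theorem cjI_apply {n : G} (hn : n ∈ nz P) (θ : IrrCharacter (cz P)) (s : cz P) :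
    (cjI hn θ : cz P → ℂ) s = (θ : cz P → ℂ) (cjE P hn s) := rfl

theorem cjI_inKer {n : G} (hn : n ∈ nz P) {θ : IrrCharacter (cz P)}
    (h : InKer P (θ : cz P → ℂ)) : InKer P (cjI hn θ : cz P → ℂ) := by
  intro u hu g
  rw [cjI_apply, cjI_apply, map_mul]
  apply h
  rw [cjE_coe]
  exact (Subgroup.mem_normalizer_iff.mp hn _).mp hu

theorem orderOf_cjE {n : G} (hn : n ∈ nz P) (s : cz P) : orderOf (cjE P hn s) = orderOf s :=
  MulEquiv.orderOf_eq _ _

variable [Fintype (cz P)]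

theorem DD_conj {n : G} (hn : n ∈ nz P) (x : G) {χ : G → ℂ} (hχ : IsClassFunction G χ)
    (θ : IrrCharacter (cz P)) :
    DD p (n * x * n⁻¹) χ (θ : cz P → ℂ) = DD p x χ (cjI hn θ : cz P → ℂ) := by
  unfold DD
  symm
  refine Fintype.sum_equiv (cjE P hn).toEquiv _ _ fun s => ?_
  change _ = if p ∣ orderOf (cjE P hn s) then 0 else χ (n * x * n⁻¹ * (cjE P hn s : cz P)) *
    conj ((θ : cz P → ℂ) (cjE P hn s))
  rw [orderOf_cjE, cjI_apply]
  congr 2
  rw [cjE_coe]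
  have : n * x * n⁻¹ * (n * (s : G) * n⁻¹) = n * (x * s) * n⁻¹ := by group
  rw [this, hχ]

namespace Loc

variable (h : Loc p P) (hM : IsPModular p M) {B : Set (IrrCharacter G)} (hB : IsPBlock M B)

include h hM in
theorem sum_indS [Fintype (IrrCharacter (cz P))] [DecidablePred (· ∈ Th M P B)]
    {A : Type*} [AddCommMonoid A]
    (F : Set (IrrCharacter (cz P)) → A) (F' : IrrCharacter (cz P) → A)
    (hF : ∀ b θ, IsPBlock M b → θ ∈ b → InKer P (θ : cz P → ℂ) → F b = F' θ) :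
    ∑ b ∈ indS M (cz P) B, F b = ∑ θ : IrrCharacter (cz P) with θ ∈ Th M P B, F' θ := by
  have hpr := hM.2.1.isPrime
  symm
  refine Finset.sum_bij (fun θ _ => blockOf M (θ : cz P → ℂ)) ?_ ?_ ?_ ?_
  · intro θ hθ
    exact mem_indS.mpr (Finset.mem_filter.mp hθ).2.2
  · intro θ hθ θ' hθ' heq
    obtain ⟨h1, h2⟩ := (Finset.mem_filter.mp hθ).2
    obtain ⟨h1', h2'⟩ := (Finset.mem_filter.mp hθ').2
    have h3 : θ' ∈ blockOf M (θ : cz P → ℂ) := by
      change blockOf M (θ : cz P → ℂ) = blockOf M (θ' : cz P → ℂ) at heq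
      rw [heq]; exact mem_blockOf_self θ'
    exact (h.can_unique hM h2.1 (mem_blockOf_self θ) h3 h1 h1').symm
  · intro b hb
    have hb' := mem_indS.mp hb
    obtain ⟨θ, hθ, hk⟩ := h.exists_can hM hb'.1
    have h3 : b = blockOf M (θ : cz P → ℂ) := isPBlock_eq_blockOf hb'.1 hθ
    refine ⟨θ, Finset.mem_filter.mpr ⟨Finset.mem_univ _, hk, ?_⟩, h3.symm⟩
    rw [← h3]; exact hb'
  · intro θ hθ
    obtain ⟨h1, h2⟩ := (Finset.mem_filter.mp hθ).2
    exact (hF _ θ h2.1 (mem_blockOf_self θ) h1).symm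

include h hM hB in
/-- the column pairing over a section -/
theorem pairing [Fintype (IrrCharacter G)] [DecidablePred (· ∈ B)]
    [Fintype (IrrCharacter (cz P))] [DecidablePred (· ∈ Th M P B)] {x : G} (hx : x ∈ P)
    (hx1 : x ≠ 1) {s t : cz P} (hs : ¬ p ∣ orderOf s) (ht : ¬ p ∣ orderOf t) :
    ∑ χ : IrrCharacter G with χ ∈ B, (χ : G → ℂ) (x * s) * conj ((χ : G → ℂ) (x * t)) =
      (p : ℂ) * ∑ θ : IrrCharacter (cz P) with θ ∈ Th M P B,
        (θ : cz P → ℂ) s * conj ((θ : cz P → ℂ) t) := by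
  rw [section_pairing' hM hB (h.pel hx) (h.cz_eq hx hx1) s t hs ht, Finset.mul_sum]
  apply h.sum_indS hM
  intro b θ hb hθ _
  exact h.kr_reg hM hb hθ hs ht

include h hM hB in
/-- the second main theorem -/
theorem translate [Fintype (IrrCharacter (cz P))] [DecidablePred (· ∈ Th M P B)]
    {χ : IrrCharacter G} (hχ : χ ∈ B) {x : G} (hx : x ∈ P)
    (hx1 : x ≠ 1) {s : cz P} (hs : ¬ p ∣ orderOf s) :
    (χ : G → ℂ) (x * s) = ∑ θ : IrrCharacter (cz P) with θ ∈ Th M P B,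
      dd M x (χ : G → ℂ) θ * (θ : cz P → ℂ) s := by
  classical
  have hpr := hM.2.1.isPrime
  rw [char_eq_sum_ct hM hB (h.pel hx) (h.cz_eq hx hx1) hχ s hs]
  apply h.sum_indS hM
  intro b θ hb hθ _
  have hbb : b = blockOf M (θ : cz P → ℂ) := isPBlock_eq_blockOf hb hθ
  rw [dd, finsum_mem_irr, ct_eq_sum, Finset.sum_apply, Finset.sum_mul]
  have h1 : ∀ φ : IrrCharacter (cz P), φ ∈ b ↔ φ ∈ blockOf M (θ : cz P → ℂ) := by
    intro φ; rw [← hbb]
  refine Finset.sum_congr (by ext φ; simp [h1]) fun φ hφ => ?_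
  rw [Pi.smul_apply, smul_eq_mul]
  congr 1
  refine h.reg_eq hM hb ?_ hθ hs
  rw [h1]
  exact (Finset.mem_filter.mp hφ).2

include h in
theorem reg_inner' {θ θ' : IrrCharacter (cz P)} [Decidable (θ = θ')]
    (h1 : InKer P (θ : cz P → ℂ)) (h2 : InKer P (θ' : cz P → ℂ)) :
    ∑ s : cz P, (if p ∣ orderOf s then 0 else (θ : cz P → ℂ) s * conj ((θ' : cz P → ℂ) s)) =
      if θ = θ' then (Nat.card (cz P) : ℂ) / p else 0 := by
  classical
  rw [h.reg_inner h1 h2, classInner_irr']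
  by_cases h3 : θ = θ'
  · rw [if_pos h3, if_pos h3, mul_one]
  · rw [if_neg h3, if_neg h3, mul_zero]

include h hM hB in
theorem DD_eq_dd {χ : IrrCharacter G} (hχ : χ ∈ B) {x : G} (hx : x ∈ P)
    (hx1 : x ≠ 1) {θ : IrrCharacter (cz P)} (hθ : θ ∈ Th M P B) :
    DD p x (χ : G → ℂ) (θ : cz P → ℂ) =
      (Nat.card (cz P) : ℂ) / p * dd M x (χ : G → ℂ) θ := by
  classical
  have := Fintype.ofFinite (IrrCharacter (cz P))
  have h1 : ∀ s : cz P, (if p ∣ orderOf s then 0 else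
      (χ : G → ℂ) (x * s) * conj ((θ : cz P → ℂ) s)) =
      ∑ η : IrrCharacter (cz P) with η ∈ Th M P B, dd M x (χ : G → ℂ) η *
        (if p ∣ orderOf s then 0 else (η : cz P → ℂ) s * conj ((θ : cz P → ℂ) s)) := by
    intro s
    split_ifs with hs
    · simp
    · rw [h.translate hM hB hχ hx hx1 hs, Finset.sum_mul]
      exact Finset.sum_congr rfl fun η _ => by ring
  unfold DD
  rw [Finset.sum_congr rfl fun s _ => h1 s, Finset.sum_comm]
  simp only [← Finset.mul_sum]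
  rw [Finset.sum_eq_single θ]
  · rw [h.reg_inner' hθ.1 hθ.1, if_pos rfl, mul_comm]
  · intro η hη hne
    rw [h.reg_inner' (Finset.mem_filter.mp hη).2.1 hθ.1, if_neg hne, mul_zero]
  · intro hn
    exact absurd (Finset.mem_filter.mpr ⟨Finset.mem_univ _, hθ⟩) hn

theorem sum_DD_mul (x y : G) (φ1 φ2 : cz P → ℂ) [Fintype (IrrCharacter G)]
    [DecidablePred (· ∈ B)] :
    ∑ χ : IrrCharacter G with χ ∈ B, DD p x (χ : G → ℂ) φ1 * conj (DD p y (χ : G → ℂ) φ2) =
      ∑ s : cz P, ∑ t : cz P, if p ∣ orderOf s ∨ p ∣ orderOf t then 0 else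
        conj (φ1 s) * φ2 t * ∑ χ : IrrCharacter G with χ ∈ B,
          (χ : G → ℂ) (x * s) * conj ((χ : G → ℂ) (y * t)) := by
  have h1 : ∀ χ : IrrCharacter G, DD p x (χ : G → ℂ) φ1 * conj (DD p y (χ : G → ℂ) φ2) =
      ∑ s : cz P, ∑ t : cz P, if p ∣ orderOf s ∨ p ∣ orderOf t then 0 else
        conj (φ1 s) * φ2 t * ((χ : G → ℂ) (x * s) * conj ((χ : G → ℂ) (y * t))) := by
    intro χ
    unfold DD
    rw [map_sum, Finset.sum_mul_sum]
    refine Finset.sum_congr rfl fun s _ => Finset.sum_congr rfl fun t _ => ?_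
    by_cases hs : p ∣ orderOf s
    · rw [if_pos hs, if_pos (Or.inl hs), zero_mul]
    · by_cases ht : p ∣ orderOf t
      · rw [if_pos ht, if_pos (Or.inr ht), map_zero, mul_zero]
      · rw [if_neg hs, if_neg ht, if_neg (by tauto), map_mul, Complex.conj_conj]
        ring
  rw [Finset.sum_congr rfl fun χ _ => h1 χ, Finset.sum_comm]
  refine Finset.sum_congr rfl fun s _ => ?_
  rw [Finset.sum_comm]
  refine Finset.sum_congr rfl fun t _ => ?_
  split_ifs
  · simp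
  · rw [Finset.mul_sum]

include h hM hB in
theorem DD_pairing [Fintype (IrrCharacter G)] [DecidablePred (· ∈ B)] {x : G} (hx : x ∈ P)
    (hx1 : x ≠ 1) {φ1 φ2 : IrrCharacter (cz P)} (h1 : InKer P (φ1 : cz P → ℂ))
    (h2 : InKer P (φ2 : cz P → ℂ)) [Decidable (φ1 = φ2 ∧ φ1 ∈ Th M P B)] :
    ∑ χ : IrrCharacter G with χ ∈ B, DD p x (χ : G → ℂ) (φ1 : cz P → ℂ) *
        conj (DD p x (χ : G → ℂ) (φ2 : cz P → ℂ)) =
      if φ1 = φ2 ∧ φ1 ∈ Th M P B then (Nat.card (cz P) : ℂ) ^ 2 / p else 0 := by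
  classical
  have := Fintype.ofFinite (IrrCharacter (cz P))
  have hp0 : (p : ℂ) ≠ 0 := Nat.cast_ne_zero.mpr hp.out.ne_zero
  rw [sum_DD_mul]
  have h3 : ∀ s t : cz P, (if p ∣ orderOf s ∨ p ∣ orderOf t then 0 else
        conj ((φ1 : cz P → ℂ) s) * (φ2 : cz P → ℂ) t * ∑ χ : IrrCharacter G with χ ∈ B,
          (χ : G → ℂ) (x * s) * conj ((χ : G → ℂ) (x * t))) =
      (p : ℂ) * ∑ θ : IrrCharacter (cz P) with θ ∈ Th M P B,
        (if p ∣ orderOf s then 0 else (θ : cz P → ℂ) s * conj ((φ1 : cz P → ℂ) s)) *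
        (if p ∣ orderOf t then 0 else (φ2 : cz P → ℂ) t * conj ((θ : cz P → ℂ) t)) := by
    intro s t
    by_cases hs : p ∣ orderOf s
    · simp [hs]
    · by_cases ht : p ∣ orderOf t
      · simp [ht]
      · rw [if_neg (by tauto), h.pairing hM hB hx hx1 hs ht, Finset.mul_sum, Finset.mul_sum,
          Finset.mul_sum]
        refine Finset.sum_congr rfl fun θ _ => ?_
        rw [if_neg hs, if_neg ht]
        ring
  simp only [h3]
  simp only [← Finset.mul_sum]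
  have h4 : ∑ s : cz P, ∑ t : cz P, ∑ θ : IrrCharacter (cz P) with θ ∈ Th M P B,
        (if p ∣ orderOf s then 0 else (θ : cz P → ℂ) s * conj ((φ1 : cz P → ℂ) s)) *
        (if p ∣ orderOf t then 0 else (φ2 : cz P → ℂ) t * conj ((θ : cz P → ℂ) t)) =
      ∑ θ : IrrCharacter (cz P) with θ ∈ Th M P B,
        (∑ s : cz P, if p ∣ orderOf s then 0 else (θ : cz P → ℂ) s * conj ((φ1 : cz P → ℂ) s)) *
        (∑ t : cz P, if p ∣ orderOf t then 0 else (φ2 : cz P → ℂ) t * conj ((θ : cz P → ℂ) t)) := by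
    have e1 : ∀ s : cz P, ∑ t : cz P, ∑ θ : IrrCharacter (cz P) with θ ∈ Th M P B,
        (if p ∣ orderOf s then 0 else (θ : cz P → ℂ) s * conj ((φ1 : cz P → ℂ) s)) *
        (if p ∣ orderOf t then 0 else (φ2 : cz P → ℂ) t * conj ((θ : cz P → ℂ) t)) =
        ∑ θ : IrrCharacter (cz P) with θ ∈ Th M P B, ∑ t : cz P,
        (if p ∣ orderOf s then 0 else (θ : cz P → ℂ) s * conj ((φ1 : cz P → ℂ) s)) *
        (if p ∣ orderOf t then 0 else (φ2 : cz P → ℂ) t * conj ((θ : cz P → ℂ) t)) :=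
      fun s => Finset.sum_comm
    rw [Finset.sum_congr rfl fun s _ => e1 s, Finset.sum_comm]
    refine Finset.sum_congr rfl fun θ _ => ?_
    rw [Finset.sum_mul_sum]
  rw [h4]
  have h5 : ∀ θ ∈ (Finset.univ.filter fun θ : IrrCharacter (cz P) => θ ∈ Th M P B),
      (∑ s : cz P, if p ∣ orderOf s then 0 else (θ : cz P → ℂ) s * conj ((φ1 : cz P → ℂ) s)) *
        (∑ t : cz P, if p ∣ orderOf t then 0 else (φ2 : cz P → ℂ) t * conj ((θ : cz P → ℂ) t)) =
      if θ = φ1 ∧ φ2 = θ then ((Nat.card (cz P) : ℂ) / p) ^ 2 else 0 := by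
    intro θ hθ
    rw [h.reg_inner' (Finset.mem_filter.mp hθ).2.1 h1, h.reg_inner' h2 (Finset.mem_filter.mp hθ).2.1]
    by_cases e1 : θ = φ1
    · by_cases e2 : φ2 = θ
      · rw [if_pos e1, if_pos e2, if_pos ⟨e1, e2⟩, pow_two]
      · rw [if_neg e2, if_neg (fun e : θ = φ1 ∧ φ2 = θ => e2 e.2), mul_zero]
    · rw [if_neg e1, if_neg (fun e : θ = φ1 ∧ φ2 = θ => e1 e.1), zero_mul]
  rw [Finset.sum_congr rfl h5]
  by_cases h6 : φ1 = φ2 ∧ φ1 ∈ Th M P B
  · rw [if_pos h6, Finset.sum_eq_single φ1]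
    · rw [if_pos ⟨rfl, h6.1.symm⟩]
      field_simp
    · intro θ _ hne
      rw [if_neg fun e => hne e.1]
    · intro hn
      exact absurd (Finset.mem_filter.mpr ⟨Finset.mem_univ _, h6.2⟩) hn
  · rw [if_neg h6, Finset.sum_eq_zero, mul_zero]
    intro θ hθ
    rw [if_neg]
    rintro ⟨e1, e2⟩
    apply h6
    subst e1
    exact ⟨e2.symm, (Finset.mem_filter.mp hθ).2⟩

include h hM hB in
theorem cjI_mem_Th {n : G} (hn : n ∈ nz P) {θ : IrrCharacter (cz P)} (hθ : θ ∈ Th M P B) :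
    cjI hn θ ∈ Th M P B := by
  classical
  have := Fintype.ofFinite (IrrCharacter G)
  obtain ⟨x, hx, hx1⟩ : ∃ x ∈ P, x ≠ 1 := by
    by_contra hc
    push Not at hc
    have : P = ⊥ := (Subgroup.eq_bot_iff_forall P).mpr hc
    have h1 := h.card
    rw [this, Subgroup.card_bot] at h1
    exact hp.out.one_lt.ne h1
  have hx' : n * x * n⁻¹ ∈ P := (Subgroup.mem_normalizer_iff.mp hn _).mp hx
  have hx1' : n * x * n⁻¹ ≠ 1 := by
    intro h1
    exact hx1 (mul_eq_left.mp (mul_inv_eq_one.mp h1))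
  have h1 := h.DD_pairing hM hB hx' hx1' hθ.1 hθ.1
  rw [if_pos ⟨rfl, hθ⟩] at h1
  have h2 : ∀ χ : IrrCharacter G, DD p (n * x * n⁻¹) (χ : G → ℂ) (θ : cz P → ℂ) =
      DD p x (χ : G → ℂ) (cjI hn θ : cz P → ℂ) := fun χ => DD_conj hn x (irr_classFun χ.2) θ
  simp only [h2] at h1
  by_contra hc
  rw [h.DD_pairing hM hB hx hx1 (cjI_inKer hn hθ.1) (cjI_inKer hn hθ.1),
    if_neg (fun e => hc e.2)] at h1
  have hp0 : (p : ℂ) ≠ 0 := Nat.cast_ne_zero.mpr hp.out.ne_zero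
  have hC0 : (Nat.card (cz P) : ℂ) ≠ 0 := card_ne_zeroC
  exact (div_ne_zero (pow_ne_zero 2 hC0) hp0) h1.symm

end Loc

end Cfsg.Agent.LD
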