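import Mathlib
import Cfsg.Agent.L.DO2
import Cfsg.Agent.L.DO0

set_option autoImplicit false

/-!
# Groups with a Sylow `p`-subgroup of order `p`: Galois action and fixed points
-/

namespace Cfsg.Agent.LD

open Cfsg Cfsg.Agent.H3 Cfsg.Agent.H11 Cfsg.Agent.H26 Finset
open scoped ComplexConjugate

universe u

variable {G : Type u} [Group G] [Fintype G] {p : ℕ} [hp : Fact p.Prime] {M : Ideal AlgInt}
  {P : Subgroup G}

theorem cjI_mul {m n : G} (hm : m ∈ nz P) (hn : n ∈ nz P) (θ : IrrCharacter (cz P)) :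
    cjI hn (cjI hm θ) = cjI ((nz P).mul_mem hm hn) θ := by
  apply Subtype.ext
  funext s
  refine congrArg (θ : cz P → ℂ) ?_
  apply Subtype.ext
  rw [cjE_coe, cjE_coe, cjE_coe]
  group

theorem cjI_one (θ : IrrCharacter (cz P)) : cjI (nz P).one_mem θ = θ := by
  apply Subtype.ext
  funext s
  refine congrArg (θ : cz P → ℂ) ?_
  apply Subtype.ext
  rw [cjE_coe]
  group

/-- the stabilizer of `θ` in `N(P)` -/
def stT (P : Subgroup G) (θ : IrrCharacter (cz P)) : Subgroup G where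
  carrier := {g | ∃ hn : g ∈ nz P, cjI hn θ = θ}
  one_mem' := ⟨(nz P).one_mem, cjI_one θ⟩
  mul_mem' := by
    rintro a b ⟨ha, h1⟩ ⟨hb, h2⟩
    exact ⟨(nz P).mul_mem ha hb, by rw [← cjI_mul ha hb, h1, h2]⟩
  inv_mem' := by
    rintro a ⟨ha, h1⟩
    refine ⟨(nz P).inv_mem ha, ?_⟩
    conv_lhs => rw [← h1]
    rw [cjI_mul]
    have : ∀ (g : G) (hg : g ∈ nz P), g = 1 → cjI hg θ = θ := by
      rintro g hg rfl
      exact cjI_one θ
    exact this _ _ (mul_inv_cancel a)

theorem mem_stT {θ : IrrCharacter (cz P)} {g : G} :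
    g ∈ stT P θ ↔ ∃ hn : g ∈ nz P, cjI hn θ = θ := Iff.rfl

theorem stT_le (θ : IrrCharacter (cz P)) : stT P θ ≤ nz P := fun _ h => h.1

theorem cz_le_stT (θ : IrrCharacter (cz P)) : cz P ≤ stT P θ := by
  intro c hc
  refine ⟨Loc.cz_le_nz hc, ?_⟩
  apply Subtype.ext
  funext s
  change (θ : cz P → ℂ) (cjE P _ s) = (θ : cz P → ℂ) s
  have h1 : cjE P (Loc.cz_le_nz hc) s = ⟨c, hc⟩ * s * ⟨c, hc⟩⁻¹ := by
    apply Subtype.ext
    rw [cjE_coe]
    rfl
  rw [h1]
  exact irr_classFun θ.2 s ⟨c, hc⟩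

namespace Loc

variable (h : Loc p P) (hM : IsPModular p M) {B : Set (IrrCharacter G)} (hB : IsPBlock M B)

include h in
omit [Fintype G] in
theorem mem_nz_of_conj {x g : G} (hx : x ∈ P) (hx1 : x ≠ 1) (hg : g * x * g⁻¹ ∈ P) :
    g ∈ nz P := by
  have hfin : Finite P := Nat.finite_of_card_ne_zero (by rw [h.card]; exact hp.out.ne_zero)
  rw [Subgroup.mem_normalizer_iff]
  have key : ∀ y ∈ P, g * y * g⁻¹ ∈ P := by
    intro y hy
    rw [← h.zpowers_eq hx hx1] at hy
    obtain ⟨k, rfl⟩ := Subgroup.mem_zpowers_iff.mp hy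
    rw [← conj_zpow]
    exact P.zpow_mem hg k
  intro y
  refine ⟨key y, fun hy => ?_⟩
  have hinj : Function.Injective (fun z : P => (⟨g * z * g⁻¹, key z z.2⟩ : P)) := by
    intro a b hab
    have := congrArg Subtype.val hab
    simp only at this
    apply Subtype.ext
    exact mul_left_cancel (mul_right_cancel this)
  obtain ⟨z, hz⟩ := (Finite.surjective_of_injective hinj) ⟨g * y * g⁻¹, hy⟩
  have h1 := congrArg Subtype.val hz
  simp only at h1
  have h2 : (z : G) = y := mul_left_cancel (mul_right_cancel h1)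
  rw [← h2]; exact z.2

include h in
theorem not_dvd_of_cz {s : cz P} (hs : ¬ p ∣ orderOf s) : ¬ p ∣ orderOf (s : G) := by
  rwa [Subgroup.orderOf_coe]

include h in
theorem isPPart {x : G} (hx : x ∈ P) {s : cz P} (hs : ¬ p ∣ orderOf s) :
    IsPPart p (x * s) x :=
  ⟨s, rfl, (Subgroup.mem_centralizer_iff.mp s.2 x hx), h.pel hx, h.not_dvd_of_cz hs⟩

variable [Fintype (cz P)]

include h hM hB in
theorem pairing_zero [Fintype (IrrCharacter G)] [DecidablePred (· ∈ B)] {x y : G} (hx : x ∈ P)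
    (hy : y ∈ P) (hxy : ¬ IsConj x y) {s t : cz P} (hs : ¬ p ∣ orderOf s)
    (ht : ¬ p ∣ orderOf t) :
    ∑ χ : IrrCharacter G with χ ∈ B, (χ : G → ℂ) (x * s) * conj ((χ : G → ℂ) (y * t)) = 0 := by
  have h1 := block_orthogonality hM (h.isPPart hx hs) (h.isPPart hy ht) hxy hB
  rw [finsum_mem_irr] at h1
  rw [← h1]
  refine Finset.sum_congr rfl fun χ _ => ?_
  rw [char_inv (irr_isChar χ.2)]

include h hM hB in
/-- orthogonality of the generalised decomposition numbers -/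
theorem DD_orth [Fintype (IrrCharacter G)] [DecidablePred (· ∈ B)] {x y : G} (hx : x ∈ P)
    (hx1 : x ≠ 1) (hy : y ∈ P) (hy1 : y ≠ 1) {θ : IrrCharacter (cz P)} (hθ : θ ∈ Th M P B)
    [Decidable (∃ n ∈ stT P θ, y = n * x * n⁻¹)] :
    ∑ χ : IrrCharacter G with χ ∈ B, DD p y (χ : G → ℂ) (θ : cz P → ℂ) *
        conj (DD p x (χ : G → ℂ) (θ : cz P → ℂ)) =
      if ∃ n ∈ stT P θ, y = n * x * n⁻¹ then (Nat.card (cz P) : ℂ) ^ 2 / p else 0 := by
  classical
  by_cases hc : IsConj x y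
  · obtain ⟨g, hg⟩ := isConj_iff.mp hc
    have hgn : g ∈ nz P := h.mem_nz_of_conj hx hx1 (by rw [hg]; exact hy)
    have h2 : ∀ χ : IrrCharacter G, DD p y (χ : G → ℂ) (θ : cz P → ℂ) =
        DD p x (χ : G → ℂ) (cjI hgn θ : cz P → ℂ) := fun χ => by
      rw [← hg]; exact DD_conj hgn x (irr_classFun χ.2) θ
    simp only [h2]
    rw [h.DD_pairing hM hB hx hx1 (cjI_inKer hgn hθ.1) hθ.1]
    have h3 : (cjI hgn θ = θ ∧ cjI hgn θ ∈ Th M P B) ↔ ∃ n ∈ stT P θ, y = n * x * n⁻¹ := by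
      constructor
      · rintro ⟨h4, _⟩
        exact ⟨g, ⟨hgn, h4⟩, hg.symm⟩
      · rintro ⟨n, hn, hny⟩
        have h5 : n⁻¹ * g ∈ cz P := by
          rw [h.cz_eq hx hx1, Subgroup.mem_centralizer_singleton_iff]
          rw [hny] at hg
          calc n⁻¹ * g * x = n⁻¹ * (g * x * g⁻¹) * g := by group
            _ = n⁻¹ * (n * x * n⁻¹) * g := by rw [hg]
            _ = x * (n⁻¹ * g) := by group
        have h6 : g ∈ stT P θ := by
          have h7 := (stT P θ).mul_mem hn (cz_le_stT θ h5)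
          rwa [mul_inv_cancel_left] at h7
        obtain ⟨_, h8⟩ := h6
        exact ⟨h8, by rw [h8]; exact hθ⟩
    simp only [h3]
  · rw [if_neg, sum_DD_mul]
    · refine Finset.sum_eq_zero fun s _ => Finset.sum_eq_zero fun t _ => ?_
      split_ifs with h1
      · rfl
      · push Not at h1
        rw [h.pairing_zero hM hB hy hx (fun e => hc e.symm) h1.1 h1.2, mul_zero]
    · rintro ⟨n, _, hn⟩
      exact hc (isConj_iff.mpr ⟨n, hn.symm⟩)

include h hM hB in
/-- orthogonality with the `p`-regular columns -/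
theorem DD_reg [Fintype (IrrCharacter G)] [DecidablePred (· ∈ B)] {x : G} (hx : x ∈ P)
    (hx1 : x ≠ 1) (φ : cz P → ℂ) {y : G} (hy : ¬ p ∣ orderOf y) :
    ∑ χ : IrrCharacter G with χ ∈ B, (χ : G → ℂ) y * conj (DD p x (χ : G → ℂ) φ) = 0 := by
  have h1 : ∀ χ : IrrCharacter G, (χ : G → ℂ) y * conj (DD p x (χ : G → ℂ) φ) =
      ∑ s : cz P, if p ∣ orderOf s then 0 else
        φ s * ((χ : G → ℂ) y * conj ((χ : G → ℂ) (x * s))) := by
    intro χ
    unfold DD
    rw [map_sum, Finset.mul_sum]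
    refine Finset.sum_congr rfl fun s _ => ?_
    split_ifs
    · simp
    · rw [map_mul, Complex.conj_conj]; ring
  rw [Finset.sum_congr rfl fun χ _ => h1 χ, Finset.sum_comm]
  refine Finset.sum_eq_zero fun s _ => ?_
  split_ifs with hs
  · simp
  · rw [← Finset.mul_sum]
    have h2 := weak_block_orthogonality hM hB y (x * s) hy (by
      have hc : Commute x (s : G) := Subgroup.mem_centralizer_iff.mp s.2 x hx
      have hco : Nat.Coprime (orderOf x) (orderOf (s : G)) := by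
        rw [h.orderOf_eq hx hx1, Nat.Prime.coprime_iff_not_dvd hp.out]
        exact h.not_dvd_of_cz hs
      rw [hc.orderOf_mul_eq_mul_orderOf_of_coprime hco, h.orderOf_eq hx hx1]
      exact dvd_mul_right _ _)
    rw [finsum_mem_irr] at h2
    rw [h2, mul_zero]

end Loc

end Cfsg.Agent.LD
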