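import Mathlib
import Cfsg.Agent.L.DO3

set_option autoImplicit false

/-!
# Groups with a Sylow `p`-subgroup of order `p`: transitivity and fixed points
-/

namespace Cfsg.Agent.LD

open Cfsg Cfsg.Agent.H3 Cfsg.Agent.H11 Cfsg.Agent.H26 Cfsg.Agent.H27 Finset
open scoped ComplexConjugate Pointwise

universe u

variable {G : Type u} [Group G] [Fintype G] {p : ℕ} [hp : Fact p.Prime] {M : Ideal AlgInt}
  {P : Subgroup G}

namespace Loc

variable (h : Loc p P) (hM : IsPModular p M) {B : Set (IrrCharacter G)} (hB : IsPBlock M B)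

include h hM hB in
theorem exists_Th (hBD : IsDefectGroup p M B P) : ∃ θ, θ ∈ Th M P B := by
  have h1 := (st0973 p M hM B hB P hBD).1
  have hsup : P ⊔ Subgroup.centralizer (P : Set G) = Subgroup.centralizer (P : Set G) :=
    sup_eq_right.mpr h.le_cz
  rw [hsup] at h1
  obtain ⟨b, _, hb⟩ := h1
  have hpr := hM.2.1.isPrime
  have : Fintype (cz P) := Fintype.ofFinite _
  obtain ⟨θ, hθ, hk⟩ := h.exists_can hM hb.1
  exact ⟨θ, hk, by rw [← isPBlock_eq_blockOf hb.1 hθ]; exact hb⟩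

include h hM hB in
theorem Th_trans (hBD : IsDefectGroup p M B P) {θ θ' : IrrCharacter (cz P)}
    (hθ : θ ∈ Th M P B) (hθ' : θ' ∈ Th M P B) : ∃ (n : G) (hn : n ∈ nz P), cjI hn θ = θ' := by
  have h1 := (st0973 p M hM B hB P hBD).2
  have hsup : P ⊔ Subgroup.centralizer (P : Set G) = Subgroup.centralizer (P : Set G) :=
    sup_eq_right.mpr h.le_cz
  rw [hsup] at h1
  have hpr := hM.2.1.isPrime
  have : Fintype (cz P) := Fintype.ofFinite _
  obtain ⟨n, hn, h2⟩ := h1 _ _ hθ.2 hθ'.2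
  obtain ⟨η, hη, h3⟩ := h2 θ (mem_blockOf_self θ)
  refine ⟨n, hn, ?_⟩
  have h4 : η = cjI hn θ := by
    apply Subtype.ext
    funext s
    exact h3 s (cjE P hn s).2
  have h5 : InKer P (η : cz P → ℂ) := by rw [h4]; exact cjI_inKer hn hθ.1
  rw [← h4]
  exact (h.can_unique hM hθ'.2.1 (mem_blockOf_self θ') hη hθ'.1 h5)

include h in
omit [Fintype G] in
theorem comm_mem {m n : G} (hm : m ∈ nz P) (hn : n ∈ nz P) :
    m * n * m⁻¹ * n⁻¹ ∈ cz P := by
  obtain ⟨x, hx, hx1⟩ : ∃ x ∈ P, x ≠ 1 := by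
    by_contra hc
    push Not at hc
    have : P = ⊥ := (Subgroup.eq_bot_iff_forall P).mpr hc
    have h1 := h.card
    rw [this, Subgroup.card_bot] at h1
    exact hp.out.one_lt.ne h1
  have hxz := h.zpowers_eq hx hx1
  obtain ⟨a, ha⟩ := Subgroup.mem_zpowers_iff.mp
    (show n * x * n⁻¹ ∈ Subgroup.zpowers x by
      rw [hxz]; exact (Subgroup.mem_normalizer_iff.mp hn _).mp hx)
  obtain ⟨b, hb⟩ := Subgroup.mem_zpowers_iff.mp
    (show m * x * m⁻¹ ∈ Subgroup.zpowers x by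
      rw [hxz]; exact (Subgroup.mem_normalizer_iff.mp hm _).mp hx)
  have e1 : m * n * x * n⁻¹ * m⁻¹ = x ^ (b * a) := by
    calc m * n * x * n⁻¹ * m⁻¹ = m * (n * x * n⁻¹) * m⁻¹ := by group
      _ = m * x ^ a * m⁻¹ := by rw [← ha]
      _ = (m * x * m⁻¹) ^ a := by rw [conj_zpow]
      _ = x ^ (b * a) := by rw [← hb, zpow_mul]
  have e2 : n * m * x * m⁻¹ * n⁻¹ = x ^ (b * a) := by
    calc n * m * x * m⁻¹ * n⁻¹ = n * (m * x * m⁻¹) * n⁻¹ := by group
      _ = n * x ^ b * n⁻¹ := by rw [← hb]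
      _ = (n * x * n⁻¹) ^ b := by rw [conj_zpow]
      _ = x ^ (b * a) := by rw [← ha, ← zpow_mul, mul_comm]
  -- it centralizes `x ^ (b a)`, and hence all `n m x m⁻¹ n⁻¹`
  have hy : n * m * x * m⁻¹ * n⁻¹ ∈ P := by
    rw [e2]; exact P.zpow_mem hx _
  have hy1 : n * m * x * m⁻¹ * n⁻¹ ≠ 1 := by
    intro h1
    apply hx1
    have : x = m⁻¹ * n⁻¹ * (n * m * x * m⁻¹ * n⁻¹) * n * m := by group
    rw [this, h1]; group
  rw [h.cz_eq hy hy1, Subgroup.mem_centralizer_singleton_iff]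
  calc m * n * m⁻¹ * n⁻¹ * (n * m * x * m⁻¹ * n⁻¹)
      = (m * n * x * n⁻¹ * m⁻¹) * (m * n * m⁻¹ * n⁻¹) := by group
    _ = (n * m * x * m⁻¹ * n⁻¹) * (m * n * m⁻¹ * n⁻¹) := by rw [e1, e2]

include h in
/-- the stabilizers agree -/
theorem cjI_eq_iff {θ : IrrCharacter (cz P)} {m n : G} (hm : m ∈ nz P) (hn : n ∈ nz P) :
    cjI hn (cjI hm θ) = cjI hm θ ↔ n ∈ stT P θ := by
  rw [cjI_mul]
  have key : ∀ (a b : G) (ha : a ∈ nz P) (hb : b ∈ nz P), cjI ha θ = cjI hb θ ↔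
      a * b⁻¹ ∈ stT P θ := by
    intro a b ha hb
    constructor
    · intro h1
      refine ⟨(nz P).mul_mem ha ((nz P).inv_mem hb), ?_⟩
      rw [← cjI_mul ha ((nz P).inv_mem hb), h1, cjI_mul]
      have : ∀ (g : G) (hg : g ∈ nz P), g = 1 → cjI hg θ = θ := by
        rintro g hg rfl
        exact cjI_one θ
      exact this _ _ (mul_inv_cancel b)
    · rintro ⟨h1, h2⟩
      conv_rhs => rw [← h2]
      rw [cjI_mul]
      have : ∀ (g g' : G) (hg : g ∈ nz P) (hg' : g' ∈ nz P), g = g' → cjI hg θ = cjI hg' θ := by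
        rintro g g' hg hg' rfl
        rfl
      exact this _ _ _ _ (by group)
  rw [key]
  have h1 := h.comm_mem hm hn
  constructor
  · intro h2
    have h3 : n = (m * n * m⁻¹ * n⁻¹)⁻¹ * (m * n * m⁻¹) := by group
    rw [h3]
    exact (stT P θ).mul_mem ((stT P θ).inv_mem (cz_le_stT θ h1)) h2
  · intro h2
    have h3 : m * n * m⁻¹ = (m * n * m⁻¹ * n⁻¹) * n := by group
    rw [h3]
    exact (stT P θ).mul_mem (cz_le_stT θ h1) h2

include h hM hB in
/-- sums over `Th` -/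
theorem sum_Th (hBD : IsDefectGroup p M B P) [Fintype (IrrCharacter (cz P))]
    [DecidablePred (· ∈ Th M P B)] [Fintype (nz P)] [Fintype (cz P)] {θ : IrrCharacter (cz P)}
    (hθ : θ ∈ Th M P B) (F : IrrCharacter (cz P) → ℂ) :
    (Nat.card (stT P θ) : ℂ) * ∑ η : IrrCharacter (cz P) with η ∈ Th M P B, F η =
      ∑ n : nz P, F (cjI n.2 θ) := by
  classical
  rw [Finset.mul_sum]
  have h1 : ∑ n : nz P, F (cjI n.2 θ) =
      ∑ η : IrrCharacter (cz P) with η ∈ Th M P B, ∑ n : nz P with cjI n.2 θ = η, F (cjI n.2 θ) := by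
    rw [Finset.sum_fiberwise_of_maps_to]
    intro n _
    exact Finset.mem_filter.mpr ⟨Finset.mem_univ _, h.cjI_mem_Th hM hB n.2 hθ⟩
  rw [h1]
  refine Finset.sum_congr rfl fun η hη => ?_
  obtain ⟨n0, hn0, h2⟩ := h.Th_trans hM hB hBD hθ (Finset.mem_filter.mp hη).2
  rw [Finset.sum_congr rfl (fun n hn => by rw [(Finset.mem_filter.mp hn).2]), Finset.sum_const,
    nsmul_eq_mul]
  congr 2
  -- the fibre
  have : Fintype (stT P θ) := Fintype.ofFinite _
  rw [Nat.card_eq_fintype_card, ← Finset.card_univ]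
  refine Finset.card_bij (fun m _ => (⟨m * n0, (nz P).mul_mem (stT_le θ m.2) hn0⟩ : nz P))
    ?_ ?_ ?_
  · intro m _
    refine Finset.mem_filter.mpr ⟨Finset.mem_univ _, ?_⟩
    obtain ⟨hm1, hm2⟩ := m.2
    change cjI _ θ = η
    rw [← cjI_mul hm1 hn0, hm2, h2]
  · intro a _ b _ hab
    have := congrArg Subtype.val hab
    exact Subtype.ext (mul_right_cancel this)
  · intro n hn
    have h3 := (Finset.mem_filter.mp hn).2
    have h4 : (n : G) * n0⁻¹ ∈ stT P θ := by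
      refine ⟨(nz P).mul_mem n.2 ((nz P).inv_mem hn0), ?_⟩
      rw [← cjI_mul n.2 ((nz P).inv_mem hn0), h3, ← h2, cjI_mul]
      have : ∀ (g : G) (hg : g ∈ nz P), g = 1 → cjI hg θ = θ := by
        rintro g hg rfl
        exact cjI_one θ
      exact this _ _ (mul_inv_cancel n0)
    exact ⟨⟨_, h4⟩, Finset.mem_univ _, Subtype.ext (inv_mul_cancel_right _ _)⟩

include h in
/-- sums over the elements of order `p` -/
theorem sum_conj_P (Φ : G → ℂ) (hΦ : ∀ g x, Φ (g * x * g⁻¹) = Φ x) [DecidablePred (· ∈ P)]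
    [DecidablePred (fun x : G => ∃ j : ℕ, orderOf x = p ^ j)] [DecidableEq G] :
    (Nat.card (nz P) : ℂ) * ∑ y : G with (∃ j : ℕ, orderOf y = p ^ j) ∧ y ≠ 1, Φ y =
      (Nat.card G : ℂ) * ∑ x : G with x ∈ P ∧ x ≠ 1, Φ x := by
  classical
  have h1 : (Nat.card G : ℂ) * ∑ x : G with x ∈ P ∧ x ≠ 1, Φ x =
      ∑ g : G, ∑ x : G, if x ∈ P ∧ x ≠ 1 then Φ (g * x * g⁻¹) else 0 := by
    simp only [hΦ]
    rw [Finset.sum_const, Finset.card_univ, ← Nat.card_eq_fintype_card, nsmul_eq_mul,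
      Finset.sum_filter]
  have h2 : ∀ g : G, ∑ x : G, (if x ∈ P ∧ x ≠ 1 then Φ (g * x * g⁻¹) else 0) =
      ∑ y : G, if g⁻¹ * y * g ∈ P ∧ y ≠ 1 then Φ y else 0 := by
    intro g
    refine Fintype.sum_equiv (MulAut.conj g).toEquiv _ _ fun x => ?_
    change _ = if g⁻¹ * (g * x * g⁻¹) * g ∈ P ∧ g * x * g⁻¹ ≠ 1 then Φ (g * x * g⁻¹) else 0
    have e1 : g⁻¹ * (g * x * g⁻¹) * g = x := by group
    have e2 : g * x * g⁻¹ ≠ 1 ↔ x ≠ 1 := by rw [Ne, conj_eq_one_iff]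
    rw [e1]
    simp only [e2]
  rw [h1, Finset.sum_congr rfl fun g _ => h2 g, Finset.sum_comm, Finset.mul_sum,
    Finset.sum_filter]
  refine Finset.sum_congr rfl fun y _ => ?_
  by_cases hy : (∃ j : ℕ, orderOf y = p ^ j) ∧ y ≠ 1
  · rw [if_pos hy, ← Finset.sum_filter, Finset.sum_const, nsmul_eq_mul]
    congr 2
    -- `y` lies in a conjugate of `P`
    obtain ⟨Q, hQ⟩ := (isPGroup_zpowers hy.1).exists_le_sylow
    obtain ⟨g0, hg0⟩ := MulAction.exists_smul_eq G h.syl Q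
    have hyQ : g0⁻¹ * y * g0 ∈ P := by
      have h3 : y ∈ (Q : Subgroup G) := hQ (Subgroup.mem_zpowers y)
      rw [← hg0] at h3
      have h4 : y ∈ MulAut.conj g0 • (h.syl : Subgroup G) := h3
      rw [Subgroup.mem_pointwise_smul_iff_inv_smul_mem] at h4
      have h5 : (MulAut.conj g0)⁻¹ • y = g0⁻¹ * y * g0 := by
        rw [← map_inv, MulAut.smul_def, MulAut.conj_apply, inv_inv]
      rw [h5] at h4
      exact h4
    have hyQ1 : g0⁻¹ * y * g0 ≠ 1 := by
      intro h3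
      apply hy.2
      have : y = g0 * (g0⁻¹ * y * g0) * g0⁻¹ := by group
      rw [this, h3]; group
    have : Fintype (nz P) := Fintype.ofFinite _
    rw [Nat.card_eq_fintype_card, ← Finset.card_univ]
    refine Finset.card_bij (fun m _ => g0 * (m : G)⁻¹) ?_ ?_ ?_
    · intro m _
      refine Finset.mem_filter.mpr ⟨Finset.mem_univ _, ?_, hy.2⟩
      have : (g0 * (m : G)⁻¹)⁻¹ * y * (g0 * (m : G)⁻¹) = m * (g0⁻¹ * y * g0) * (m : G)⁻¹ := by
        group
      rw [this]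
      exact (Subgroup.mem_normalizer_iff.mp m.2 _).mp hyQ
    · intro a _ b _ hab
      have := mul_left_cancel hab
      exact Subtype.ext (inv_injective this)
    · intro g hg
      have h3 := (Finset.mem_filter.mp hg).2.1
      have h4 : g⁻¹ * g0 ∈ nz P := by
        apply h.mem_nz_of_conj hyQ hyQ1
        have : g⁻¹ * g0 * (g0⁻¹ * y * g0) * (g⁻¹ * g0)⁻¹ = g⁻¹ * y * g := by group
        rw [this]; exact h3
      refine ⟨⟨_, h4⟩, Finset.mem_univ _, ?_⟩
      change g0 * (g⁻¹ * g0)⁻¹ = g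
      group
  · rw [if_neg hy]
    symm
    apply Finset.sum_eq_zero
    intro g _
    rw [if_neg]
    rintro ⟨h3, h4⟩
    apply hy
    refine ⟨?_, h4⟩
    obtain ⟨j, hj⟩ := h.pel h3
    refine ⟨j, ?_⟩
    rw [← hj]
    have : g⁻¹ * y * g = g⁻¹ * y * g⁻¹⁻¹ := by group
    rw [this, orderOf_conj']

end Loc

end Cfsg.Agent.LD
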