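import Mathlib
import Cfsg.Agent.L.DO4

set_option autoImplicit false

/-!
# Groups with a Sylow `p`-subgroup of order `p`: fixed points of the Galois action on a block
-/

namespace Cfsg.Agent.LD

open Cfsg Cfsg.Agent.H3 Cfsg.Agent.H11 Cfsg.Agent.H26 Cfsg.Agent.H27 Finset
open scoped ComplexConjugate Pointwise

universe u

variable {G : Type u} [Group G] [Fintype G] {p : ℕ} [hp : Fact p.Prime] {M : Ideal AlgInt}
  {P : Subgroup G}

namespace Loc

variable (h : Loc p P) (hM : IsPModular p M) {B : Set (IrrCharacter G)} (hB : IsPBlock M B)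
  [Fintype (cz P)]

include h hM hB in
theorem eval (hBD : IsDefectGroup p M B P) [Fintype (IrrCharacter G)] [DecidablePred (· ∈ B)]
    {x y : G} (hx : x ∈ P) (hx1 : x ≠ 1) (hy : y ∈ P) {θ : IrrCharacter (cz P)}
    (hθ : θ ∈ Th M P B) [Decidable (∃ n ∈ stT P θ, y = n * x * n⁻¹)] :
    ∑ s : cz P, (if p ∣ orderOf s then 0 else ∑ χ : IrrCharacter G with χ ∈ B,
      (χ : G → ℂ) (y * s) * conj ((χ : G → ℂ) (x * s))) =
      if ∃ n ∈ stT P θ, y = n * x * n⁻¹ then
        (Nat.card (cz P) : ℂ) * Nat.card (Th M P B) else 0 := by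
  classical
  have := Fintype.ofFinite (IrrCharacter (cz P))
  have hp0 : (p : ℂ) ≠ 0 := Nat.cast_ne_zero.mpr hp.out.ne_zero
  by_cases hc : IsConj x y
  · obtain ⟨g, hg⟩ := isConj_iff.mp hc
    have hgn : g ∈ nz P := h.mem_nz_of_conj hx hx1 (by rw [hg]; exact hy)
    have h1 : ∑ s : cz P, (if p ∣ orderOf s then 0 else ∑ χ : IrrCharacter G with χ ∈ B,
        (χ : G → ℂ) (y * s) * conj ((χ : G → ℂ) (x * s))) =
        ∑ t : cz P, (if p ∣ orderOf t then 0 else ∑ χ : IrrCharacter G with χ ∈ B,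
        (χ : G → ℂ) (x * t) * conj ((χ : G → ℂ) (x * cjE P hgn t))) := by
      symm
      refine Fintype.sum_equiv (cjE P hgn).toEquiv _ _ fun t => ?_
      change _ = if p ∣ orderOf (cjE P hgn t) then 0 else ∑ χ : IrrCharacter G with χ ∈ B,
        (χ : G → ℂ) (y * (cjE P hgn t : cz P)) * conj ((χ : G → ℂ) (x * (cjE P hgn t : cz P)))
      rw [orderOf_cjE]
      split_ifs
      · rfl
      · refine Finset.sum_congr rfl fun χ _ => ?_
        congr 1
        rw [← hg, cjE_coe]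
        have : g * x * g⁻¹ * (g * (t : G) * g⁻¹) = g * (x * t) * g⁻¹ := by group
        rw [this, irr_classFun χ.2]
    rw [h1]
    have h2 : ∀ t : cz P, (if p ∣ orderOf t then 0 else ∑ χ : IrrCharacter G with χ ∈ B,
        (χ : G → ℂ) (x * t) * conj ((χ : G → ℂ) (x * cjE P hgn t))) =
        ∑ η : IrrCharacter (cz P) with η ∈ Th M P B, (p : ℂ) * (if p ∣ orderOf t then 0 else
          (η : cz P → ℂ) t * conj ((cjI hgn η : cz P → ℂ) t)) := by
      intro t
      by_cases ht : p ∣ orderOf t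
      · simp [ht]
      · rw [if_neg ht, h.pairing hM hB hx hx1 ht (by rwa [orderOf_cjE]), Finset.mul_sum]
        refine Finset.sum_congr rfl fun η _ => ?_
        rw [if_neg ht]
        rfl
    rw [Finset.sum_congr rfl fun t _ => h2 t, Finset.sum_comm]
    have h3 : ∀ η ∈ (Finset.univ.filter fun η : IrrCharacter (cz P) => η ∈ Th M P B),
        ∑ t : cz P, (p : ℂ) * (if p ∣ orderOf t then 0 else
          (η : cz P → ℂ) t * conj ((cjI hgn η : cz P → ℂ) t)) =
        if g ∈ stT P θ then (Nat.card (cz P) : ℂ) else 0 := by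
      intro η hη
      have hη' := (Finset.mem_filter.mp hη).2
      rw [← Finset.mul_sum, h.reg_inner' hη'.1 (cjI_inKer hgn hη'.1)]
      obtain ⟨m, hm, rfl⟩ := h.Th_trans hM hB hBD hθ hη'
      have h4 := h.cjI_eq_iff (θ := θ) hm hgn
      by_cases h5 : g ∈ stT P θ
      · rw [if_pos h5, if_pos (h4.mpr h5).symm]
        field_simp
      · rw [if_neg h5, if_neg (fun e => h5 (h4.mp e.symm)), mul_zero]
    rw [Finset.sum_congr rfl h3, Finset.sum_const, nsmul_eq_mul]
    have h6 : g ∈ stT P θ ↔ ∃ n ∈ stT P θ, y = n * x * n⁻¹ := by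
      constructor
      · intro h7
        exact ⟨g, h7, hg.symm⟩
      · rintro ⟨n, hn, hny⟩
        have h5 : n⁻¹ * g ∈ cz P := by
          rw [h.cz_eq hx hx1, Subgroup.mem_centralizer_singleton_iff]
          rw [hny] at hg
          calc n⁻¹ * g * x = n⁻¹ * (g * x * g⁻¹) * g := by group
            _ = n⁻¹ * (n * x * n⁻¹) * g := by rw [hg]
            _ = x * (n⁻¹ * g) := by group
        have h7 := (stT P θ).mul_mem hn (cz_le_stT θ h5)
        rwa [mul_inv_cancel_left] at h7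
    rw [← natCard_block (B := Th M P B)]
    by_cases h7 : g ∈ stT P θ
    · rw [if_pos h7, if_pos (h6.mp h7), mul_comm]
    · rw [if_neg h7, if_neg (fun e => h7 (h6.mpr e)), mul_zero]
  · rw [if_neg]
    · refine Finset.sum_eq_zero fun s _ => ?_
      split_ifs with h1
      · rfl
      · rw [h.pairing_zero hM hB hy hx (fun e => hc e.symm) h1 h1]
    · rintro ⟨n, _, hn⟩
      exact hc (isConj_iff.mpr ⟨n, hn.symm⟩)

include h in
/-- the sum over the centralizer -/
theorem sum_cent {x : G} (hx : x ∈ P) (hx1 : x ≠ 1) (F : G → ℂ)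
    [DecidablePred (fun c : G => c ∈ cz (Subgroup.zpowers x) ∧ ¬ p ∣ orderOf c)] :
    ∑ c : G with (c ∈ cz (Subgroup.zpowers x) ∧ ¬ p ∣ orderOf c), F c =
      ∑ s : cz P, if p ∣ orderOf s then 0 else F s := by
  classical
  have h1 : ∑ s : cz P, (if p ∣ orderOf s then 0 else F s) =
      ∑ s : cz P with ¬ p ∣ orderOf s, F s := by
    rw [Finset.sum_filter]
    refine Finset.sum_congr rfl fun s _ => ?_
    by_cases hs : p ∣ orderOf s
    · rw [if_pos hs, if_neg (not_not.mpr hs)]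
    · rw [if_neg hs, if_pos hs]
  rw [h1]
  symm
  have hz := h.zpowers_eq hx hx1
  refine Finset.sum_bij (fun s _ => (s : G)) ?_ ?_ ?_ ?_
  · intro s hs
    exact Finset.mem_filter.mpr ⟨Finset.mem_univ _, by rw [hz]; exact s.2, by
      rw [Subgroup.orderOf_coe]; exact (Finset.mem_filter.mp hs).2⟩
  · intro a _ b _ hab; exact Subtype.ext hab
  · intro c hc
    obtain ⟨h3, h4⟩ := (Finset.mem_filter.mp hc).2
    rw [hz] at h3
    refine ⟨⟨c, h3⟩, Finset.mem_filter.mpr ⟨Finset.mem_univ _, ?_⟩, rfl⟩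
    rw [← Subgroup.orderOf_coe]
    exact h4
  · intro _ _; rfl

include h hM hB in
/-- **the number of moved characters** -/
theorem fixCount (hBD : IsDefectGroup p M B P) {θ : IrrCharacter (cz P)} (hθ : θ ∈ Th M P B)
    {k : ℕ} (hk : k.Coprime (Nat.card G)) (hreg : ∀ c : G, ¬ p ∣ orderOf c → c ^ k = c)
    [Decidable (∃ m ∈ stT P θ, ∀ x ∈ P, m * x * m⁻¹ = x ^ k)] :
    (Nat.card (stT P θ) : ℂ) * Nat.card {χ : IrrCharacter G | χ ∈ B ∧ galIrr k hk χ ≠ χ} =
      if ∃ m ∈ stT P θ, ∀ x ∈ P, m * x * m⁻¹ = x ^ k then 0 else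
        ((p : ℂ) - 1) * Nat.card (cz P) := by
  classical
  have := Fintype.ofFinite (IrrCharacter G)
  have := Fintype.ofFinite (IrrCharacter (cz P))
  have := Fintype.ofFinite (nz P)
  let H : ℕ → G → ℂ := fun k g => ∑ χ : IrrCharacter G with χ ∈ B,
    (χ : G → ℂ) (g ^ k) * conj ((χ : G → ℂ) g)
  let Φ : ℕ → G → ℂ := fun k x => ∑ c : G with (c ∈ cz (Subgroup.zpowers x) ∧ ¬ p ∣ orderOf c),
    H k (x * c)
  have hG0 : (Nat.card G : ℂ) ≠ 0 := card_ne_zeroC
  have hN0 : (Nat.card (nz P) : ℂ) ≠ 0 := card_ne_zeroC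
  have hsum : ∀ k, ∑ g, H k g = Φ k 1 +
      ∑ x : G with (∃ j : ℕ, orderOf x = p ^ j) ∧ x ≠ 1, Φ k x := by
    intro k
    rw [← sum_pparts (p := p) (H k)]
    change ∑ x : G with (∃ j : ℕ, orderOf x = p ^ j), Φ k x = _
    rw [← Finset.sum_filter_add_sum_filter_not _ (fun x => x = 1)]
    congr 1
    · rw [Finset.filter_filter]
      have : (Finset.univ.filter fun a : G => (∃ j : ℕ, orderOf a = p ^ j) ∧ a = 1) = {1} := by
        ext a
        simp only [Finset.mem_filter, Finset.mem_univ, true_and, Finset.mem_singleton]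
        constructor
        · exact fun h => h.2
        · rintro rfl; exact ⟨⟨0, by simp⟩, rfl⟩
      rw [this, Finset.sum_singleton]
    · rw [Finset.filter_filter]
  have hHc : ∀ k g x, H k (g * x * g⁻¹) = H k x := by
    intro k g x
    refine Finset.sum_congr rfl fun χ _ => ?_
    rw [conj_pow, irr_classFun χ.2, irr_classFun χ.2]
  have hΦc : ∀ k g x, Φ k (g * x * g⁻¹) = Φ k x := by
    intro k g x
    change ∑ c : G with (c ∈ cz (Subgroup.zpowers (g * x * g⁻¹)) ∧ ¬ p ∣ orderOf c),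
      H k (g * x * g⁻¹ * c) = ∑ c : G with (c ∈ cz (Subgroup.zpowers x) ∧ ¬ p ∣ orderOf c),
      H k (x * c)
    symm
    refine Finset.sum_bij (fun c _ => g * c * g⁻¹) ?_ ?_ ?_ ?_
    · intro c hc
      obtain ⟨h3, h4⟩ := (Finset.mem_filter.mp hc).2
      refine Finset.mem_filter.mpr ⟨Finset.mem_univ _, ?_, by rwa [orderOf_conj']⟩
      rw [mem_cz_zpowers] at h3 ⊢
      calc g * c * g⁻¹ * (g * x * g⁻¹) = g * (c * x) * g⁻¹ := by group
        _ = g * (x * c) * g⁻¹ := by rw [h3]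
        _ = _ := by group
    · intro a _ b _ hab
      exact mul_left_cancel (mul_right_cancel hab)
    · intro c hc
      obtain ⟨h3, h4⟩ := (Finset.mem_filter.mp hc).2
      refine ⟨g⁻¹ * c * g, Finset.mem_filter.mpr ⟨Finset.mem_univ _, ?_, ?_⟩, by group⟩
      · rw [mem_cz_zpowers] at h3 ⊢
        calc g⁻¹ * c * g * x = g⁻¹ * (c * (g * x * g⁻¹)) * g := by group
          _ = g⁻¹ * (g * x * g⁻¹ * c) * g := by rw [h3]
          _ = _ := by group
      · have : g⁻¹ * c * g = g⁻¹ * c * g⁻¹⁻¹ := by group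
        rw [this, orderOf_conj']; exact h4
    · intro c _
      have : g * x * g⁻¹ * (g * c * g⁻¹) = g * (x * c) * g⁻¹ := by group
      rw [this, hHc]
  have hpow : ∀ {x : G}, x ∈ P → ∀ {s : cz P}, ¬ p ∣ orderOf s → (x * s) ^ k = x ^ k * s := by
    intro x hx s hs
    have hc : Commute x (s : G) := Subgroup.mem_centralizer_iff.mp s.2 x hx
    rw [hc.mul_pow, hreg s (h.not_dvd_of_cz hs)]
  -- the condition
  have hcond : ∀ {x : G}, x ∈ P → x ≠ 1 → ((∃ m ∈ stT P θ, x ^ k = m * x * m⁻¹) ↔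
      ∃ m ∈ stT P θ, ∀ x ∈ P, m * x * m⁻¹ = x ^ k) := by
    intro x hx hx1
    constructor
    · rintro ⟨m, hm, h1⟩
      refine ⟨m, hm, fun y hy => ?_⟩
      rw [← h.zpowers_eq hx hx1] at hy
      obtain ⟨i, rfl⟩ := Subgroup.mem_zpowers_iff.mp hy
      rw [← conj_zpow, ← h1, ← zpow_natCast, ← zpow_natCast, ← zpow_mul, ← zpow_mul, mul_comm]
    · rintro ⟨m, hm, h1⟩
      exact ⟨m, hm, (h1 x hx).symm⟩
  have hΦk : ∀ x ∈ (Finset.univ.filter fun x : G => x ∈ P ∧ x ≠ 1), Φ k x =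
      if ∃ m ∈ stT P θ, ∀ x ∈ P, m * x * m⁻¹ = x ^ k then
        (Nat.card (cz P) : ℂ) * Nat.card (Th M P B) else 0 := by
    intro x hx
    obtain ⟨hx, hx1⟩ := (Finset.mem_filter.mp hx).2
    change ∑ c : G with (c ∈ cz (Subgroup.zpowers x) ∧ ¬ p ∣ orderOf c), H k (x * c) = _
    rw [h.sum_cent hx hx1]
    have h1 := h.eval hM hB hBD hx hx1 (P.pow_mem hx k) hθ
    simp only [hcond hx hx1] at h1
    rw [← h1]
    refine Finset.sum_congr rfl fun s _ => ?_
    split_ifs with hs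
    · rfl
    · refine Finset.sum_congr rfl fun χ _ => ?_
      rw [hpow hx hs]
  have hΦ1 : ∀ x ∈ (Finset.univ.filter fun x : G => x ∈ P ∧ x ≠ 1), Φ 1 x =
        (Nat.card (cz P) : ℂ) * Nat.card (Th M P B) := by
    intro x hx
    obtain ⟨hx, hx1⟩ := (Finset.mem_filter.mp hx).2
    change ∑ c : G with (c ∈ cz (Subgroup.zpowers x) ∧ ¬ p ∣ orderOf c), H 1 (x * c) = _
    rw [h.sum_cent hx hx1]
    have h1 := h.eval hM hB hBD hx hx1 hx hθ
    rw [if_pos ⟨1, (stT P θ).one_mem, by group⟩] at h1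
    rw [← h1]
    refine Finset.sum_congr rfl fun s _ => ?_
    split_ifs with hs
    · rfl
    · refine Finset.sum_congr rfl fun χ _ => ?_
      rw [pow_one]
  have hone : Φ k 1 = Φ 1 1 := by
    refine Finset.sum_congr rfl fun c hc => ?_
    refine Finset.sum_congr rfl fun χ _ => ?_
    rw [one_mul, pow_one, hreg c (Finset.mem_filter.mp hc).2.2]
  -- inner products
  have hin : ∀ χ : IrrCharacter G, ∑ g : G, ((χ : G → ℂ) (g ^ k) * conj ((χ : G → ℂ) g)) =
      if galIrr k hk χ = χ then (Nat.card G : ℂ) else 0 := by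
    intro χ
    have h1 := classInner_irr' (galIrr k hk χ) χ
    unfold classInner at h1
    rw [inv_mul_eq_iff_eq_mul₀ hG0] at h1
    have h2 : ∑ g : G, ((χ : G → ℂ) (g ^ k) * conj ((χ : G → ℂ) g)) =
      ∑ g : G, (galIrr k hk χ : G → ℂ) g * conj ((χ : G → ℂ) g) := rfl
    rw [h2, h1]
    split_ifs <;> simp
  have hin1 : ∀ χ : IrrCharacter G, ∑ g : G, ((χ : G → ℂ) (g ^ 1) * conj ((χ : G → ℂ) g)) =
      (Nat.card G : ℂ) := by
    intro χ
    have h1 := classInner_irr' χ χ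
    unfold classInner at h1
    rw [inv_mul_eq_iff_eq_mul₀ hG0, if_pos rfl, mul_one] at h1
    rw [← h1]
    refine Finset.sum_congr rfl fun g _ => ?_
    rw [pow_one]
  have hdiff : ∑ g, H 1 g - ∑ g, H k g = (Nat.card G : ℂ) *
      Nat.card {χ : IrrCharacter G | χ ∈ B ∧ galIrr k hk χ ≠ χ} := by
    change ∑ g, ∑ χ : IrrCharacter G with χ ∈ B, _ - ∑ g, ∑ χ : IrrCharacter G with χ ∈ B, _ = _
    rw [Finset.sum_comm, Finset.sum_comm (s := Finset.univ) (t := Finset.univ.filter (· ∈ B)),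
      Finset.sum_congr rfl fun χ _ => hin χ, Finset.sum_congr rfl fun χ _ => hin1 χ,
      ← Finset.sum_sub_distrib]
    have h1 : Nat.card {χ : IrrCharacter G | χ ∈ B ∧ galIrr k hk χ ≠ χ} =
        ((Finset.univ.filter (· ∈ B)).filter fun χ => galIrr k hk χ ≠ χ).card := by
      rw [natCard_block, Finset.filter_filter]
      rfl
    rw [h1, Finset.card_filter]
    push_cast
    rw [Finset.mul_sum]
    refine Finset.sum_congr rfl fun χ _ => ?_
    by_cases h2 : galIrr k hk χ = χ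
    · rw [if_pos h2, if_neg (not_not.mpr h2)]; simp
    · rw [if_neg h2, if_pos h2]; simp
  have hc1 := h.sum_conj_P (Φ 1) (hΦc 1)
  have hck := h.sum_conj_P (Φ k) (hΦc k)
  rw [Finset.sum_congr rfl hΦ1, Finset.sum_const, nsmul_eq_mul] at hc1
  rw [Finset.sum_congr rfl hΦk, Finset.sum_const, nsmul_eq_mul] at hck
  have hcardP : ((Finset.univ.filter fun x : G => x ∈ P ∧ x ≠ 1).card : ℂ) = (p : ℂ) - 1 := by
    have h1 : (Finset.univ.filter fun x : G => x ∈ P ∧ x ≠ 1) =
        (Finset.univ.filter fun x : G => x ∈ P).erase 1 := by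
      ext x
      simp only [Finset.mem_filter, Finset.mem_univ, true_and, Finset.mem_erase]
      tauto
    have h2 : (Finset.univ.filter fun x : G => x ∈ P).card = p := by
      have h3 : (Finset.univ.filter fun x : G => x ∈ P).card = Nat.card P := by
        rw [Nat.card_eq_fintype_card, Fintype.card_subtype]
      rw [h3, h.card]
    rw [h1, Finset.card_erase_of_mem (Finset.mem_filter.mpr ⟨Finset.mem_univ _, P.one_mem⟩), h2,
      Nat.cast_sub hp.out.one_le, Nat.cast_one]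
  rw [hcardP] at hc1 hck
  -- |T| |Th| = |N|
  have hTN : (Nat.card (stT P θ) : ℂ) * Nat.card (Th M P B) = Nat.card (nz P) := by
    have h1 := h.sum_Th hM hB hBD hθ (fun _ => (1 : ℂ))
    rw [Finset.sum_const, nsmul_eq_mul, mul_one, ← natCard_block (B := Th M P B),
      Finset.sum_const, Finset.card_univ, nsmul_eq_mul, mul_one, ← Nat.card_eq_fintype_card] at h1
    exact h1
  have h5 := hdiff
  rw [hsum 1, hsum k, hone, add_sub_add_left_eq_sub] at h5
  set A1 := ∑ x : G with (∃ j : ℕ, orderOf x = p ^ j) ∧ x ≠ 1, Φ 1 x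
  set Ak := ∑ x : G with (∃ j : ℕ, orderOf x = p ^ j) ∧ x ≠ 1, Φ k x
  set X := (Nat.card {χ : IrrCharacter G | χ ∈ B ∧ galIrr k hk χ ≠ χ} : ℂ)
  by_cases hcd : ∃ m ∈ stT P θ, ∀ x ∈ P, m * x * m⁻¹ = x ^ k
  · rw [if_pos hcd] at hck ⊢
    have h6 : A1 = Ak := mul_left_cancel₀ hN0 (by rw [hc1, hck])
    rw [h6, sub_self] at h5
    have h7 := (mul_eq_zero.mp h5.symm).resolve_left hG0
    rw [h7, mul_zero]
  · rw [if_neg hcd] at hck ⊢
    rw [mul_zero, mul_zero] at hck
    have h6 : Ak = 0 := (mul_eq_zero.mp hck).resolve_left hN0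
    rw [h6, sub_zero] at h5
    rw [h5] at hc1
    have h7 : (Nat.card (nz P) : ℂ) * X = (((p : ℂ) - 1) * (Nat.card (cz P) * Nat.card (Th M P B))) :=
      mul_left_cancel₀ hG0 (by linear_combination hc1)
    have hTh0 : (Nat.card (Th M P B) : ℂ) ≠ 0 := by
      intro h8
      rw [h8, mul_zero] at hTN
      exact hN0 hTN.symm
    apply mul_left_cancel₀ hTh0
    rw [← hTN] at h7
    linear_combination h7

end Loc

end Cfsg.Agent.LD
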