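import Mathlib
import Cfsg.Agent.H11.LocalRing

set_option autoImplicit false

/-!
# A maximal unramified subring of the local ring of algebraic integers

`Unr p M S`: `S` is a subring of `locRing M` in which the local ideal is generated by `p`.
-/

namespace Cfsg.Agent.LD

open Cfsg Cfsg.Agent.H11 Polynomial

variable {p : ℕ} {M : Ideal AlgInt} [hM : M.IsPrime]

/-- unramified subrings of the local ring -/
def Unr (p : ℕ) (M : Ideal AlgInt) [M.IsPrime] (S : Subring ℂ) : Prop :=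
  S ≤ locRing M ∧ ∀ x ∈ S, MemLocalIdeal M x → ∃ y ∈ S, x = (p : ℂ) * y

theorem li_p (hp : (p : AlgInt) ∈ M) : MemLocalIdeal M (p : ℂ) := by
  have := (li_coe_iff (M := M) (a := (p : AlgInt))).mpr hp
  simpa using this

theorem unr_bot (hpp : p.Prime) (hp : (p : AlgInt) ∈ M) : Unr p M (⊥ : Subring ℂ) := by
  refine ⟨bot_le, ?_⟩
  intro x hx hl
  obtain ⟨n, rfl⟩ := Subring.mem_bot.mp hx
  by_cases h : (p : ℤ) ∣ n
  · obtain ⟨m, rfl⟩ := h
    exact ⟨m, Subring.mem_bot.mpr ⟨m, rfl⟩, by push_cast; ring⟩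
  · exfalso
    have hco : IsCoprime (p : ℤ) n := by
      rw [Int.isCoprime_iff_gcd_eq_one]
      exact (Int.isCoprime_iff_gcd_eq_one.mp
        ((Nat.prime_iff_prime_int.mp hpp).coprime_iff_not_dvd.mpr h))
    obtain ⟨a, b, hab⟩ := hco
    have h1 : MemLocalIdeal M (1 : ℂ) := by
      have : (1 : ℂ) = (a : ℂ) * (p : ℂ) + (b : ℂ) * (n : ℂ) := by
        exact_mod_cast congrArg (fun z : ℤ => (z : ℂ)) hab.symm
      rw [this]
      exact li_add (li_mul_left (lr_intCast M a) (li_p hp)) (li_mul_left (lr_intCast M b) hl)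
    exact not_li_one M h1

/-- the localisation of a subring of the local ring -/
def loc (M : Ideal AlgInt) [M.IsPrime] (T : Subring ℂ) : Subring ℂ where
  carrier := {z | ∃ a ∈ T, ∃ b ∈ T, ¬ MemLocalIdeal M b ∧ MemLocalRing M b ∧ z = a / b}
  mul_mem' := by
    rintro x y ⟨a, ha, b, hb, hb', hbr, rfl⟩ ⟨c, hc, d, hd, hd', hdr, rfl⟩
    refine ⟨a * c, T.mul_mem ha hc, b * d, T.mul_mem hb hd, ?_, lr_mul hbr hdr, ?_⟩
    · intro h
      have h2 := li_mul_left (lr_inv hbr hb') h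
      rw [← mul_assoc, inv_mul_cancel₀ (ne_zero_of_not_li hb'), one_mul] at h2
      exact hd' h2
    · field_simp
  one_mem' := ⟨1, T.one_mem, 1, T.one_mem, not_li_one M, lr_one M, by simp⟩
  add_mem' := by
    rintro x y ⟨a, ha, b, hb, hb', hbr, rfl⟩ ⟨c, hc, d, hd, hd', hdr, rfl⟩
    refine ⟨a * d + c * b, T.add_mem (T.mul_mem ha hd) (T.mul_mem hc hb), b * d,
      T.mul_mem hb hd, ?_, lr_mul hbr hdr, ?_⟩
    · intro h
      have h2 := li_mul_left (lr_inv hbr hb') h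
      rw [← mul_assoc, inv_mul_cancel₀ (ne_zero_of_not_li hb'), one_mul] at h2
      exact hd' h2
    · have := ne_zero_of_not_li hb'
      have := ne_zero_of_not_li hd'
      field_simp
  zero_mem' := ⟨0, T.zero_mem, 1, T.one_mem, not_li_one M, lr_one M, by simp⟩
  neg_mem' := by
    rintro x ⟨a, ha, b, hb, hb', hbr, rfl⟩
    exact ⟨-a, T.neg_mem ha, b, hb, hb', hbr, by ring⟩

theorem mem_loc {T : Subring ℂ} {z : ℂ} : z ∈ loc M T ↔
    ∃ a ∈ T, ∃ b ∈ T, ¬ MemLocalIdeal M b ∧ MemLocalRing M b ∧ z = a / b := Iff.rfl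

theorem le_loc (T : Subring ℂ) : T ≤ loc M T := fun x hx =>
  ⟨x, hx, 1, T.one_mem, not_li_one M, lr_one M, by simp⟩

theorem loc_le {T : Subring ℂ} (hT : T ≤ locRing M) : loc M T ≤ locRing M := by
  rintro x ⟨a, ha, b, hb, hb', hbr, rfl⟩
  exact lr_div (hT ha) hbr hb'

theorem unr_loc {T : Subring ℂ} (hT : T ≤ locRing M)
    (h : ∀ x ∈ T, MemLocalIdeal M x → ∃ y ∈ loc M T, x = (p : ℂ) * y) : Unr p M (loc M T) := by
  refine ⟨loc_le hT, ?_⟩
  rintro x ⟨a, ha, b, hb, hb', hbr, rfl⟩ hl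
  have hla : MemLocalIdeal M a := by
    have := li_mul_left hbr hl
    rwa [mul_div_cancel₀ _ (ne_zero_of_not_li hb')] at this
  obtain ⟨y, hy, rfl⟩ := h a ha hla
  refine ⟨y * (1 / b), (loc M T).mul_mem hy ⟨1, T.one_mem, b, hb, hb', hbr, rfl⟩, by ring⟩

theorem unr_loc_self {T : Subring ℂ} (hT : Unr p M T) : Unr p M (loc M T) :=
  unr_loc hT.1 fun x hx hl => by
    obtain ⟨y, hy, rfl⟩ := hT.2 x hx hl
    exact ⟨y, le_loc T hy, rfl⟩

theorem exists_maximal (hpp : p.Prime) (hp : (p : AlgInt) ∈ M) :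
    ∃ S : Subring ℂ, Unr p M S ∧ ∀ T : Subring ℂ, Unr p M T → S ≤ T → T ≤ S := by
  have hz := zorn_le₀ {S : Subring ℂ | Unr p M S} (by
    intro c hc hch
    rcases c.eq_empty_or_nonempty with rfl | hne
    · exact ⟨⊥, unr_bot hpp hp, by simp⟩
    · refine ⟨sSup c, ⟨sSup_le fun S hS => (hc hS).1, ?_⟩, fun S hS => le_sSup hS⟩
      intro x hx hl
      obtain ⟨S, hS, hxS⟩ := (Subring.mem_sSup_of_directedOn hne hch.directedOn).mp hx
      obtain ⟨y, hy, rfl⟩ := (hc hS).2 x hxS hl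
      exact ⟨y, (le_sSup hS : S ≤ sSup c) hy, rfl⟩)
  obtain ⟨S, hS⟩ := hz
  exact ⟨S, hS.1, fun T hT hle => hS.2 hT hle⟩

theorem minpoly_coeff_zero {R : Type*} [CommRing R] [IsDomain R] {a : R} (ha : IsIntegral ℤ a)
    (ha0 : a ≠ 0) : (minpoly ℤ a).coeff 0 ≠ 0 := by
  intro h0
  have h2 : X * (minpoly ℤ a).divX = minpoly ℤ a := by
    conv_rhs => rw [← Polynomial.X_mul_divX_add (minpoly ℤ a), h0, C_0, add_zero]
  have hm : (minpoly ℤ a).Monic := minpoly.monic ha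
  have h1 : aeval a (minpoly ℤ a) = 0 := minpoly.aeval ℤ _
  have hm2 : (minpoly ℤ a).divX.Monic := by
    rw [← h2] at hm
    exact Polynomial.Monic.of_mul_monic_left monic_X hm
  rw [← h2] at h1
  simp only [map_mul, aeval_X] at h1
  have h3 : aeval a (minpoly ℤ a).divX = 0 := (mul_eq_zero.mp h1).resolve_left ha0
  have h4 := minpoly.min ℤ a hm2 h3
  have h5 : (minpoly ℤ a).degree = (minpoly ℤ a).divX.degree + 1 := by
    conv_lhs => rw [← h2, degree_mul, degree_X]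
    rw [add_comm]
  rw [h5, degree_eq_natDegree hm2.ne_zero] at h4
  norm_cast at h4
  omega

/-- powers of `p` separate the local ring -/
theorem separated (hpp : p.Prime) (hp : (p : AlgInt) ∈ M) {x : ℂ} (hx : MemLocalRing M x)
    (h : ∀ n : ℕ, ∃ y, MemLocalRing M y ∧ x = (p : ℂ) ^ n * y) : x = 0 := by
  by_contra hx0
  obtain ⟨a, b, hb, rfl⟩ := hx
  have ha0 : (a : ℂ) ≠ 0 := fun h0 => hx0 (by rw [h0, zero_div])
  have hb0 := not_mem_ne_zero hb
  -- minimal polynomial with nonzero constant term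
  have ha0' : a ≠ 0 := fun h0 => ha0 (by rw [h0]; rfl)
  have hint : IsIntegral ℤ a := integralClosure.isIntegral a
  obtain ⟨c, hc0, d, hd⟩ : ∃ c : ℤ, c ≠ 0 ∧ ∃ d : AlgInt, (c : AlgInt) = a * d := by
    refine ⟨(minpoly ℤ a).coeff 0, minpoly_coeff_zero hint ha0',
      - aeval a (minpoly ℤ a).divX, ?_⟩
    have h1 : aeval a (minpoly ℤ a) = 0 := minpoly.aeval ℤ _
    rw [← Polynomial.X_mul_divX_add (minpoly ℤ a)] at h1
    simp only [map_add, map_mul, aeval_X, aeval_C] at h1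
    have h4 : (algebraMap ℤ AlgInt) ((minpoly ℤ a).coeff 0) = (((minpoly ℤ a).coeff 0 : ℤ) : AlgInt) := by
      simp
    rw [h4] at h1
    linear_combination h1
  -- write c = p^v c'
  have hfm : FiniteMultiplicity (p : ℤ) c := Int.finiteMultiplicity_iff.mpr
      ⟨by simpa using hpp.one_lt.ne', hc0⟩
  obtain ⟨c', hcc, hc'⟩ := hfm.exists_eq_pow_mul_and_not_dvd
  set v := multiplicity (p : ℤ) c
  obtain ⟨y, hy, hxy⟩ := h (v + 1)
  have hcC : (c : ℂ) = a * d := by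
    have := congrArg (fun z : AlgInt => (z : ℂ)) hd
    simpa using this
  have hp0 : (p : ℂ) ≠ 0 := by exact_mod_cast hpp.ne_zero
  have h5 : (c' : ℂ) = (p : ℂ) * (y * b * d) := by
    have h6 : (a : ℂ) = (p : ℂ) ^ (v + 1) * y * b := by
      rw [← hxy]; field_simp
    have h7 : (c : ℂ) = (p : ℂ) ^ v * c' := by
      rw [hcc]; push_cast; ring
    have h8 : (p : ℂ) ^ v * c' = (p : ℂ) ^ v * ((p : ℂ) * (y * b * d)) := by
      rw [← h7, hcC, h6]; ring
    exact mul_left_cancel₀ (pow_ne_zero _ hp0) h8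
  have h9 : MemLocalIdeal M (c' : ℂ) := by
    rw [h5]
    exact li_mul_right (li_p hp) (lr_mul (lr_mul hy (lr_coe b)) (lr_coe d))
  obtain ⟨y', hy', hy''⟩ := (unr_bot hpp hp).2 (c' : ℂ) (Subring.mem_bot.mpr ⟨c', rfl⟩) h9
  obtain ⟨m, rfl⟩ := Subring.mem_bot.mp hy'
  exact hc' ⟨m, by exact_mod_cast hy''⟩

end Cfsg.Agent.LD
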