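import Mathlib
import Cfsg.Agent.L.Hen1

set_option autoImplicit false

/-!
# Adjoining simple roots to unramified subrings
-/

namespace Cfsg.Agent.LD

open Cfsg Cfsg.Agent.H11 Polynomial

variable {p : ℕ} {M : Ideal AlgInt} [hM : M.IsPrime]

theorem lr_eval₂ {S : Subring ℂ} (hS : S ≤ locRing M) {z : ℂ} (hz : MemLocalRing M z) (f : S[X]) :
    MemLocalRing M (f.eval₂ S.subtype z) := by
  rw [eval₂_eq_sum_range]
  exact lr_sum _ _ fun i _ => lr_mul (hS (f.coeff i).2) (lr_pow hz i)

theorem li_eval₂ {S : Subring ℂ} (hS : S ≤ locRing M) {z : ℂ} (hz : MemLocalRing M z) {f : S[X]}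
    (h : ∀ i, MemLocalIdeal M (f.coeff i : ℂ)) :
    MemLocalIdeal M (f.eval₂ S.subtype z) := by
  rw [eval₂_eq_sum_range]
  exact li_sum _ _ fun i _ => li_mul_right (h i) (lr_pow hz i)

/-- low degree polynomials with small value have small coefficients -/
theorem coeff_li_of_min {S : Subring ℂ} (hS : S ≤ locRing M)
    (hinv : ∀ x ∈ S, ¬ MemLocalIdeal M x → x⁻¹ ∈ S) {z : ℂ} (hz : MemLocalRing M z)
    {d : ℕ} (hmin : ∀ g : S[X], g.Monic → MemLocalIdeal M (g.eval₂ S.subtype z) → d ≤ g.natDegree)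
    (q : S[X]) (hq : q.natDegree < d) (hqz : MemLocalIdeal M (q.eval₂ S.subtype z)) (i : ℕ) :
    MemLocalIdeal M (q.coeff i : ℂ) := by
  induction hn : q.support.card using Nat.strong_induction_on generalizing q i with
  | _ n ih =>
    by_cases hq0 : q = 0
    · rw [hq0]; simpa using li_zero M
    by_cases hl : MemLocalIdeal M (q.leadingCoeff : ℂ)
    · have h1 : q.eraseLead + C q.leadingCoeff * X ^ q.natDegree = q := by
        rw [C_mul_X_pow_eq_monomial]; exact eraseLead_add_monomial_natDegree_leadingCoeff q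
      have h2 : MemLocalIdeal M (q.eraseLead.eval₂ S.subtype z) := by
        have h3 := hqz
        rw [← h1, eval₂_add] at h3
        have h4 : MemLocalIdeal M ((C q.leadingCoeff * X ^ q.natDegree).eval₂ S.subtype z) := by
          rw [eval₂_mul, eval₂_C, eval₂_X_pow]
          exact li_mul_right hl (lr_pow hz _)
        have := li_sub h3 h4
        simpa using this
      have h5 : ∀ j, MemLocalIdeal M (q.eraseLead.coeff j : ℂ) := fun j =>
        ih _ (by rw [← hn]; exact eraseLead_support_card_lt hq0) _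
          (lt_of_le_of_lt (eraseLead_natDegree_le_aux) hq) h2 j rfl
      by_cases hi : i = q.natDegree
      · subst hi; exact hl
      · rw [← eraseLead_coeff_of_ne _ hi]; exact h5 i
    · exfalso
      have hu := hinv _ q.leadingCoeff.2 hl
      set u : S := ⟨(q.leadingCoeff : ℂ)⁻¹, hu⟩
      have hul : u * q.leadingCoeff = 1 := by
        apply Subtype.ext
        show (q.leadingCoeff : ℂ)⁻¹ * (q.leadingCoeff : ℂ) = 1
        exact inv_mul_cancel₀ (ne_zero_of_not_li hl)
      have hm : (C u * q).Monic := by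
        unfold Monic
        rw [leadingCoeff_mul, leadingCoeff_C]
        exact hul
      have hd := hmin (C u * q) hm (by
        rw [eval₂_mul, eval₂_C]
        exact li_mul_left (hS u.2) hqz)
      have : (C u * q).natDegree ≤ q.natDegree := natDegree_C_mul_le _ _
      omega

theorem unr_adjoin_root {S : Subring ℂ} (hpM : (p : AlgInt) ∈ M) (hS : Unr p M S)
    (hinv : ∀ x ∈ S, ¬ MemLocalIdeal M x → x⁻¹ ∈ S) {z : ℂ} (hz : MemLocalRing M z)
    {f : S[X]} (hf : f.Monic) (hfz : f.eval₂ S.subtype z = 0)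
    (hfd : ¬ MemLocalIdeal M (f.derivative.eval₂ S.subtype z)) :
    Unr p M (loc M (eval₂RingHom S.subtype z).range) := by
  classical
  have hST : ∀ q : S[X], q.eval₂ S.subtype z ∈ (eval₂RingHom S.subtype z).range :=
    fun q => ⟨q, rfl⟩
  have hTle : (eval₂RingHom S.subtype z).range ≤ locRing M := by
    rintro x ⟨q, rfl⟩
    exact lr_eval₂ hS.1 hz q
  -- minimal monic polynomial with small value
  have hex : ∃ n : ℕ, ∃ g : S[X], g.Monic ∧ MemLocalIdeal M (g.eval₂ S.subtype z) ∧
      g.natDegree = n := ⟨_, f, hf, by rw [hfz]; exact li_zero M, rfl⟩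
  obtain ⟨g, hg, hgz, hgd⟩ := Nat.find_spec hex
  have hmin : ∀ g' : S[X], g'.Monic → MemLocalIdeal M (g'.eval₂ S.subtype z) →
      g.natDegree ≤ g'.natDegree := fun g' h1 h2 => by
    rw [hgd]; exact Nat.find_min' hex ⟨g', h1, h2, rfl⟩
  have hdvd : ∀ r : S[X], r.degree < g.degree → MemLocalIdeal M (r.eval₂ S.subtype z) →
      ∃ r1 : S[X], r = C (p : S) * r1 := by
    intro r hr hrz
    have h1 : C (p : S) ∣ r := by
      rw [C_dvd_iff_dvd_coeff]
      intro i
      by_cases hr0 : r = 0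
      · rw [hr0]; simp
      have h2 := coeff_li_of_min hS.1 hinv hz hmin r (natDegree_lt_natDegree hr0 hr) hrz i
      obtain ⟨y, hy, hy'⟩ := hS.2 _ (r.coeff i).2 h2
      exact ⟨⟨y, hy⟩, Subtype.ext (by simpa using hy')⟩
    obtain ⟨r1, hr1⟩ := h1
    exact ⟨r1, hr1⟩
  have hg1 : g ≠ 1 := by
    rintro rfl
    rw [eval₂_one] at hgz
    exact not_li_one M hgz
  have hdec : ∀ q : S[X], q = g * (q /ₘ g) + q %ₘ g := fun q => by
    rw [add_comm]; exact (modByMonic_add_div q g).symm
  -- the decomposition of f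
  obtain ⟨r1, hr1⟩ := hdvd (f %ₘ g) (degree_modByMonic_lt _ hg) (by
    have h2 := congrArg (fun q => q.eval₂ S.subtype z) (hdec f)
    simp only [eval₂_add, eval₂_mul] at h2
    have h3 : (f %ₘ g).eval₂ S.subtype z = - (g.eval₂ S.subtype z * (f /ₘ g).eval₂ S.subtype z) := by
      rw [hfz] at h2; linear_combination -h2
    rw [h3]
    exact li_neg (li_mul_right hgz (lr_eval₂ hS.1 hz _)))
  have hf1 : f = g * (f /ₘ g) + C (p : S) * r1 := by rw [← hr1]; exact hdec f
  set h := f /ₘ g with hh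
  have hh1 : ¬ MemLocalIdeal M (h.eval₂ S.subtype z) := by
    intro hhl
    apply hfd
    rw [hf1]
    simp only [derivative_add, derivative_mul, derivative_C, zero_mul, zero_add, eval₂_add,
      eval₂_mul, eval₂_C]
    refine li_add (li_add (li_mul_left (lr_eval₂ hS.1 hz _) hhl)
      (li_mul_right hgz (lr_eval₂ hS.1 hz _))) (li_mul_right ?_ (lr_eval₂ hS.1 hz _))
    simpa using li_p hpM
  have hgp : ∃ y ∈ loc M (eval₂RingHom S.subtype z).range,
      g.eval₂ S.subtype z = (p : ℂ) * y := by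
    refine ⟨(-r1).eval₂ S.subtype z / h.eval₂ S.subtype z,
      ⟨_, hST _, _, hST _, hh1, lr_eval₂ hS.1 hz _, rfl⟩, ?_⟩
    have h2 := congrArg (fun q => q.eval₂ S.subtype z) hf1
    simp only [eval₂_add, eval₂_mul, eval₂_C] at h2
    rw [hfz] at h2
    have h0 := ne_zero_of_not_li hh1
    rw [eval₂_neg]
    field_simp
    have h3 : S.subtype (p : S) = (p : ℂ) := by simp
    rw [h3] at h2
    linear_combination -h2
  refine unr_loc hTle ?_
  rintro x ⟨q, rfl⟩ hx
  change MemLocalIdeal M (q.eval₂ S.subtype z) at hx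
  obtain ⟨y, hy, hgy⟩ := hgp
  obtain ⟨s1, hs1⟩ := hdvd (q %ₘ g) (degree_modByMonic_lt _ hg) (by
    have h2 := congrArg (fun q => q.eval₂ S.subtype z) (hdec q)
    simp only [eval₂_add, eval₂_mul] at h2
    have h3 : (q %ₘ g).eval₂ S.subtype z =
        q.eval₂ S.subtype z - (g.eval₂ S.subtype z * (q /ₘ g).eval₂ S.subtype z) := by
      rw [h2]; ring
    rw [h3]
    exact li_sub hx (li_mul_right hgz (lr_eval₂ hS.1 hz _)))
  refine ⟨y * (q /ₘ g).eval₂ S.subtype z + s1.eval₂ S.subtype z,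
    (loc M _).add_mem ((loc M _).mul_mem hy (le_loc _ (hST _))) (le_loc _ (hST _)), ?_⟩
  have h2 := congrArg (fun q => q.eval₂ S.subtype z) (hdec q)
  simp only [eval₂_add, eval₂_mul] at h2
  show q.eval₂ S.subtype z = _
  rw [h2, hs1, eval₂_mul, eval₂_C, hgy]
  have h3 : S.subtype (p : S) = (p : ℂ) := by simp
  rw [h3]
  ring

end Cfsg.Agent.LD
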