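import Mathlib
import Cfsg.Agent.L.Hen2
import Cfsg.Agent.H26.ResField

set_option autoImplicit false

/-!
# The maximal unramified subring: roots of unity, residues, integral closedness
-/

namespace Cfsg.Agent.LD

open Cfsg Cfsg.Agent.H11 Cfsg.Agent.H26 Polynomial

variable {p : ℕ} {M : Ideal AlgInt} [hM : M.IsPrime]

/-- maximal unramified subrings -/
structure IsHen (p : ℕ) (M : Ideal AlgInt) [M.IsPrime] (o : Subring ℂ) : Prop where
  unr : Unr p M o
  max : ∀ T : Subring ℂ, Unr p M T → o ≤ T → T ≤ o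

theorem exists_isHen (hp : IsPModular p M) : ∃ o : Subring ℂ, IsHen p M o := by
  obtain ⟨S, h1, h2⟩ := exists_maximal (M := M) hp.1 hp.2.2
  exact ⟨S, h1, h2⟩

theorem isIntegral_KF (hp : IsPModular p M) [Fact p.Prime] [Algebra (ZMod p) (KF M)] (y : KF M) :
    IsIntegral (ZMod p) y := by
  have hint : ∀ a : AlgInt, IsIntegral (ZMod p) (rd M (a : ℂ)) := by
    intro a
    obtain ⟨f, hf, hfa⟩ := integralClosure.isIntegral a
    refine ⟨f.map (Int.castRingHom (ZMod p)), hf.map _, ?_⟩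
    rw [eval₂_map]
    have h1 : (algebraMap (ZMod p) (KF M)).comp (Int.castRingHom (ZMod p)) =
        Int.castRingHom (KF M) := RingHom.ext_int _ _
    rw [h1]
    have h2 : rd M ((f.eval₂ (algebraMap ℤ AlgInt) a : AlgInt) : ℂ) = 0 := by
      rw [hfa]; simpa using rd_zero
    rw [eval₂_eq_sum_range] at h2 ⊢
    rw [← h2]
    push_cast
    rw [rd_sum]
    · refine Finset.sum_congr rfl fun i _ => ?_
      have h3 : (algebraMap ℤ ℂ) (f.coeff i) = ((f.coeff i : ℤ) : ℂ) := by simp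
      rw [h3, rd_mul (lr_intCast M _) (lr_pow (lr_coe a) i), rd_pow (lr_coe a), rd_intCast]
      simp
    · intro i _
      have h3 : (algebraMap ℤ ℂ) (f.coeff i) = ((f.coeff i : ℤ) : ℂ) := by simp
      rw [h3]
      exact lr_mul (lr_intCast M _) (lr_pow (lr_coe a) i)
  obtain ⟨z, hz, rfl⟩ := rd_surjective y
  obtain ⟨a, b, hb, rfl⟩ := hz
  have hb1 : ¬ MemLocalIdeal M (b : ℂ) := fun h => hb (li_coe_iff.mp h)
  have hb2 : rd M (b : ℂ) ≠ 0 := fun h => hb1 ((rd_eq_zero_iff (lr_coe b)).mp h)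
  have h1 : rd M ((a : ℂ) / b) = rd M (a : ℂ) * (rd M (b : ℂ))⁻¹ := by
    rw [eq_mul_inv_iff_mul_eq₀ hb2, ← rd_mul (lr_div (lr_coe a) (lr_coe b) hb1) (lr_coe b),
      div_mul_cancel₀ _ (ne_zero_of_not_li hb1)]
  rw [h1]
  exact (hint a).mul (hint b).inv

/-- every unit of the local ring is congruent to a root of unity of order prime to `p` -/
theorem exists_rootOfUnity (hp : IsPModular p M) {x : ℂ} (hx : MemLocalRing M x)
    (hx0 : ¬ MemLocalIdeal M x) : ∃ (m : ℕ) (z : ℂ), ¬ p ∣ m ∧ z ^ m = 1 ∧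
      MemLocalIdeal M (x - z) := by
  classical
  have : Fact p.Prime := ⟨hp.1⟩
  have := charP_KF hp
  let _ : Algebra (ZMod p) (KF M) := ZMod.algebra (KF M) p
  have hy0 : rd M x ≠ 0 := fun h => hx0 ((rd_eq_zero_iff hx).mp h)
  have hint := isIntegral_KF hp (rd M x)
  have : FiniteDimensional (ZMod p) (IntermediateField.adjoin (ZMod p) {rd M x}) :=
    IntermediateField.adjoin.finiteDimensional hint
  have : Finite (IntermediateField.adjoin (ZMod p) {rd M x}) := Module.finite_of_finite (ZMod p)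
  let _ := Fintype.ofFinite (IntermediateField.adjoin (ZMod p) {rd M x})
  set L := IntermediateField.adjoin (ZMod p) {rd M x} with hL
  have hyL : rd M x ∈ L := IntermediateField.mem_adjoin_simple_self _ _
  have hpow : rd M x ^ (Fintype.card L - 1) = 1 := by
    have h1 : (⟨rd M x, hyL⟩ : L) ≠ 0 := fun h => hy0 (congrArg Subtype.val h)
    have := FiniteField.pow_card_sub_one_eq_one (⟨rd M x, hyL⟩ : L) h1
    simpa using congrArg Subtype.val this
  set m := Fintype.card L - 1 with hm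
  have hcardp : p ∣ Fintype.card L := by
    obtain ⟨n, hn1, hn2⟩ := FiniteField.card L p
    rw [hn2]
    exact dvd_pow_self p n.2.ne'
  have hL2 : 1 < Fintype.card L := Fintype.one_lt_card
  have hpm : ¬ p ∣ m := by
    intro h
    have h3 : p ∣ Fintype.card L - m := Nat.dvd_sub hcardp h
    have h4 : Fintype.card L - m = 1 := by omega
    rw [h4] at h3
    exact hp.1.one_lt.ne' (Nat.dvd_one.mp h3)
  have hm0 : m ≠ 0 := by omega
  have hprod := X_pow_sub_one_eq_prod (Nat.pos_of_ne_zero hm0) (Complex.isPrimitiveRoot_exp m hm0)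
  have h5 : x ^ m - 1 = ∏ z ∈ nthRootsFinset m (1 : ℂ), (x - z) := by
    have := congrArg (fun q : ℂ[X] => q.eval x) hprod
    simpa [eval_prod] using this
  have hzint : ∀ z ∈ nthRootsFinset m (1 : ℂ), z ^ m = 1 := fun z hz =>
    (mem_nthRootsFinset (Nat.pos_of_ne_zero hm0) 1).mp hz
  have hzlr : ∀ z ∈ nthRootsFinset m (1 : ℂ), MemLocalRing M z := fun z hz =>
    lr_int ⟨X ^ m - 1, monic_X_pow_sub_C 1 hm0, by simp [hzint z hz]⟩
  by_contra hcon
  have hne : ∀ z ∈ nthRootsFinset m (1 : ℂ), ¬ MemLocalIdeal M (x - z) := fun z hz h =>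
    hcon ⟨m, z, hpm, hzint z hz, h⟩
  have h6 : MemLocalIdeal M (x ^ m - 1) := by
    rw [← rd_eq_zero_iff (lr_sub (lr_pow hx m) (lr_one M)), rd_sub (lr_pow hx m) (lr_one M),
      rd_pow hx, hpow, rd_one, sub_self]
  rw [h5] at h6
  have h7 : ∀ s : Finset ℂ, (∀ z ∈ s, MemLocalRing M z) → (∀ z ∈ s, ¬ MemLocalIdeal M (x - z)) →
      ¬ MemLocalIdeal M (∏ z ∈ s, (x - z)) := by
    intro s
    induction s using Finset.induction_on with
    | empty => intro _ _; simpa using not_li_one M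
    | insert a s ha ih =>
      intro h1 h2 h3
      rw [Finset.prod_insert ha] at h3
      have ha1 := h2 a (Finset.mem_insert_self _ _)
      have ha2 : MemLocalRing M (x - a) := lr_sub hx (h1 a (Finset.mem_insert_self _ _))
      have h4 := li_mul_left (lr_inv ha2 ha1) h3
      rw [← mul_assoc, inv_mul_cancel₀ (ne_zero_of_not_li ha1), one_mul] at h4
      exact ih (fun z hz => h1 z (Finset.mem_insert_of_mem hz))
        (fun z hz => h2 z (Finset.mem_insert_of_mem hz)) h4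
  exact h7 _ hzlr hne h6

namespace IsHen

variable {o : Subring ℂ} (ho : IsHen p M o)

include ho

theorem lr {x : ℂ} (hx : x ∈ o) : MemLocalRing M x := ho.unr.1 hx

theorem inv {x : ℂ} (hx : x ∈ o) (h : ¬ MemLocalIdeal M x) : x⁻¹ ∈ o := by
  have h1 := ho.max _ (unr_loc_self ho.unr) (le_loc o)
  exact h1 ⟨1, o.one_mem, x, hx, h, ho.lr hx, by rw [one_div]⟩

theorem root (hp : IsPModular p M) {z : ℂ} (hz : MemLocalRing M z)
    {f : o[X]} (hf : f.Monic) (hfz : f.eval₂ o.subtype z = 0)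
    (hfd : ¬ MemLocalIdeal M (f.derivative.eval₂ o.subtype z)) : z ∈ o := by
  have h1 := unr_adjoin_root hp.2.2 ho.unr (fun x hx h => ho.inv hx h) hz hf hfz hfd
  refine ho.max _ h1 ?_ (le_loc _ ⟨X, by simp⟩)
  intro x hx
  exact le_loc _ ⟨C ⟨x, hx⟩, by simp⟩

theorem rootOfUnity (hp : IsPModular p M) {m : ℕ} (hm : ¬ p ∣ m) {z : ℂ} (hz : z ^ m = 1) :
    z ∈ o := by
  have hm0 : m ≠ 0 := fun h => hm (h ▸ dvd_zero p)
  have hzi : IsIntegral ℤ z := by
    refine ⟨X ^ m - 1, monic_X_pow_sub_C 1 hm0, ?_⟩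
    simp [hz]
  have hz0 : z ≠ 0 := by
    rintro rfl
    rw [zero_pow hm0] at hz
    exact zero_ne_one hz
  refine ho.root hp (lr_int hzi) (f := X ^ m - C 1) (monic_X_pow_sub_C 1 hm0) (by simp [hz]) ?_
  simp only [derivative_sub, derivative_X_pow, derivative_C, sub_zero, eval₂_mul, eval₂_C,
    eval₂_X_pow]
  intro h
  have h1 : MemLocalIdeal M ((m : ℂ) * z ^ (m - 1)) := by simpa using h
  have h2 := li_mul_right h1 (lr_int hzi)
  rw [mul_assoc, ← pow_succ, Nat.sub_add_cancel (Nat.pos_of_ne_zero hm0), hz, mul_one] at h2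
  obtain ⟨y, hy, hy'⟩ := (unr_bot hp.1 hp.2.2).2 (m : ℂ) (natCast_mem _ m) h2
  obtain ⟨k, rfl⟩ := Subring.mem_bot.mp hy
  apply hm
  have : (m : ℤ) = p * k := by exact_mod_cast hy'
  exact_mod_cast Dvd.intro k this.symm

theorem residue (hp : IsPModular p M) {x : ℂ} (hx : MemLocalRing M x) :
    ∃ c ∈ o, MemLocalIdeal M (x - c) := by
  by_cases h : MemLocalIdeal M x
  · exact ⟨0, o.zero_mem, by simpa using h⟩
  · obtain ⟨m, z, hm, hz, hl⟩ := exists_rootOfUnity hp hx h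
    exact ⟨z, ho.rootOfUnity hp hm hz, hl⟩

/-- elements of the fraction field of `o` in the local ring lie in `o` -/
theorem mem_of_mul (hp : IsPModular p M) {x b : ℂ} (hx : MemLocalRing M x) (hb : b ∈ o)
    (hb0 : b ≠ 0) (h : b * x ∈ o) : x ∈ o := by
  -- write b = p^n u with u a unit
  have key : ∀ n : ℕ, (∃ b' ∈ o, ¬ MemLocalIdeal M b' ∧ ∃ k ≤ n, b = (p : ℂ) ^ k * b') ∨
      ∃ b' ∈ o, b = (p : ℂ) ^ n * b' := by
    intro n
    induction n with
    | zero => exact Or.inr ⟨b, hb, by simp⟩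
    | succ n ih =>
      rcases ih with ⟨b', h1, h2, k, hk, h3⟩ | ⟨b', h1, h2⟩
      · exact Or.inl ⟨b', h1, h2, k, by omega, h3⟩
      · by_cases h3 : MemLocalIdeal M b'
        · obtain ⟨b'', h4, h5⟩ := ho.unr.2 b' h1 h3
          exact Or.inr ⟨b'', h4, by rw [h2, h5]; ring⟩
        · exact Or.inl ⟨b', h1, h3, n, by omega, h2⟩
  obtain ⟨k, u, hu, hul, hbu⟩ : ∃ (k : ℕ) (u : ℂ), u ∈ o ∧ ¬ MemLocalIdeal M u ∧
      b = (p : ℂ) ^ k * u := by
    by_contra hcon
    apply hb0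
    apply separated hp.1 hp.2.2 (ho.lr hb)
    intro n
    rcases key n with ⟨b', h1, h2, k, hk, h3⟩ | ⟨b', h1, h2⟩
    · exact absurd ⟨k, b', h1, h2, h3⟩ hcon
    · exact ⟨b', ho.lr h1, h2⟩
  have hp0 : (p : ℂ) ≠ 0 := by exact_mod_cast hp.1.ne_zero
  have hu0 := ne_zero_of_not_li hul
  -- p^k x ∈ o
  have h1 : (p : ℂ) ^ k * x ∈ o := by
    have : (p : ℂ) ^ k * x = u⁻¹ * (b * x) := by rw [hbu]; field_simp
    rw [this]
    exact o.mul_mem (ho.inv hu hul) h
  clear hbu h key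
  induction k with
  | zero => simpa using h1
  | succ k ih =>
    apply ih
    have hl : MemLocalIdeal M ((p : ℂ) ^ (k + 1) * x) := by
      rw [pow_succ, mul_assoc, mul_comm, mul_assoc]
      exact li_mul_right (li_p hp.2.2) (lr_mul hx (lr_pow (lr_natCast M p) k))
    obtain ⟨y, hy, hy'⟩ := ho.unr.2 _ h1 hl
    have : (p : ℂ) ^ k * x = y := by
      apply mul_left_cancel₀ hp0
      rw [← hy']; ring
    rw [this]; exact hy

end IsHen

end Cfsg.Agent.LD
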