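import Mathlib
import Cfsg.Agent.L.Hen3

set_option autoImplicit false

/-!
# Idempotent polynomials have coefficients in a maximal unramified subring
-/

namespace Cfsg.Agent.LD

open Cfsg Cfsg.Agent.H11 Cfsg.Agent.H26 Polynomial

variable {p : ℕ} {M : Ideal AlgInt} [hM : M.IsPrime]

section LocStructure

variable {T : Subring ℂ}

theorem loc_inv {x : ℂ} (hx : x ∈ loc M T) (hT : T ≤ locRing M) (h : ¬ MemLocalIdeal M x) :
    x⁻¹ ∈ loc M T := by
  obtain ⟨a, ha, b, hb, hb', hbr, rfl⟩ := hx
  refine ⟨b, hb, a, ha, ?_, hT ha, by rw [inv_div]⟩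
  intro hla
  exact h (li_div hla hbr hb')

/-- the ideal of small elements of the localisation -/
def mI (M : Ideal AlgInt) [M.IsPrime] (T : Subring ℂ) (hT : T ≤ locRing M) : Ideal (loc M T) where
  carrier := {x | MemLocalIdeal M (x : ℂ)}
  add_mem' := fun ha hb => li_add ha hb
  zero_mem' := li_zero M
  smul_mem' := fun c _ hx => li_mul_left (loc_le hT c.2) hx

theorem mem_mI {hT : T ≤ locRing M} {x : loc M T} : x ∈ mI M T hT ↔ MemLocalIdeal M (x : ℂ) :=
  Iff.rfl

theorem isUnit_loc_iff (hT : T ≤ locRing M) {x : loc M T} :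
    IsUnit x ↔ ¬ MemLocalIdeal M (x : ℂ) := by
  constructor
  · rintro ⟨u, rfl⟩ hl
    have h1 : ((u : loc M T) : ℂ) * ((u⁻¹ : (loc M T)ˣ) : loc M T) = 1 := by
      exact_mod_cast congrArg Subtype.val (u.mul_inv)
    have h2 := li_mul_right hl (loc_le hT ((u⁻¹ : (loc M T)ˣ) : loc M T).2)
    rw [h1] at h2
    exact not_li_one M h2
  · intro h
    refine IsUnit.of_mul_eq_one ⟨(x : ℂ)⁻¹, loc_inv x.2 hT h⟩ (Subtype.ext ?_)
    show (x : ℂ) * (x : ℂ)⁻¹ = 1
    exact mul_inv_cancel₀ (ne_zero_of_not_li h)

theorem isLocalRing_loc (hT : T ≤ locRing M) : IsLocalRing (loc M T) := by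
  refine IsLocalRing.of_nonunits_add ?_
  intro a b ha hb
  rw [mem_nonunits_iff, isUnit_loc_iff hT, not_not] at *
  exact li_add ha hb

theorem maximalIdeal_loc (hT : T ≤ locRing M) :
    @IsLocalRing.maximalIdeal _ _ (isLocalRing_loc hT) = mI M T hT := by
  let _ := isLocalRing_loc (M := M) hT
  ext x
  rw [IsLocalRing.mem_maximalIdeal, mem_nonunits_iff, isUnit_loc_iff hT, not_not]
  rfl

end LocStructure

theorem IsHen.idem {o : Subring ℂ} (ho : IsHen p M o) (hp : IsPModular p M) {f : o[X]}
    (hf : f.Monic) {F : ℂ[X]} (hF : ∀ i, MemLocalRing M (F.coeff i)) (hdeg : F.degree < f.degree)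
    (hdvd : f.map o.subtype ∣ F ^ 2 - F) (i : ℕ) : F.coeff i ∈ o := by
  classical
  -- small approximations of the coefficients
  have hch : ∀ i, ∃ c ∈ o, MemLocalIdeal M (F.coeff i - c) := fun i => ho.residue hp (hF i)
  choose c hco hc using hch
  set n := f.natDegree with hn
  have hcoef0 : ∀ j, n ≤ j → F.coeff j = 0 := by
    intro j hj
    apply coeff_eq_zero_of_degree_lt
    refine lt_of_lt_of_le hdeg ?_
    rw [degree_eq_natDegree hf.ne_zero]
    exact_mod_cast hj
  -- the ring generated by the coefficients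
  set T : Subring ℂ := Subring.closure ((o : Set ℂ) ∪ Set.range (fun j => F.coeff j)) with hTdef
  have hoT : o ≤ T := fun x hx => Subring.subset_closure (Or.inl hx)
  have hFT : ∀ j, F.coeff j ∈ T := fun j => Subring.subset_closure (Or.inr ⟨j, rfl⟩)
  have hT : T ≤ locRing M := by
    rw [hTdef, Subring.closure_le]
    rintro x (hx | ⟨j, rfl⟩)
    · exact ho.lr hx
    · exact hF j
  let A := loc M T
  let _ : IsLocalRing (loc M T) := isLocalRing_loc hT
  let incl : o →+* loc M T := Subring.inclusion (hoT.trans (le_loc T))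
  have hincl : (loc M T).subtype.comp incl = o.subtype := RingHom.ext fun x => rfl
  let fA : (loc M T)[X] := f.map incl
  have hfA : fA.Monic := hf.map _
  let F0 : o[X] := ∑ j ∈ Finset.range n, monomial j (⟨c j, hco j⟩ : o)
  let FA : (loc M T)[X] := ∑ j ∈ Finset.range n, monomial j (⟨F.coeff j, le_loc T (hFT j)⟩ : loc M T)
  have hF0c : ∀ j, (F0.coeff j : ℂ) = if j < n then c j else 0 := by
    intro j
    simp only [F0, finsetSum_coeff, coeff_monomial]
    rw [Finset.sum_ite_eq' (Finset.range n) j]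
    split_ifs with h1 h2 h2
    · rfl
    · exact absurd (Finset.mem_range.mp h1) h2
    · exact absurd (Finset.mem_range.mpr h2) h1
    · rfl
  have hFAc : ∀ j, (FA.coeff j : ℂ) = F.coeff j := by
    intro j
    simp only [FA, finsetSum_coeff, coeff_monomial]
    rw [Finset.sum_ite_eq' (Finset.range n) j]
    split_ifs with h1
    · rfl
    · rw [hcoef0 j (by simpa using h1)]; rfl
  have hFAmap : FA.map (loc M T).subtype = F := by
    ext j; rw [coeff_map]; exact hFAc j
  have hfAmap : fA.map (loc M T).subtype = f.map o.subtype := by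
    rw [Polynomial.map_map, hincl]
  have hdvdA : fA ∣ FA ^ 2 - FA := by
    rw [← map_dvd_map (loc M T).subtype (loc M T).subtype_injective hfA]
    simpa [Polynomial.map_sub, Polynomial.map_pow, hFAmap, hfAmap] using hdvd
  let D : (loc M T)[X] := FA - F0.map incl
  have hD : ∀ j, MemLocalIdeal M (D.coeff j : ℂ) := by
    intro j
    have h1 : (D.coeff j : ℂ) = F.coeff j - (if j < n then c j else 0) := by
      simp only [D, coeff_sub, coeff_map]
      rw [← hFAc j, ← hF0c j]; rfl
    rw [h1]
    split_ifs with h2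
    · exact hc j
    · rw [hcoef0 j (by omega), sub_zero]; exact li_zero M
  -- the residues of F0 ^ 2 - F0
  have hR : ∃ R : o[X], f ∣ F0 ^ 2 - F0 - C (p : o) * R := by
    let inclR : o →+* locRing M := Subring.inclusion ho.unr.1
    let r : locRing M →+* KF M := IsLocalRing.residue (locRing M)
    let FR : (locRing M)[X] := ∑ j ∈ Finset.range n, monomial j (⟨F.coeff j, hF j⟩ : locRing M)
    have hFRc : ∀ j, (FR.coeff j : ℂ) = F.coeff j := by
      intro j
      simp only [FR, finsetSum_coeff, coeff_monomial]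
      rw [Finset.sum_ite_eq' (Finset.range n) j]
      split_ifs with h1
      · rfl
      · rw [hcoef0 j (by simpa using h1)]; rfl
    have hFRmap : FR.map (locRing M).subtype = F := by
      ext j; rw [coeff_map]; exact hFRc j
    have hfRmap : (f.map inclR).map (locRing M).subtype = f.map o.subtype := by
      rw [Polynomial.map_map]; rfl
    have hdvdR : f.map inclR ∣ FR ^ 2 - FR := by
      rw [← map_dvd_map (locRing M).subtype (locRing M).subtype_injective (hf.map _)]
      simpa [Polynomial.map_sub, Polynomial.map_pow, hFRmap, hfRmap] using hdvd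
    have h1 : (f.map inclR).map r ∣ (FR.map r) ^ 2 - FR.map r := by
      have := Polynomial.map_dvd r hdvdR
      simpa [Polynomial.map_sub, Polynomial.map_pow] using this
    have h2 : FR.map r = (F0.map inclR).map r := by
      ext j
      rw [coeff_map, coeff_map, coeff_map]
      have h3 : MemLocalIdeal M ((FR.coeff j : ℂ) - ((inclR (F0.coeff j) : locRing M) : ℂ)) := by
        have e1 : ((inclR (F0.coeff j) : locRing M) : ℂ) = F0.coeff j := rfl
        rw [e1, hFRc, hF0c]
        split_ifs with h4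
        · exact hc j
        · rw [hcoef0 j (by omega), sub_zero]; exact li_zero M
      have h4 := (rd_eq_iff (FR.coeff j).2 (inclR (F0.coeff j)).2).mpr h3
      rwa [rd_coe, rd_coe] at h4
    rw [h2] at h1
    set R0 := (F0 ^ 2 - F0) %ₘ f with hR0
    have hdec : F0 ^ 2 - F0 = f * ((F0 ^ 2 - F0) /ₘ f) + R0 := by
      rw [add_comm]; exact (modByMonic_add_div _ f).symm
    have h3 : (f.map inclR).map r ∣ (R0.map inclR).map r := by
      have h4 : (R0.map inclR).map r = ((F0.map inclR).map r ^ 2 - (F0.map inclR).map r) -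
          (f.map inclR).map r * (((F0 ^ 2 - F0) /ₘ f).map inclR).map r := by
        have h5 := congrArg (fun q => (q.map inclR).map r) hdec
        simp only [Polynomial.map_sub, Polynomial.map_pow, Polynomial.map_add,
          Polynomial.map_mul] at h5
        rw [h5]; ring
      rw [h4]
      exact dvd_sub h1 (dvd_mul_right _ _)
    have h6 : (R0.map inclR).map r = 0 := by
      by_contra hb
      refine ((hf.map inclR).map r).not_dvd_of_degree_lt hb ?_ h3
      rw [(hf.map inclR).degree_map, hf.degree_map]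
      exact lt_of_le_of_lt degree_map_le (lt_of_le_of_lt degree_map_le
        (degree_modByMonic_lt _ hf))
    have h7 : C (p : o) ∣ R0 := by
      rw [C_dvd_iff_dvd_coeff]
      intro j
      have h8 := congrArg (fun q => q.coeff j) h6
      simp only [coeff_map, coeff_zero] at h8
      have h9 : MemLocalIdeal M (R0.coeff j : ℂ) := by
        have h10 : rd M ((inclR (R0.coeff j) : locRing M) : ℂ) = 0 := by rw [rd_coe]; exact h8
        exact (rd_eq_zero_iff (inclR (R0.coeff j)).2).mp h10
      obtain ⟨y, hy, hy'⟩ := ho.unr.2 _ (R0.coeff j).2 h9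
      exact ⟨⟨y, hy⟩, Subtype.ext (by simpa using hy')⟩
    obtain ⟨R, hR⟩ := h7
    refine ⟨R, (F0 ^ 2 - F0) /ₘ f, ?_⟩
    rw [← hR]
    linear_combination hdec
  -- the ideal J
  let J : Ideal (loc M T) := Ideal.span {(p : loc M T)} ⊔ (mI M T hT) ^ 2
  have hDJ : ∀ j, D.coeff j ∈ J := by
    by_cases hJ : J = ⊤
    · intro j; rw [hJ]; trivial
    have hJnt : Nontrivial ((loc M T) ⧸ J) := Ideal.Quotient.nontrivial_iff.mpr hJ
    let π := Ideal.Quotient.mk J
    have hpJ : π (p : loc M T) = 0 := by
      rw [Ideal.Quotient.eq_zero_iff_mem]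
      exact Ideal.mem_sup_left (Ideal.mem_span_singleton_self _)
    have hD2 : (D.map π) ^ 2 = 0 := by
      rw [← Polynomial.map_pow]
      ext j
      rw [coeff_map, coeff_zero, Ideal.Quotient.eq_zero_iff_mem, sq, coeff_mul]
      refine Ideal.sum_mem _ fun k _ => Ideal.mem_sup_right ?_
      rw [sq]
      exact Ideal.mul_mem_mul (hD _) (hD _)
    have hF0 : fA.map π ∣ (F0.map incl).map π ^ 2 - (F0.map incl).map π := by
      obtain ⟨R, hR⟩ := hR
      have h1 := Polynomial.map_dvd π (Polynomial.map_dvd incl hR)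
      have h2 : ((F0 ^ 2 - F0 - C (p : o) * R).map incl).map π =
          (F0.map incl).map π ^ 2 - (F0.map incl).map π := by
        have h3 : π (incl (p : o)) = 0 := by
          rw [map_natCast]; exact hpJ
        simp only [Polynomial.map_sub, Polynomial.map_pow, Polynomial.map_mul, Polynomial.map_C, h3]
        rw [C_0, zero_mul, sub_zero]
      rw [h2] at h1
      exact h1
    have hF1 : fA.map π ∣ (FA.map π) ^ 2 - FA.map π := by
      have := Polynomial.map_dvd π hdvdA
      simpa [Polynomial.map_sub, Polynomial.map_pow] using this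
    have hFD : FA.map π = (F0.map incl).map π + D.map π := by
      rw [← Polynomial.map_add]; congr 1; simp only [D]; ring
    set a := (F0.map incl).map π
    set b := D.map π
    have h3 : fA.map π ∣ (2 * a - 1) * b := by
      have h4 : (2 * a - 1) * b = ((FA.map π) ^ 2 - FA.map π) - (a ^ 2 - a) - b ^ 2 := by
        rw [hFD]; ring
      rw [h4, hD2, sub_zero]
      exact dvd_sub hF1 hF0
    have h5 : fA.map π ∣ b := by
      obtain ⟨u, hu⟩ := h3
      obtain ⟨v, hv⟩ := hF0
      exact ⟨(2 * a - 1) * u - 4 * v * b, by linear_combination (2 * a - 1) * hu - 4 * b * hv⟩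
    have h7 : b = 0 := by
      by_contra hb
      refine (hfA.map π).not_dvd_of_degree_lt hb ?_ h5
      have h8 : (fA.map π).degree = n := by
        rw [(hfA).degree_map, (hf).degree_map, degree_eq_natDegree hf.ne_zero]
      rw [h8]
      refine lt_of_le_of_lt degree_map_le ?_
      rw [degree_lt_iff_coeff_zero]
      intro j hj
      apply Subtype.ext
      have : (D.coeff j : ℂ) = F.coeff j - (if j < n then c j else 0) := by
        simp only [D, coeff_sub, coeff_map]
        rw [← hFAc j, ← hF0c j]; rfl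
      rw [this, hcoef0 j hj, if_neg (by omega), sub_zero]; rfl
    intro j
    have := congrArg (fun q => q.coeff j) h7
    simp only [b, coeff_map, coeff_zero] at this
    exact Ideal.Quotient.eq_zero_iff_mem.mp this
  -- generators
  let gens : Finset (loc M T) := insert (p : loc M T) ((Finset.range n).image fun j => D.coeff j)
  have happrox : ∀ x ∈ T, ∃ y ∈ o, ∃ z : loc M T, z ∈ Ideal.span (gens : Set (loc M T)) ∧
      x - y = (z : ℂ) := by
    intro x hx
    have hpg : (p : loc M T) ∈ Ideal.span (gens : Set (loc M T)) :=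
      Ideal.subset_span (by simp [gens])
    refine Subring.closure_induction (p := fun x _ => ∃ y ∈ o, ∃ z : loc M T,
      z ∈ Ideal.span (gens : Set (loc M T)) ∧ x - y = (z : ℂ)) ?_ ?_ ?_ ?_ ?_ ?_ hx
    · rintro x (hx | ⟨j, rfl⟩)
      · exact ⟨x, hx, 0, Ideal.zero_mem _, by simp⟩
      · by_cases hj : j < n
        · refine ⟨c j, hco j, D.coeff j, Ideal.subset_span ?_, ?_⟩
          · simp only [gens, Finset.coe_insert, Finset.coe_image]
            exact Or.inr ⟨j, by simpa using hj, rfl⟩
          · have h1 : (D.coeff j : ℂ) = F.coeff j - (if j < n then c j else 0) := by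
              simp only [D, coeff_sub, coeff_map]
              rw [← hFAc j, ← hF0c j]; rfl
            rw [h1, if_pos hj]
        · exact ⟨0, o.zero_mem, 0, Ideal.zero_mem _, by simp [hcoef0 j (by omega)]⟩
    · exact ⟨0, o.zero_mem, 0, Ideal.zero_mem _, by simp⟩
    · exact ⟨1, o.one_mem, 0, Ideal.zero_mem _, by simp⟩
    · rintro x y _ _ ⟨y1, h1, z1, h2, h3⟩ ⟨y2, h4, z2, h5, h6⟩
      exact ⟨y1 + y2, o.add_mem h1 h4, z1 + z2, Ideal.add_mem _ h2 h5, by
        push_cast; rw [← h3, ← h6]; ring⟩
    · rintro x _ ⟨y1, h1, z1, h2, h3⟩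
      exact ⟨-y1, o.neg_mem h1, -z1, (Ideal.neg_mem_iff _).mpr h2, by
        push_cast; rw [← h3]; ring⟩
    · rintro x y hx' hy' ⟨y1, h1, z1, h2, h3⟩ ⟨y2, h4, z2, h5, h6⟩
      refine ⟨y1 * y2, o.mul_mem h1 h4, z1 * incl ⟨y2, h4⟩ + z2 * (incl ⟨y1, h1⟩ + z1), ?_, ?_⟩
      · exact Ideal.add_mem _ (Ideal.mul_mem_right _ _ h2) (Ideal.mul_mem_right _ _ h5)
      · have e1 : ((incl ⟨y2, h4⟩ : loc M T) : ℂ) = y2 := rfl
        have e2 : ((incl ⟨y1, h1⟩ : loc M T) : ℂ) = y1 := rfl
        push_cast
        rw [e1, e2, ← h3, ← h6]; ring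
  have hgensle : Ideal.span (gens : Set (loc M T)) ≤ mI M T hT := by
    rw [Ideal.span_le]
    intro x hx
    simp only [gens, Finset.coe_insert, Finset.coe_image, Set.mem_insert_iff] at hx
    rcases hx with rfl | ⟨j, _, rfl⟩
    · show MemLocalIdeal M _
      simpa using li_p hp.2.2
    · exact hD j
  have hmI : mI M T hT = Ideal.span (gens : Set (loc M T)) := by
    refine le_antisymm ?_ hgensle
    rintro ⟨x, a, ha, b, hb, hb', hbr, rfl⟩ hx
    change MemLocalIdeal M (a / b) at hx
    obtain ⟨y, hy, z, hz, hyz⟩ := happrox a ha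
    have hla : MemLocalIdeal M a := by
      have := li_mul_left hbr hx
      rwa [mul_div_cancel₀ _ (ne_zero_of_not_li hb')] at this
    have hly : MemLocalIdeal M y := by
      have h1 : MemLocalIdeal M (z : ℂ) := hgensle hz
      have : y = a - z := by rw [← hyz]; ring
      rw [this]
      exact li_sub hla h1
    obtain ⟨y', hy', hyp⟩ := ho.unr.2 y hy hly
    have h2 : (⟨a / b, a, ha, b, hb, hb', hbr, rfl⟩ : loc M T) =
        ((p : loc M T) * incl ⟨y', hy'⟩ + z) *
          ⟨1 / b, 1, T.one_mem, b, hb, hb', hbr, rfl⟩ := by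
      apply Subtype.ext
      push_cast
      have e1 : ((incl ⟨y', hy'⟩ : loc M T) : ℂ) = y' := rfl
      rw [e1, ← hyp, ← hyz]
      ring
    rw [h2]
    refine Ideal.mul_mem_right _ _ (Ideal.add_mem _ (Ideal.mul_mem_right _ _ ?_) hz)
    exact Ideal.subset_span (by simp [gens])
  have hle : mI M T hT ≤ Ideal.span {(p : loc M T)} := by
    refine Submodule.le_of_le_smul_of_le_jacobson_bot (I := mI M T hT) ?_ ?_ ?_
    · rw [hmI]; exact ⟨gens, rfl⟩
    · rw [← maximalIdeal_loc hT]
      exact (IsLocalRing.jacobson_eq_maximalIdeal ⊥ bot_ne_top).ge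
    · rw [smul_eq_mul, ← sq]
      conv_lhs => rw [hmI]
      rw [Ideal.span_le]
      intro x hx
      simp only [gens, Finset.coe_insert, Finset.coe_image, Set.mem_insert_iff] at hx
      rcases hx with rfl | ⟨j, _, rfl⟩
      · exact Ideal.mem_sup_left (Ideal.mem_span_singleton_self _)
      · exact hDJ j
  have hunr : Unr p M (loc M T) := by
    refine ⟨loc_le hT, ?_⟩
    intro x hx hl
    have h1 : (⟨x, hx⟩ : loc M T) ∈ mI M T hT := hl
    obtain ⟨y, hy⟩ := Ideal.mem_span_singleton'.mp (hle h1)
    refine ⟨y, y.2, ?_⟩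
    have := congrArg Subtype.val hy
    push_cast at this
    rw [← this, mul_comm]
  exact ho.max _ hunr (hoT.trans (le_loc T)) (le_loc T (hFT i))

end Cfsg.Agent.LD
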