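import Mathlib
import Cfsg.Agent.L.Hen4
import Cfsg.Agent.H11.ClassAlg
import Cfsg.Agent.H11.Brauer

set_option autoImplicit false

/-!
# The order `oG` in the complex group algebra and primitive idempotents
-/

namespace Cfsg.Agent.LD

open Cfsg Cfsg.Agent.H11 Cfsg.Agent.H26 Polynomial

variable {p : ℕ} {M : Ideal AlgInt} [hM : M.IsPrime]
variable {G : Type*} [Group G] [Fintype G]

/-- the order `oG` -/
noncomputable def OG (o : Subring ℂ) (G : Type*) [Group G] : Subring (MonoidAlgebra ℂ G) :=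
  (MonoidAlgebra.mapRingHom G o.subtype).range

theorem mem_OG {o : Subring ℂ} {x : MonoidAlgebra ℂ G} : x ∈ OG o G ↔ ∀ g, x.coeff g ∈ o := by
  constructor
  · rintro ⟨y, rfl⟩ g
    rw [MonoidAlgebra.coeff_mapRingHom]
    exact (y.coeff g).2
  · intro h
    refine ⟨toAlg fun g => ⟨x.coeff g, h g⟩, ?_⟩
    ext g
    rw [MonoidAlgebra.coeff_mapRingHom, coeff_toAlg]
    rfl

theorem smul_mem_OG {o : Subring ℂ} {x : MonoidAlgebra ℂ G} (hx : x ∈ OG o G) {c : ℂ}
    (hc : c ∈ o) : c • x ∈ OG o G := by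
  rw [mem_OG] at *
  intro g
  rw [MonoidAlgebra.coeff_smul]
  exact o.mul_mem hc (hx g)

theorem OG_mono {o o' : Subring ℂ} (h : o ≤ o') : OG o G ≤ OG o' G := fun x hx => by
  rw [mem_OG] at *
  exact fun g => h (hx g)

theorem aeval_mem_OG {o : Subring ℂ} {x : MonoidAlgebra ℂ G} (hx : x ∈ OG o G) {F : ℂ[X]}
    (hF : ∀ i, F.coeff i ∈ o) : aeval x F ∈ OG o G := by
  rw [aeval_eq_sum_range]
  exact (OG o G).sum_mem fun i _ => smul_mem_OG ((OG o G).pow_mem hx i) (hF i)

/-- integrality -/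
theorem exists_monic {o : Subring ℂ} {x : MonoidAlgebra ℂ G} (hx : x ∈ OG o G) :
    ∃ f : o[X], f.Monic ∧ aeval x (f.map o.subtype) = 0 := by
  obtain ⟨y, rfl⟩ := hx
  have h1 : IsIntegral o y := IsIntegral.of_finite o y
  obtain ⟨f, hf, hfy⟩ := h1
  refine ⟨f, hf, ?_⟩
  have h2 := congrArg (MonoidAlgebra.mapRingHom G o.subtype) hfy
  rw [Polynomial.hom_eval₂, map_zero] at h2
  rw [aeval_def, eval₂_map, ← h2]
  congr 1
  ext c g
  rw [RingHom.comp_apply, RingHom.comp_apply, MonoidAlgebra.coeff_mapRingHom]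
  simp only [MonoidAlgebra.coe_algebraMap, Function.comp_apply]
  classical
  simp only [MonoidAlgebra.coeff_single, Finsupp.single_apply]
  split_ifs <;> simp

/-- reduction modulo `M` -/
noncomputable def red (M : Ideal AlgInt) [M.IsPrime] (x : MonoidAlgebra ℂ G) :
    MonoidAlgebra (KF M) G := toAlg fun g => rd M (x.coeff g)

theorem coeff_red (x : MonoidAlgebra ℂ G) (g : G) : (red M x).coeff g = rd M (x.coeff g) := rfl

theorem red_add {x y : MonoidAlgebra ℂ G} (hx : x ∈ OG (locRing M) G) (hy : y ∈ OG (locRing M) G) :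
    red M (x + y) = red M x + red M y := by
  ext g
  simp only [coeff_red, MonoidAlgebra.coeff_add, Finsupp.add_apply]
  exact rd_add (mem_OG.mp hx g) (mem_OG.mp hy g)

theorem red_smul {x : MonoidAlgebra ℂ G} (hx : x ∈ OG (locRing M) G) {c : ℂ}
    (hc : MemLocalRing M c) : red M (c • x) = rd M c • red M x := by
  ext g
  simp only [coeff_red, MonoidAlgebra.coeff_smul, Finsupp.smul_apply, smul_eq_mul]
  exact rd_mul hc (mem_OG.mp hx g)

theorem red_neg {x : MonoidAlgebra ℂ G} (hx : x ∈ OG (locRing M) G) :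
    red M (-x) = - red M x := by
  ext g
  simp only [coeff_red, MonoidAlgebra.coeff_neg, Finsupp.neg_apply]
  exact rd_neg (mem_OG.mp hx g)

theorem red_sub {x y : MonoidAlgebra ℂ G} (hx : x ∈ OG (locRing M) G) (hy : y ∈ OG (locRing M) G) :
    red M (x - y) = red M x - red M y := by
  rw [sub_eq_add_neg, red_add hx ((OG _ G).neg_mem hy), red_neg hy, ← sub_eq_add_neg]

theorem coeff_mul_sum' {R : Type*} [Semiring R] (A B : MonoidAlgebra R G) (x : G) :
    (A * B).coeff x = ∑ y, A.coeff y * B.coeff (y⁻¹ * x) := by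
  rw [MonoidAlgebra.coeff_mul_apply_left, Finsupp.sum_fintype _ _ (by simp)]

theorem red_mul {x y : MonoidAlgebra ℂ G} (hx : x ∈ OG (locRing M) G) (hy : y ∈ OG (locRing M) G) :
    red M (x * y) = red M x * red M y := by
  ext g
  rw [coeff_red, coeff_mul_sum', coeff_mul_sum', rd_sum]
  · exact Finset.sum_congr rfl fun z _ => rd_mul (mem_OG.mp hx _) (mem_OG.mp hy _)
  · exact fun z _ => lr_mul (mem_OG.mp hx _) (mem_OG.mp hy _)

theorem red_one : red M (1 : MonoidAlgebra ℂ G) = 1 := by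
  classical
  ext g
  rw [coeff_red, MonoidAlgebra.one_def, MonoidAlgebra.one_def]
  simp only [MonoidAlgebra.coeff_single, Finsupp.single_apply]
  split_ifs
  · exact rd_one
  · exact rd_zero

theorem red_pow {x : MonoidAlgebra ℂ G} (hx : x ∈ OG (locRing M) G) (n : ℕ) :
    red M (x ^ n) = red M x ^ n := by
  induction n with
  | zero => rw [pow_zero, pow_zero, red_one]
  | succ n ih => rw [pow_succ, pow_succ, red_mul ((OG _ G).pow_mem hx n) hx, ih]

theorem red_eq_zero_iff {x : MonoidAlgebra ℂ G} (hx : x ∈ OG (locRing M) G) :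
    red M x = 0 ↔ ∀ g, MemLocalIdeal M (x.coeff g) := by
  constructor
  · intro h g
    have := congrArg (fun z => z.coeff g) h
    exact (rd_eq_zero_iff (mem_OG.mp hx g)).mp this
  · intro h
    ext g
    exact (rd_eq_zero_iff (mem_OG.mp hx g)).mpr (h g)

namespace IsHen

variable {o : Subring ℂ} (ho : IsHen p M o)

include ho

theorem OG_le : OG o G ≤ OG (locRing M) G := OG_mono ho.unr.1

theorem exists_p_smul {x : MonoidAlgebra ℂ G} (hx : x ∈ OG o G) (h : red M x = 0) :
    ∃ w ∈ OG o G, x = (p : ℂ) • w := by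
  rw [red_eq_zero_iff (ho.OG_le hx)] at h
  rw [mem_OG] at hx
  choose w hw hw' using fun g => ho.unr.2 _ (hx g) (h g)
  refine ⟨toAlg w, mem_OG.mpr hw, ?_⟩
  ext g
  rw [MonoidAlgebra.coeff_smul, Finsupp.smul_apply, coeff_toAlg, smul_eq_mul]
  exact hw' g

theorem red_p_smul (hp : IsPModular p M) {w : MonoidAlgebra ℂ G} (hw : w ∈ OG (locRing M) G) :
    red M ((p : ℂ) • w) = 0 := by
  rw [red_smul hw (lr_natCast M p), rd_eq_zero_of_li (li_p hp.2.2), zero_smul]

/-- an element divisible by all powers of `p` vanishes -/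
theorem eq_zero_of_dvd (hp : IsPModular p M) {x : MonoidAlgebra ℂ G}
    (h : ∀ n : ℕ, ∃ w ∈ OG (locRing M) G, x = (p : ℂ) ^ n • w) : x = 0 := by
  ext g
  rw [MonoidAlgebra.coeff_zero, Finsupp.zero_apply]
  obtain ⟨w0, hw0, h0⟩ := h 0
  refine separated hp.1 hp.2.2 ?_ ?_
  · rw [h0, pow_zero, one_smul]; exact mem_OG.mp hw0 g
  · intro n
    obtain ⟨w, hw, h1⟩ := h n
    refine ⟨w.coeff g, mem_OG.mp hw g, ?_⟩
    rw [h1, MonoidAlgebra.coeff_smul, Finsupp.smul_apply, smul_eq_mul]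

end IsHen

/-- primitive idempotents of `oG` -/
structure Prim (o : Subring ℂ) (e : MonoidAlgebra ℂ G) : Prop where
  mem : e ∈ OG o G
  idem : e * e = e
  ne : e ≠ 0
  prim : ∀ f ∈ OG o G, f * f = f → e * f = f → f * e = f → f = 0 ∨ f = e

theorem aeval_mul_eigen {x v : MonoidAlgebra ℂ G} {c : ℂ} (h : x * v = c • v) (F : ℂ[X]) :
    aeval x F * v = F.eval c • v := by
  induction F using Polynomial.induction_on' with
  | add F1 F2 h1 h2 => rw [map_add, add_mul, h1, h2, eval_add, add_smul]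
  | monomial n a =>
    rw [aeval_monomial, eval_monomial, mul_assoc]
    have h1 : x ^ n * v = c ^ n • v := by
      induction n with
      | zero => simp
      | succ n ih => rw [pow_succ, mul_assoc, h, mul_smul_comm, ih, smul_smul, pow_succ, mul_comm]
    rw [h1, mul_smul_comm, ← Algebra.smul_def, smul_smul, mul_comm]

theorem exists_eigen {e x : MonoidAlgebra ℂ G} (he : e * e = e) (hne : e ≠ 0)
    (hex : e * x = x) : ∃ (c : ℂ) (v : MonoidAlgebra ℂ G), v ≠ 0 ∧ e * v = v ∧ x * v = c • v := by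
  let V : Submodule ℂ (MonoidAlgebra ℂ G) := LinearMap.range (LinearMap.mulLeft ℂ e)
  have heV : ∀ v ∈ V, e * v = v := by
    rintro v ⟨w, rfl⟩
    rw [LinearMap.mulLeft_apply, ← mul_assoc, he]
  let X : Module.End ℂ V := (LinearMap.mulLeft ℂ x).restrict (p := V) (q := V) (by
    intro v _
    exact ⟨x * v, by rw [LinearMap.mulLeft_apply, LinearMap.mulLeft_apply, ← mul_assoc, hex]⟩)
  have hnt : Nontrivial V := by
    refine ⟨⟨⟨e, ⟨1, by simp⟩⟩, 0, ?_⟩⟩
    intro h
    exact hne (congrArg Subtype.val h)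
  obtain ⟨c, hc⟩ := Module.End.exists_eigenvalue X
  obtain ⟨v, hv⟩ := hc.exists_hasEigenvector
  refine ⟨c, v, ?_, heV v v.2, ?_⟩
  · intro h
    exact hv.2 (Subtype.ext h)
  · have := congrArg Subtype.val hv.apply_eq_smul
    exact this

end Cfsg.Agent.LD
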