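import Mathlib
import Cfsg.Agent.L.Hen5

set_option autoImplicit false

/-!
# Primitive idempotents of `oG` have local corner rings
-/

namespace Cfsg.Agent.LD

open Cfsg Cfsg.Agent.H11 Cfsg.Agent.H26 Polynomial

variable {p : ℕ} {M : Ideal AlgInt} [hM : M.IsPrime]
variable {G : Type*} [Group G] [Fintype G]

theorem isCoprime_multiset_prod {R : Type*} [CommRing R] (A : Multiset R[X]) (b : R[X])
    (h : ∀ a ∈ A, IsCoprime a b) : IsCoprime A.prod b := by
  induction A using Multiset.induction_on with
  | empty => simpa using isCoprime_one_left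
  | cons a A ih =>
    rw [Multiset.prod_cons]
    exact (h a (Multiset.mem_cons_self a A)).mul_left
      (ih fun a' ha' => h a' (Multiset.mem_cons_of_mem ha'))

/-- approximation of `∏ (x - r)` by a power of `x - c` -/
theorem prod_approx {e x : MonoidAlgebra ℂ G} {c : ℂ} (he : e * e = e) (hex : e * x = x)
    (hxe : x * e = x) (heL : e ∈ OG (locRing M) G) (hx : x ∈ OG (locRing M) G)
    (hc : MemLocalRing M c) (D : Multiset ℂ) (hD : ∀ r ∈ D, MemLocalIdeal M (r - c)) :
    ∃ z : MonoidAlgebra ℂ G, (∀ g, MemLocalIdeal M (z.coeff g)) ∧ e * z = z ∧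
      aeval x ((D.map fun r => (X - C r : ℂ[X])).prod) * e =
        (x - c • e) ^ (Multiset.card D) * e + z := by
  induction D using Multiset.induction_on with
  | empty => exact ⟨0, by simpa using li_zero M, by simp, by simp⟩
  | cons r D ih =>
    obtain ⟨z, hz, hez, hzz⟩ := ih fun r' hr' => hD r' (Multiset.mem_cons_of_mem hr')
    have hr := hD r (Multiset.mem_cons_self r D)
    set j := x - c • e with hj
    have hej : e * j = j := by rw [hj, mul_sub, mul_smul_comm, he, hex]
    have hej' : ∀ n : ℕ, e * (j ^ n * e) = j ^ n * e := by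
      intro n
      cases n with
      | zero => simp [he]
      | succ n => rw [← mul_assoc, pow_succ', ← mul_assoc, hej]
    have hjL : j ∈ OG (locRing M) G := (OG _ G).sub_mem hx (smul_mem_OG heL hc)
    refine ⟨(c - r) • (j ^ Multiset.card D * e) + (j * z + (c - r) • z), ?_, ?_, ?_⟩
    · have hcr : MemLocalIdeal M (c - r) := li_sub_comm.mp hr
      intro g
      simp only [MonoidAlgebra.coeff_add, MonoidAlgebra.coeff_smul, Finsupp.add_apply,
        Finsupp.smul_apply, smul_eq_mul]
      refine li_add (li_mul_right hcr (mem_OG.mp ((OG _ G).mul_mem ((OG _ G).pow_mem hjL _) heL) g))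
        (li_add ?_ (li_mul_left (li_lr hcr) (hz g)))
      rw [coeff_mul_sum']
      exact li_sum _ _ fun y _ => li_mul_left (mem_OG.mp hjL y) (hz _)
    · rw [mul_add, mul_add, mul_smul_comm, mul_smul_comm, hej', hez, ← mul_assoc, hej]
    · rw [Multiset.map_cons, Multiset.prod_cons, map_mul, mul_assoc, hzz, Multiset.card_cons,
        map_sub, aeval_X, aeval_C, sub_mul]
      have h1 : x = j + c • e := by rw [hj]; abel
      have h2 : x * (j ^ Multiset.card D * e + z) =
          j * (j ^ Multiset.card D * e + z) + c • (j ^ Multiset.card D * e + z) := by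
        conv_lhs => rw [h1]
        rw [add_mul, smul_mul_assoc, mul_add e, hej', hez]
      rw [h2, ← Algebra.smul_def, pow_succ', mul_add, ← mul_assoc j]
      module

namespace IsHen

variable {o : Subring ℂ} (ho : IsHen p M o)

include ho

/-- every element of the corner ring of a primitive idempotent is a scalar plus a topologically
nilpotent element -/
theorem corner (hp : IsPModular p M) {e : MonoidAlgebra ℂ G} (he : Prim o e)
    {x : MonoidAlgebra ℂ G} (hx : x ∈ OG o G) (hex : e * x = x) (hxe : x * e = x) :
    ∃ c ∈ o, IsNilpotent (red M (x - c • e)) := by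
  classical
  obtain ⟨f, hf, hfx⟩ := exists_monic hx
  obtain ⟨l, v, hv0, hev, hxv⟩ := exists_eigen he.idem he.ne hex
  have hfl : (f.map o.subtype).eval l = 0 := by
    have h1 := aeval_mul_eigen hxv (f.map o.subtype)
    rw [hfx, zero_mul] at h1
    exact (smul_eq_zero.mp h1.symm).resolve_right hv0
  let inclR : o →+* locRing M := Subring.inclusion ho.unr.1
  have hroot : ∀ r : ℂ, (f.map o.subtype).eval r = 0 → MemLocalRing M r := by
    intro r hr
    refine lr_of_isIntegral_locRing ⟨f.map inclR, hf.map _, ?_⟩
    rw [eval₂_map]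
    rw [eval_map] at hr
    exact hr
  have hll := hroot l hfl
  obtain ⟨c, hco, hc⟩ := ho.residue hp hll
  have hfm0 : (f.map o.subtype) ≠ 0 := (hf.map _).ne_zero
  -- factorisation over ℂ
  have hsplit : f.map o.subtype = ((f.map o.subtype).roots.map fun r => (X - C r : ℂ[X])).prod := by
    have := (IsAlgClosed.splits (f.map o.subtype)).eq_prod_roots_of_monic (hf.map _)
    exact this
  obtain ⟨A, hA⟩ : ∃ A : Multiset (locRing M), A.map (locRing M).subtype = (f.map o.subtype).roots := by
    have : ∀ r ∈ (f.map o.subtype).roots, r ∈ locRing M := fun r hr =>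
      hroot r ((mem_roots hfm0).mp hr)
    have key : ∀ B : Multiset ℂ, (∀ r ∈ B, r ∈ locRing M) →
        ∃ A : Multiset (locRing M), A.map (locRing M).subtype = B := by
      intro B
      induction B using Multiset.induction_on with
      | empty => intro _; exact ⟨0, rfl⟩
      | cons b B ih =>
        intro h
        obtain ⟨A, hA⟩ := ih fun r hr => h r (Multiset.mem_cons_of_mem hr)
        exact ⟨⟨b, h b (Multiset.mem_cons_self b B)⟩ ::ₘ A, by rw [Multiset.map_cons, hA]; rfl⟩
    exact key _ this
  let A1 : Multiset (locRing M) := A.filter fun r => MemLocalIdeal M ((r : ℂ) - c)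
  let A2 : Multiset (locRing M) := A.filter fun r => ¬ MemLocalIdeal M ((r : ℂ) - c)
  let g : (locRing M)[X] := (A1.map fun r : locRing M => (X - C r : (locRing M)[X])).prod
  let h : (locRing M)[X] := (A2.map fun r : locRing M => (X - C r : (locRing M)[X])).prod
  have hfgh : f.map inclR = g * h := by
    apply Polynomial.map_injective (locRing M).subtype (locRing M).subtype_injective
    have h1 : (f.map inclR).map (locRing M).subtype = f.map o.subtype := by
      rw [Polynomial.map_map]; rfl
    rw [h1, hsplit, ← hA]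
    simp only [g, h]
    rw [← Multiset.prod_add, ← Multiset.map_add, Multiset.filter_add_not,
      Polynomial.map_multiset_prod, Multiset.map_map, Multiset.map_map]
    congr 1
    apply Multiset.map_congr rfl
    intro r _
    simp
  have hcop : IsCoprime g h := by
    refine isCoprime_multiset_prod _ _ ?_
    intro a ha
    obtain ⟨r, hr, rfl⟩ := Multiset.mem_map.mp ha
    apply IsCoprime.symm
    refine isCoprime_multiset_prod _ _ ?_
    intro b hb
    obtain ⟨s, hs, rfl⟩ := Multiset.mem_map.mp hb
    have hr1 : MemLocalIdeal M ((r : ℂ) - c) := (Multiset.mem_filter.mp hr).2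
    have hs1 : ¬ MemLocalIdeal M ((s : ℂ) - c) := (Multiset.mem_filter.mp hs).2
    have hrs : ¬ MemLocalIdeal M ((r : ℂ) - s) := by
      intro h3
      apply hs1
      have := li_sub hr1 h3
      have h4 : (r : ℂ) - c - (r - s) = s - c := by ring
      rwa [h4] at this
    have hu : ((r : ℂ) - s)⁻¹ ∈ locRing M := lr_inv (lr_sub r.2 s.2) hrs
    refine ⟨C ⟨_, hu⟩, -C ⟨_, hu⟩, ?_⟩
    have h5 : (⟨((r : ℂ) - s)⁻¹, hu⟩ : locRing M) * (r - s) = 1 := by
      apply Subtype.ext
      push_cast
      exact inv_mul_cancel₀ (ne_zero_of_not_li hrs)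
    have h6 : C (⟨((r : ℂ) - s)⁻¹, hu⟩ : locRing M) * (X - C s) +
        -C (⟨((r : ℂ) - s)⁻¹, hu⟩ : locRing M) * (X - C r) =
        C ((⟨((r : ℂ) - s)⁻¹, hu⟩ : locRing M) * (r - s)) := by
      rw [C_mul, C_sub]; ring
    rw [h6, h5, C_1]
  obtain ⟨u, w, huw⟩ := hcop
  have hfR : (f.map inclR).Monic := hf.map _
  let F : (locRing M)[X] := (w * h) %ₘ (f.map inclR)
  obtain ⟨q, hq⟩ : ∃ q, w * h = F + (f.map inclR) * q :=
    ⟨_, (modByMonic_add_div (w * h) (f.map inclR)).symm⟩
  have hFF : f.map inclR ∣ F ^ 2 - F := by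
    have h1 : (w * h) ^ 2 - w * h = - (f.map inclR) * (u * w) := by
      rw [hfgh]
      linear_combination (w * h) * huw
    have h2 : F = w * h - (f.map inclR) * q := by rw [hq]; ring
    refine ⟨- (u * w) - 2 * (w * h) * q + (f.map inclR) * q ^ 2 + q, ?_⟩
    rw [h2]
    linear_combination h1
  have hFdeg : F.degree < (f.map inclR).degree := degree_modByMonic_lt _ hfR
  have hmap : (f.map inclR).map (locRing M).subtype = f.map o.subtype := by
    rw [Polynomial.map_map]; rfl
  let FC : ℂ[X] := F.map (locRing M).subtype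
  have hFCo : ∀ i, FC.coeff i ∈ o := by
    refine ho.idem hp hf (F := FC) ?_ ?_ ?_
    · intro i
      simp only [FC, coeff_map]
      exact (F.coeff i).2
    · refine lt_of_le_of_lt degree_map_le ?_
      rwa [hf.degree_map] at hFdeg
    · have := Polynomial.map_dvd (locRing M).subtype hFF
      rw [hmap] at this
      simpa [Polynomial.map_sub, Polynomial.map_pow] using this
  -- the idempotent
  have hcomm : Commute e (aeval x FC) := by
    rw [aeval_eq_sum_range]
    refine Commute.sum_right _ _ _ fun i _ => ?_
    refine Commute.smul_right ?_ _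
    refine Commute.pow_right ?_ _
    show e * x = x * e
    rw [hex, hxe]
  let e1 := aeval x FC * e
  have he1O : e1 ∈ OG o G := (OG o G).mul_mem (aeval_mem_OG hx hFCo) he.mem
  have hee1 : e * e1 = e1 := by
    show e * (aeval x FC * e) = aeval x FC * e
    rw [← mul_assoc, hcomm.eq, mul_assoc, he.idem]
  have he1e : e1 * e = e1 := by
    show aeval x FC * e * e = aeval x FC * e
    rw [mul_assoc, he.idem]
  have hfx0 : aeval x (f.map o.subtype) = 0 := hfx
  have hidem : e1 * e1 = e1 := by
    have h1 : f.map o.subtype ∣ FC ^ 2 - FC := by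
      have := Polynomial.map_dvd (locRing M).subtype hFF
      rw [hmap] at this
      simpa [Polynomial.map_sub, Polynomial.map_pow] using this
    obtain ⟨q2, hq2⟩ := h1
    have h2 : aeval x FC * aeval x FC = aeval x FC := by
      have := congrArg (aeval x) hq2
      rw [map_mul, hfx0, zero_mul, map_sub, map_pow, sub_eq_zero, sq] at this
      exact this
    show aeval x FC * e * (aeval x FC * e) = aeval x FC * e
    rw [mul_assoc, ← mul_assoc e, hcomm.eq, mul_assoc _ e e, he.idem, ← mul_assoc, h2]
  -- evaluation at l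
  let gC : ℂ[X] := g.map (locRing M).subtype
  have hgl : gC.eval l = 0 := by
    have hlr : l ∈ (f.map o.subtype).roots := (mem_roots hfm0).mpr hfl
    rw [← hA] at hlr
    obtain ⟨r, hr, hrl⟩ := Multiset.mem_map.mp hlr
    have hr2 : r ∈ A1 := Multiset.mem_filter.mpr ⟨hr, by
      have h7 : (r : ℂ) = l := hrl
      rw [h7]; exact hc⟩
    have h1 : (X - C r) ∣ g := Multiset.dvd_prod (Multiset.mem_map_of_mem _ hr2)
    obtain ⟨q3, hq3⟩ := h1
    show (g.map (locRing M).subtype).eval l = 0
    rw [hq3, Polynomial.map_mul, eval_mul, Polynomial.map_sub, map_X, map_C, eval_sub, eval_X,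
      eval_C]
    have : (locRing M).subtype r = l := hrl
    rw [this, sub_self, zero_mul]
  have hFl : FC.eval l = 1 := by
    have h1 := congrArg (fun P => (P.map (locRing M).subtype).eval l) hq
    have h2 := congrArg (fun P => (P.map (locRing M).subtype).eval l) huw
    simp only [Polynomial.map_mul, Polynomial.map_add, Polynomial.map_one, eval_mul, eval_add,
      eval_one] at h1 h2
    rw [hmap, hfl, zero_mul, add_zero] at h1
    have h3 : (g.map (locRing M).subtype).eval l = 0 := hgl
    rw [h3, mul_zero, zero_add] at h2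
    rw [h2] at h1
    exact h1.symm
  have he1ne : e1 ≠ 0 := by
    intro h0
    have h1 : e1 * v = v := by
      show aeval x FC * e * v = v
      rw [mul_assoc, hev, aeval_mul_eigen hxv, hFl, one_smul]
    rw [h0, zero_mul] at h1
    exact hv0 h1.symm
  have he1eq : e1 = e := (he.prim e1 he1O hidem hee1 he1e).resolve_left he1ne
  -- g(x) e = 0
  have hgx : aeval x gC * e = 0 := by
    rw [← he1eq]
    show aeval x gC * (aeval x FC * e) = 0
    rw [← mul_assoc, ← map_mul]
    have h1 : gC * FC = f.map o.subtype * ((w - g * q).map (locRing M).subtype) := by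
      have h2 : g * F = f.map inclR * (w - g * q) := by
        have h3 : F = w * h - (f.map inclR) * q := by rw [hq]; ring
        rw [h3, hfgh]; ring
      have := congrArg (fun P => P.map (locRing M).subtype) h2
      simp only [Polynomial.map_mul, hmap] at this
      exact this
    rw [h1, map_mul, hfx0, zero_mul, zero_mul]
  have hgprod : gC = ((A1.map (locRing M).subtype).map fun r => (X - C r : ℂ[X])).prod := by
    show (A1.map fun r : locRing M => (X - C r : (locRing M)[X])).prod.map (locRing M).subtype = _
    rw [Polynomial.map_multiset_prod, Multiset.map_map, Multiset.map_map]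
    congr 1
    apply Multiset.map_congr rfl
    intro r _
    simp
  have heL : e ∈ OG (locRing M) G := ho.OG_le he.mem
  have hxL : x ∈ OG (locRing M) G := ho.OG_le hx
  have hcL : MemLocalRing M c := ho.lr hco
  obtain ⟨z, hz, hez, hzz⟩ := prod_approx he.idem hex hxe heL hxL hcL
    (A1.map (locRing M).subtype) (by
      intro r hr
      obtain ⟨s, hs, rfl⟩ := Multiset.mem_map.mp hr
      exact (Multiset.mem_filter.mp hs).2)
  rw [← hgprod, hgx] at hzz
  refine ⟨c, hco, Multiset.card (A1.map (locRing M).subtype) + 1, ?_⟩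
  set n := Multiset.card (A1.map (locRing M).subtype)
  set j := x - c • e with hj
  have hjL : j ∈ OG (locRing M) G := (OG _ G).sub_mem hxL (smul_mem_OG heL hcL)
  have hje : j = e * j := by rw [hj, mul_sub, mul_smul_comm, he.idem, hex]
  rw [← red_pow hjL]
  have h1 : j ^ (n + 1) = - (z * j) := by
    have h8 : j ^ n * e = -z := eq_neg_of_add_eq_zero_left hzz.symm
    calc j ^ (n + 1) = j ^ n * j := pow_succ j n
      _ = j ^ n * (e * j) := by rw [← hje]
      _ = j ^ n * e * j := (mul_assoc _ _ _).symm
      _ = -(z * j) := by rw [h8, neg_mul]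
  have hzL : z ∈ OG (locRing M) G := mem_OG.mpr fun g => li_lr (hz g)
  rw [h1, red_neg ((OG _ G).mul_mem hzL hjL), red_mul hzL hjL, (red_eq_zero_iff hzL).mpr hz,
    zero_mul, neg_zero]

end IsHen

end Cfsg.Agent.LD
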