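import Mathlib
import Cfsg.Agent.L.Hen6

set_option autoImplicit false

/-!
# The radical of the corner ring of a primitive idempotent
-/

namespace Cfsg.Agent.LD

open Cfsg Cfsg.Agent.H11 Cfsg.Agent.H26 Polynomial

variable {p : ℕ} {M : Ideal AlgInt} [hM : M.IsPrime]
variable {G : Type*} [Group G] [Fintype G]

/-- the corner ring `e oG e` -/
structure InE (o : Subring ℂ) (e x : MonoidAlgebra ℂ G) : Prop where
  mem : x ∈ OG o G
  left : e * x = x
  right : x * e = x

/-- the radical -/
structure InJ (M : Ideal AlgInt) [M.IsPrime] (o : Subring ℂ) (e x : MonoidAlgebra ℂ G) : Prop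
    extends InE o e x where
  nil : IsNilpotent (red M x)

namespace InE

variable {o : Subring ℂ} {e x y : MonoidAlgebra ℂ G}

theorem zero : InE o e (0 : MonoidAlgebra ℂ G) := ⟨(OG o G).zero_mem, by simp, by simp⟩

theorem add (hx : InE o e x) (hy : InE o e y) : InE o e (x + y) :=
  ⟨(OG o G).add_mem hx.mem hy.mem, by rw [mul_add, hx.left, hy.left],
    by rw [add_mul, hx.right, hy.right]⟩

theorem neg (hx : InE o e x) : InE o e (-x) :=
  ⟨(OG o G).neg_mem hx.mem, by rw [mul_neg, hx.left], by rw [neg_mul, hx.right]⟩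

theorem sub (hx : InE o e x) (hy : InE o e y) : InE o e (x - y) := by
  rw [sub_eq_add_neg]; exact hx.add hy.neg

theorem mul (hx : InE o e x) (hy : InE o e y) : InE o e (x * y) :=
  ⟨(OG o G).mul_mem hx.mem hy.mem, by rw [← mul_assoc, hx.left], by rw [mul_assoc, hy.right]⟩

theorem smul (hx : InE o e x) {c : ℂ} (hc : c ∈ o) : InE o e (c • x) :=
  ⟨smul_mem_OG hx.mem hc, by rw [mul_smul_comm, hx.left], by rw [smul_mul_assoc, hx.right]⟩

end InE

theorem Prim.inE {o : Subring ℂ} {e : MonoidAlgebra ℂ G} (he : Prim o e) : InE o e e :=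
  ⟨he.mem, he.idem, he.idem⟩

/-- a nilpotent element of a corner ring is not left invertible -/
theorem nil_left {A : Type*} [Ring A] {e a z : A} (hea : e * a = a) (h : IsNilpotent a)
    (hz : z * a = e) : e = 0 := by
  by_contra hne
  obtain ⟨n, hn⟩ := h
  have key : ∀ m, a ^ (m + 1) ≠ 0 := by
    intro m
    induction m with
    | zero => intro h0; apply hne; rw [← hz]; rw [zero_add, pow_one] at h0; rw [h0, mul_zero]
    | succ m ih =>
      intro h0
      apply ih
      calc a ^ (m + 1) = e * a ^ (m + 1) := by rw [pow_succ', ← mul_assoc, hea]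
        _ = z * a ^ (m + 2) := by rw [← hz, mul_assoc, ← pow_succ']
        _ = 0 := by rw [h0, mul_zero]
  apply key n
  rw [pow_succ, hn, zero_mul]

/-- a nilpotent element of a corner ring is not right invertible -/
theorem nil_right {A : Type*} [Ring A] {e a z : A} (hea : a * e = a) (h : IsNilpotent a)
    (hz : a * z = e) : e = 0 := by
  by_contra hne
  obtain ⟨n, hn⟩ := h
  have key : ∀ m, a ^ (m + 1) ≠ 0 := by
    intro m
    induction m with
    | zero => intro h0; apply hne; rw [← hz]; rw [zero_add, pow_one] at h0; rw [h0, zero_mul]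
    | succ m ih =>
      intro h0
      apply ih
      calc a ^ (m + 1) = a ^ (m + 1) * e := by rw [pow_succ, mul_assoc, hea]
        _ = a ^ (m + 2) * z := by rw [← hz, ← mul_assoc, ← pow_succ]
        _ = 0 := by rw [h0, zero_mul]
  apply key n
  rw [pow_succ, hn, zero_mul]

namespace IsHen

variable {o : Subring ℂ} (ho : IsHen p M o)

include ho

/-- `1 + p w` is a unit of `oG` -/
theorem isUnit_one_add (hp : IsPModular p M) {w : MonoidAlgebra ℂ G} (hw : w ∈ OG o G) :
    ∃ z ∈ OG o G, (1 + (p : ℂ) • w) * z = 1 ∧ z * (1 + (p : ℂ) • w) = 1 := by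
  obtain ⟨f, hf, hfw⟩ := exists_monic hw
  let F : o[X] := f.scaleRoots (p : o)
  have hFm : F.Monic := (monic_scaleRoots_iff _).mpr hf
  have hF0 : aeval ((p : ℂ) • w) (F.map o.subtype) = 0 := by
    have h1 := scaleRoots_aeval_eq_zero (r := (p : ℂ)) hfw
    rw [← Algebra.smul_def] at h1
    have h2 : F.map o.subtype = (f.map o.subtype).scaleRoots (p : ℂ) := by
      rw [map_scaleRoots]
      · congr 1
      · rw [hf.leadingCoeff, map_one]; exact one_ne_zero
    rw [h2]; exact h1
  -- the value at -1 is a unit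
  have hli : ¬ MemLocalIdeal M (((F.eval (-1) : o)) : ℂ) := by
    intro hli
    have h1 : F.eval (-1) = ∑ i ∈ Finset.range (F.natDegree + 1), F.coeff i * (-1) ^ i :=
      eval_eq_sum_range _
    rw [h1, Finset.sum_range_succ] at hli
    have h2 : F.natDegree = f.natDegree := natDegree_scaleRoots _ _
    have h3 : MemLocalIdeal M (((∑ i ∈ Finset.range F.natDegree, F.coeff i * (-1) ^ i : o)) : ℂ) := by
      push_cast
      refine li_sum _ _ fun i hi => ?_
      refine li_mul_right ?_ (ho.lr (o.pow_mem (o.neg_mem o.one_mem) i))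
      rw [coeff_scaleRoots]
      push_cast
      refine li_mul_left (ho.lr (f.coeff i).2) ?_
      have h4 : f.natDegree - i ≠ 0 := by
        have := Finset.mem_range.mp hi
        omega
      exact (li_pow_iff (lr_natCast M p) h4).mpr (li_p hp.2.2)
    have h5 : MemLocalIdeal M (((F.coeff F.natDegree * (-1) ^ F.natDegree : o)) : ℂ) := by
      have := li_sub hli h3
      push_cast at this ⊢
      simpa using this
    rw [hFm.coeff_natDegree, one_mul] at h5
    push_cast at h5
    have h6 := li_mul_left (ho.lr (o.pow_mem (o.neg_mem o.one_mem) F.natDegree)) h5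
    rw [← mul_pow, neg_one_mul, neg_neg, one_pow] at h6
    exact not_li_one M h6
  obtain ⟨g, hg⟩ := X_sub_C_dvd_sub_C_eval (a := (-1 : o)) (p := F)
  have hc := ho.inv (F.eval (-1)).2 hli
  have hc0 : ((F.eval (-1) : o) : ℂ) ≠ 0 := ne_zero_of_not_li hli
  let z : MonoidAlgebra ℂ G := (-((F.eval (-1) : o) : ℂ)⁻¹) • aeval ((p : ℂ) • w) (g.map o.subtype)
  have hpw : (p : ℂ) • w ∈ OG o G := smul_mem_OG hw (natCast_mem o p)
  have hz : z ∈ OG o G := smul_mem_OG
    (aeval_mem_OG hpw fun i => by rw [coeff_map]; exact (g.coeff i).2) (o.neg_mem hc)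
  have h7 := congrArg (fun P => aeval ((p : ℂ) • w) (P.map o.subtype)) hg
  simp only [Polynomial.map_sub, Polynomial.map_mul, map_sub, map_mul, hF0, map_X, map_C,
    aeval_X, aeval_C, map_neg, map_one, zero_sub, sub_neg_eq_add, Polynomial.map_add,
    Polynomial.map_one, map_add] at h7
  have h8 : (1 + (p : ℂ) • w) * z = 1 := by
    show (1 + (p : ℂ) • w) * ((-((F.eval (-1) : o) : ℂ)⁻¹) • _) = 1
    rw [mul_smul_comm, add_comm 1, ← h7, Algebra.algebraMap_eq_smul_one, ← neg_smul, smul_smul]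
    rw [Subring.coe_subtype, neg_mul_neg, inv_mul_cancel₀ hc0, one_smul]
  refine ⟨z, hz, h8, ?_⟩
  have hcm : Commute (1 + (p : ℂ) • w) z := by
    refine Commute.smul_right ?_ _
    have : (1 + (p : ℂ) • w) = aeval ((p : ℂ) • w) (1 + X : ℂ[X]) := by simp
    rw [this]
    exact Commute.all (1 + X : ℂ[X]) (g.map o.subtype) |>.map (aeval ((p : ℂ) • w))
  rw [← hcm.eq, h8]

theorem red_ne_zero {e : MonoidAlgebra ℂ G} (he : e ∈ OG o G) (hee : e * e = e)
    (hne : e ≠ 0) (hp : IsPModular p M) : red M e ≠ 0 := by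
  intro h
  apply hne
  apply ho.eq_zero_of_dvd hp
  obtain ⟨w, hw, h1⟩ := ho.exists_p_smul he h
  intro n
  refine ⟨w ^ n * e, (OG _ G).mul_mem ((OG _ G).pow_mem (ho.OG_le hw) n) (ho.OG_le he), ?_⟩
  rw [← smul_mul_assoc, ← _root_.smul_pow, ← h1]
  clear h1
  induction n with
  | zero => simp
  | succ n ih => rw [pow_succ, mul_assoc, hee, ← ih]

/-- elements outside the radical are invertible -/
theorem inv_of_not_inJ (hp : IsPModular p M) {e x : MonoidAlgebra ℂ G} (he : Prim o e)
    (hx : InE o e x) (hxJ : ¬ InJ M o e x) : ∃ z, InE o e z ∧ x * z = e ∧ z * x = e := by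
  obtain ⟨c, hc, hn⟩ := ho.corner hp he hx.mem hx.left hx.right
  have hce : InE o e (c • e) := he.inE.smul hc
  have hc1 : ¬ MemLocalIdeal M c := by
    intro h
    apply hxJ
    refine ⟨hx, ?_⟩
    rwa [red_sub (ho.OG_le hx.mem) (ho.OG_le hce.mem), red_smul (ho.OG_le he.mem) (ho.lr hc),
      rd_eq_zero_of_li h, zero_smul, sub_zero] at hn
  have hc' := ho.inv hc hc1
  have hc0 := ne_zero_of_not_li hc1
  let n : MonoidAlgebra ℂ G := e - c⁻¹ • x
  have hnE : InE o e n := he.inE.sub (hx.smul hc')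
  have hnn : IsNilpotent (red M n) := by
    have h1 : n = (-c⁻¹) • (x - c • e) := by
      show e - c⁻¹ • x = (-c⁻¹) • (x - c • e)
      rw [smul_sub, smul_smul, neg_mul, inv_mul_cancel₀ hc0, neg_smul, neg_smul, one_smul]
      abel
    rw [h1, red_smul (ho.OG_le (hx.sub hce).mem) (ho.lr (o.neg_mem hc'))]
    exact hn.smul _
  obtain ⟨K, hK⟩ := hnn
  rw [← red_pow (ho.OG_le hnE.mem)] at hK
  obtain ⟨w, hw, hnw⟩ := ho.exists_p_smul ((OG o G).pow_mem hnE.mem K) hK
  obtain ⟨z, hz, hz1, hz2⟩ := ho.isUnit_one_add hp ((OG o G).neg_mem hw)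
  have hU : (1 + (p : ℂ) • -w) = 1 - n ^ K := by rw [hnw, smul_neg, sub_eq_add_neg]
  rw [hU] at hz1 hz2
  let S : MonoidAlgebra ℂ G := ∑ i ∈ Finset.range K, n ^ i
  have hS1 : (1 - n) * S = 1 - n ^ K := mul_neg_geom_sum n K
  have hS2 : S * (1 - n) = 1 - n ^ K := geom_sum_mul_neg n K
  have hS : S ∈ OG o G := (OG o G).sum_mem fun i _ => (OG o G).pow_mem hnE.mem i
  have hr : (1 - n) * (S * z) = 1 := by rw [← mul_assoc, hS1, hz1]
  have hl : (z * S) * (1 - n) = 1 := by rw [mul_assoc, hS2, hz2]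
  have hlr : z * S = S * z := by
    calc z * S = z * S * ((1 - n) * (S * z)) := by rw [hr, mul_one]
      _ = (z * S * (1 - n)) * (S * z) := by simp only [mul_assoc]
      _ = S * z := by rw [hl, one_mul]
  let y := S * z
  have hy : y ∈ OG o G := (OG o G).mul_mem hS hz
  have hy1 : (1 - n) * y = 1 := hr
  have hy2 : y * (1 - n) = 1 := by
    show (S * z) * (1 - n) = 1
    rw [← hlr, hl]
  have hen : e * (1 - n) = (1 - n) * e := by rw [mul_sub, sub_mul, hnE.left, hnE.right, mul_one, one_mul]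
  have hey : e * y = y * e := by
    calc e * y = y * (1 - n) * (e * y) := by rw [hy2, one_mul]
      _ = y * ((1 - n) * e) * y := by simp only [mul_assoc]
      _ = y * (e * (1 - n)) * y := by rw [hen]
      _ = y * e * ((1 - n) * y) := by simp only [mul_assoc]
      _ = y * e := by rw [hy1, mul_one]
  have hxn : c⁻¹ • x = e * (1 - n) := by
    rw [mul_sub, hnE.left, mul_one]
    show _ = e - (e - c⁻¹ • x)
    abel
  have hxn' : x = c • (e * (1 - n)) := by rw [← hxn, smul_smul, mul_inv_cancel₀ hc0, one_smul]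
  refine ⟨c⁻¹ • (e * y), ⟨smul_mem_OG ((OG o G).mul_mem he.mem hy) hc', ?_, ?_⟩, ?_, ?_⟩
  · rw [mul_smul_comm, ← mul_assoc, he.idem]
  · rw [hey, smul_mul_assoc, mul_assoc, he.idem]
  · rw [hxn', smul_mul_smul_comm, mul_inv_cancel₀ hc0, one_smul, hen, mul_assoc,
      ← mul_assoc e e, he.idem, hey, ← mul_assoc, hy1, one_mul]
  · rw [hxn', smul_mul_smul_comm, inv_mul_cancel₀ hc0, one_smul, mul_assoc,
      ← mul_assoc y, ← hey, mul_assoc e y, hy2, mul_one, he.idem]

theorem not_inJ_of_left (hp : IsPModular p M) {e x z : MonoidAlgebra ℂ G} (he : Prim o e)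
    (hx : InE o e x) (hz : InE o e z) (h : z * x = e) : ¬ InJ M o e x := by
  intro hJ
  apply ho.red_ne_zero he.mem he.idem he.ne hp
  refine nil_left (a := red M x) (z := red M z) ?_ hJ.nil ?_
  · rw [← red_mul (ho.OG_le he.mem) (ho.OG_le hx.mem), hx.left]
  · rw [← red_mul (ho.OG_le hz.mem) (ho.OG_le hx.mem), h]

theorem not_inJ_of_right (hp : IsPModular p M) {e x z : MonoidAlgebra ℂ G} (he : Prim o e)
    (hx : InE o e x) (hz : InE o e z) (h : x * z = e) : ¬ InJ M o e x := by
  intro hJ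
  apply ho.red_ne_zero he.mem he.idem he.ne hp
  refine nil_right (a := red M x) (z := red M z) ?_ hJ.nil ?_
  · rw [← red_mul (ho.OG_le hx.mem) (ho.OG_le he.mem), hx.right]
  · rw [← red_mul (ho.OG_le hx.mem) (ho.OG_le hz.mem), h]

theorem not_inJ_self (hp : IsPModular p M) {e : MonoidAlgebra ℂ G} (he : Prim o e) :
    ¬ InJ M o e e := ho.not_inJ_of_left hp he he.inE he.inE he.idem

theorem inJ_mul_left (hp : IsPModular p M) {e x y : MonoidAlgebra ℂ G} (he : Prim o e)
    (hx : InE o e x) (hy : InJ M o e y) : InJ M o e (x * y) := by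
  by_contra hc
  obtain ⟨z, hz, h1, h2⟩ := ho.inv_of_not_inJ hp he (hx.mul hy.toInE) hc
  exact ho.not_inJ_of_left hp he hy.toInE (hz.mul hx) (by rw [mul_assoc, h2]) hy

theorem inJ_mul_right (hp : IsPModular p M) {e x y : MonoidAlgebra ℂ G} (he : Prim o e)
    (hx : InE o e x) (hy : InJ M o e y) : InJ M o e (y * x) := by
  by_contra hc
  obtain ⟨z, hz, h1, h2⟩ := ho.inv_of_not_inJ hp he (hy.toInE.mul hx) hc
  exact ho.not_inJ_of_right hp he hy.toInE (hx.mul hz) (by rw [← mul_assoc, h1]) hy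

/-- `e - n` is not in the radical if `n` is -/
theorem not_inJ_sub (hp : IsPModular p M) {e n : MonoidAlgebra ℂ G} (he : Prim o e)
    (hn : InJ M o e n) : ¬ InJ M o e (e - n) := by
  intro hJ
  apply ho.red_ne_zero he.mem he.idem he.ne hp
  obtain ⟨K, hK⟩ := hn.nil
  have h1 : red M (e - n) = red M e - red M n :=
    red_sub (ho.OG_le he.mem) (ho.OG_le hn.mem)
  have h2 : red M n = red M n * red M e := by
    rw [← red_mul (ho.OG_le hn.mem) (ho.OG_le he.mem), hn.right]
  refine nil_left (a := red M (e - n)) (z := ∑ i ∈ Finset.range K, red M n ^ i) ?_ hJ.nil ?_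
  · rw [← red_mul (ho.OG_le he.mem) (ho.OG_le hJ.mem), hJ.left]
  · have h3 : red M (e - n) = (1 - red M n) * red M e := by
      rw [h1, sub_mul, one_mul, ← h2]
    rw [h3, ← mul_assoc, geom_sum_mul_neg, hK, sub_zero, one_mul]

theorem inJ_add (hp : IsPModular p M) {e x y : MonoidAlgebra ℂ G} (he : Prim o e)
    (hx : InJ M o e x) (hy : InJ M o e y) : InJ M o e (x + y) := by
  by_contra hc
  obtain ⟨z, hz, h1, h2⟩ := ho.inv_of_not_inJ hp he (hx.toInE.add hy.toInE) hc
  apply ho.not_inJ_sub hp he (ho.inJ_mul_left hp he hz hx)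
  have h3 : e - z * x = z * y := by rw [← h2, mul_add]; abel
  rw [h3]
  exact ho.inJ_mul_left hp he hz hy

theorem inJ_smul (hp : IsPModular p M) {e x : MonoidAlgebra ℂ G} (he : Prim o e)
    (hx : InJ M o e x) {c : ℂ} (hc : c ∈ o) : InJ M o e (c • x) := by
  have h1 : c • x = (c • e) * x := by rw [smul_mul_assoc, hx.left]
  rw [h1]
  exact ho.inJ_mul_left hp he (he.inE.smul hc) hx

theorem inJ_li_smul (hp : IsPModular p M) {e x : MonoidAlgebra ℂ G}
    (hx : InE o e x) {c : ℂ} (hc : c ∈ o) (hli : MemLocalIdeal M c) : InJ M o e (c • x) := by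
  refine ⟨hx.smul hc, ?_⟩
  rw [red_smul (ho.OG_le hx.mem) (ho.lr hc), rd_eq_zero_of_li hli, zero_smul]
  exact IsNilpotent.zero

theorem inJ_p_smul (hp : IsPModular p M) {e x : MonoidAlgebra ℂ G}
    (hx : InE o e x) : InJ M o e ((p : ℂ) • x) :=
  ho.inJ_li_smul hp hx (natCast_mem o p) (li_p hp.2.2)

/-- `E = o e + J` -/
theorem exists_scalar (hp : IsPModular p M) {e x : MonoidAlgebra ℂ G} (he : Prim o e)
    (hx : InE o e x) : ∃ c ∈ o, InJ M o e (x - c • e) := by
  obtain ⟨c, hc, hn⟩ := ho.corner hp he hx.mem hx.left hx.right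
  exact ⟨c, hc, hx.sub (he.inE.smul hc), hn⟩

end IsHen

/-- products of `n` elements of the radical -/
inductive JP (M : Ideal AlgInt) [M.IsPrime] (o : Subring ℂ) (e : MonoidAlgebra ℂ G) :
    ℕ → MonoidAlgebra ℂ G → Prop
  | zero : JP M o e 0 e
  | succ {n : ℕ} {w j : MonoidAlgebra ℂ G} : JP M o e n w → InJ M o e j → JP M o e (n + 1) (w * j)

theorem JP.inE {o : Subring ℂ} {e w : MonoidAlgebra ℂ G} (he : Prim o e) {n : ℕ}
    (h : JP M o e n w) : InE o e w := by
  induction h with
  | zero => exact he.inE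
  | succ _ hj ih => exact ih.mul hj.toInE

/-- the reduction is onto -/
theorem IsHen.exists_red {o : Subring ℂ} (ho : IsHen p M o) (hp : IsPModular p M)
    (b : MonoidAlgebra (KF M) G) : ∃ x ∈ OG o G, red M x = b := by
  have h : ∀ g, ∃ c ∈ o, rd M c = b.coeff g := by
    intro g
    obtain ⟨x, hx, hxg⟩ := rd_surjective (M := M) (b.coeff g)
    obtain ⟨c, hc, h⟩ := ho.residue hp hx
    refine ⟨c, hc, ?_⟩
    rw [← hxg]
    exact ((rd_eq_iff hx (ho.lr hc)).mpr h).symm
  choose c hc hcg using h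
  refine ⟨toAlg c, mem_OG.mpr hc, ?_⟩
  ext g
  rw [coeff_red, coeff_toAlg, hcg]

theorem JP.finrank {o : Subring ℂ} (ho : IsHen p M o) (hp : IsPModular p M)
    {e w : MonoidAlgebra ℂ G} (he : Prim o e) {n : ℕ}
    (h : JP M o e n w) (hw : red M w ≠ 0) :
    Module.finrank (KF M) (LinearMap.range (LinearMap.mulLeft (KF M) (red M w))) + n ≤
      Module.finrank (KF M) (MonoidAlgebra (KF M) G) := by
  induction h with
  | zero => exact Submodule.finrank_le _
  | @succ n w j hwn hj ih =>
    have hwE := hwn.inE he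
    have hrm : red M (w * j) = red M w * red M j := red_mul (ho.OG_le hwE.mem) (ho.OG_le hj.mem)
    have hw0 : red M w ≠ 0 := by
      intro h0; apply hw; rw [hrm, h0, zero_mul]
    have h1 := ih hw0
    have hle : LinearMap.range (LinearMap.mulLeft (KF M) (red M (w * j))) ≤
        LinearMap.range (LinearMap.mulLeft (KF M) (red M w)) := by
      rintro _ ⟨b, rfl⟩
      refine ⟨red M j * b, ?_⟩
      rw [LinearMap.mulLeft_apply, LinearMap.mulLeft_apply, hrm, mul_assoc]
    have hlt : LinearMap.range (LinearMap.mulLeft (KF M) (red M (w * j))) <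
        LinearMap.range (LinearMap.mulLeft (KF M) (red M w)) := by
      refine lt_of_le_of_ne hle ?_
      intro heq
      have h2 : red M w ∈ LinearMap.range (LinearMap.mulLeft (KF M) (red M (w * j))) := by
        rw [heq]; exact ⟨1, by simp⟩
      obtain ⟨b, hb⟩ := h2
      rw [LinearMap.mulLeft_apply, hrm] at hb
      obtain ⟨y, hy, hyb⟩ := ho.exists_red hp b
      -- replace `y` by `e y e`
      have hyE : InE o e (e * y * e) :=
        ⟨(OG o G).mul_mem ((OG o G).mul_mem he.mem hy) he.mem,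
          by rw [← mul_assoc, ← mul_assoc, he.idem], by rw [mul_assoc, he.idem]⟩
      have hn := ho.inJ_mul_right hp he hyE hj
      obtain ⟨z, hz, h3, h4⟩ := ho.inv_of_not_inJ hp he (he.inE.sub hn.toInE)
        (ho.not_inJ_sub hp he hn)
      have h5 : red M w * red M (e - j * (e * y * e)) = 0 := by
        rw [← red_mul (ho.OG_le hwE.mem) (ho.OG_le (he.inE.sub hn.toInE).mem), mul_sub, hwE.right,
          red_sub (ho.OG_le hwE.mem) (ho.OG_le ((hwE.mul hn.toInE).mem))]
        have h6 : w * (j * (e * y * e)) = w * j * y * e := by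
          rw [← mul_assoc j, ← mul_assoc j, hj.right]
          simp only [mul_assoc]
        have h7 : red M (w * j * y * e) = red M w * red M j * red M y * red M e := by
          rw [red_mul (ho.OG_le ((OG o G).mul_mem (hwE.mul hj.toInE).mem hy)) (ho.OG_le he.mem),
            red_mul (ho.OG_le (hwE.mul hj.toInE).mem) (ho.OG_le hy), hrm]
        rw [h6, h7, hyb, hb, ← red_mul (ho.OG_le hwE.mem) (ho.OG_le he.mem), hwE.right, sub_self]
      apply hw0
      have h8 : red M w = red M w * (red M (e - j * (e * y * e)) * red M z) := by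
        rw [← red_mul (ho.OG_le (he.inE.sub hn.toInE).mem) (ho.OG_le hz.mem), h3,
          ← red_mul (ho.OG_le hwE.mem) (ho.OG_le he.mem), hwE.right]
      rw [h8, ← mul_assoc, h5, zero_mul]
    have h9 := Submodule.finrank_lt_finrank_of_lt hlt
    omega

/-- long products of radical elements are divisible by `p` -/
theorem JP.exists_p_smul {o : Subring ℂ} (ho : IsHen p M o) (hp : IsPModular p M)
    {e w : MonoidAlgebra ℂ G} (he : Prim o e)
    (h : JP M o e (Module.finrank (KF M) (MonoidAlgebra (KF M) G) + 1) w) :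
    ∃ w', InE o e w' ∧ w = (p : ℂ) • w' := by
  have h0 : red M w = 0 := by
    by_contra hne
    have := h.finrank ho hp he hne
    omega
  have hwE := h.inE he
  obtain ⟨w', hw', h1⟩ := ho.exists_p_smul hwE.mem h0
  have hpne : (p : ℂ) ≠ 0 := Nat.cast_ne_zero.mpr hp.1.ne_zero
  refine ⟨w', ⟨hw', ?_, ?_⟩, h1⟩
  · apply smul_right_injective _ hpne
    show (p : ℂ) • (e * w') = (p : ℂ) • w'
    rw [← mul_smul_comm, ← h1, hwE.left]
  · apply smul_right_injective _ hpne
    show (p : ℂ) • (w' * e) = (p : ℂ) • w'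
    rw [← smul_mul_assoc, ← h1, hwE.right]

end Cfsg.Agent.LD
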