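import Mathlib
import Cfsg.Agent.L.Hen7
import Cfsg.Agent.H11.Kulshammer
import Cfsg.Agent.H11.Defect4

set_option autoImplicit false

/-!
# The trace form and the components of the corner ring
-/

namespace Cfsg.Agent.LD

open Cfsg Cfsg.Agent.H11 Cfsg.Agent.H26 Cfsg.Agent.H3 Polynomial
open scoped ComplexConjugate

variable {p : ℕ} {M : Ideal AlgInt} [hM : M.IsPrime]
variable {G : Type*} [Group G] [Fintype G]

/-- the symmetrising form -/
theorem coeff_one_mul_comm (x y : MonoidAlgebra ℂ G) : (x * y).coeff 1 = (y * x).coeff 1 := by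
  rw [coeff_mul_sum', coeff_mul_sum']
  refine Fintype.sum_equiv (Equiv.inv G) _ _ fun g => ?_
  simp [mul_comm]

/-- values of idempotents -/
theorem eigen_li {o : Subring ℂ} (ho : IsHen p M o) (hp : IsPModular p M)
    {e j v : MonoidAlgebra ℂ G} (hj : InJ M o e j) (hv : v ≠ 0) {b : ℂ} (h : j * v = b • v) :
    MemLocalIdeal M b := by
  have hlr : ∀ {x : MonoidAlgebra ℂ G} {b : ℂ}, x ∈ OG o G → x * v = b • v → MemLocalRing M b := by
    intro x b hx hxv
    obtain ⟨f, hf, hfx⟩ := exists_monic hx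
    have h1 := aeval_mul_eigen hxv (f.map o.subtype)
    rw [hfx, zero_mul] at h1
    have h2 := (smul_eq_zero.mp h1.symm).resolve_right hv
    refine lr_of_isIntegral_locRing ⟨f.map (Subring.inclusion ho.unr.1), hf.map _, ?_⟩
    rw [eval₂_map]
    rw [eval_map] at h2
    exact h2
  obtain ⟨K, hK⟩ := hj.nil
  rw [← red_pow (ho.OG_le hj.mem)] at hK
  obtain ⟨w, hw, hjw⟩ := ho.exists_p_smul ((OG o G).pow_mem hj.mem K) hK
  have hpne : (p : ℂ) ≠ 0 := Nat.cast_ne_zero.mpr hp.1.ne_zero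
  have h1 : j ^ K * v = b ^ K • v := by
    have := aeval_mul_eigen h (X ^ K)
    simpa using this
  have h2 : w * v = (b ^ K / p) • v := by
    rw [hjw, smul_mul_assoc] at h1
    rw [div_eq_inv_mul, ← smul_smul, ← h1, smul_smul, inv_mul_cancel₀ hpne, one_smul]
  have h3 := hlr hw h2
  have h4 : MemLocalIdeal M (b ^ K) := by
    have : b ^ K = p * (b ^ K / p) := by field_simp
    rw [this]
    exact li_mul_right (li_p hp.2.2) h3
  rcases eq_or_ne K 0 with rfl | hK0
  · exfalso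
    rw [pow_zero] at h4
    exact not_li_one M h4
  · exact (li_pow_iff (hlr hj.mem h) hK0).mp h4

/-- characters are small on the radical -/
theorem lin_li {o : Subring ℂ} (ho : IsHen p M o) (hp : IsPModular p M)
    {e j : MonoidAlgebra ℂ G} (hj : InJ M o e j) {χ : G → ℂ} (hχ : IsCharacter G χ) :
    MemLocalIdeal M (lin χ j) := by
  obtain ⟨K, hK⟩ := hj.nil
  have hK' : red M j ^ (p ^ K) = 0 := pow_eq_zero_of_le (Nat.lt_pow_self hp.1.one_lt).le hK
  rw [← red_pow (ho.OG_le hj.mem)] at hK'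
  obtain ⟨w, hw, hjw⟩ := ho.exists_p_smul ((OG o G).pow_mem hj.mem _) hK'
  have hjlr := mem_OG.mp (ho.OG_le hj.mem)
  have hχlr : ∀ g, MemLocalRing M (χ g) := fun g => lr_int (char_isIntegral hχ g)
  have hχc : ∀ x y, χ (x * y) = χ (y * x) := by
    intro x y
    have := char_classFun hχ (x * y) y
    rw [← this]; group
  have h1 := li_lin_pow hp j hjlr χ hχc hχlr K
  rw [hjw, map_smul, smul_eq_mul] at h1
  have h2 : MemLocalIdeal M ((p : ℂ) * lin χ w) := by
    refine li_mul_right (li_p hp.2.2) ?_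
    rw [lin_apply]
    exact lr_sum _ _ fun g _ => lr_mul (mem_OG.mp (ho.OG_le hw) g) (hχlr g)
  have h3 := li_sub h2 h1
  rw [sub_sub_cancel] at h3
  have h4 : MemLocalIdeal M (lin χ j ^ (p ^ K)) := by
    have h5 := li_sum_pow_sub hp Finset.univ (fun g => j.coeff g * χ g)
      (fun g _ => lr_mul (hjlr g) (hχlr g)) K
    rw [← lin_apply] at h5
    have h6 : MemLocalIdeal M (∑ g, (j.coeff g * χ g) ^ (p ^ K) -
        ∑ g, j.coeff g ^ (p ^ K) * χ (g ^ (p ^ K))) := by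
      rw [← Finset.sum_sub_distrib]
      refine li_sum _ _ fun g _ => ?_
      rw [mul_pow, ← mul_sub]
      exact li_mul_left (lr_pow (hjlr g) _) (li_char_pow hp hχ g K)
    have h7 := li_add (li_add h5 h6) h3
    simpa using h7
  refine (li_pow_iff ?_ (pow_pos hp.1.pos K).ne').mp h4
  rw [lin_apply]
  exact lr_sum _ _ fun g _ => lr_mul (hjlr g) (hχlr g)

/-- rational sets of characters of defect one -/
structure RSet (p : ℕ) (o : Subring ℂ) (c : Set (IrrCharacter G)) : Prop where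
  deg : ∃ n m : ℕ, Nat.card G = n * (p * m) ∧ ¬ p ∣ m ∧ ∀ χ ∈ c, (χ : G → ℂ) 1 = n
  rat : ∀ g : G, (∑ᶠ χ ∈ c, (χ : G → ℂ) g) ∈ o

/-- the sum of the characters of a set -/
noncomputable def csumF (c : Set (IrrCharacter G)) (g : G) : ℂ := ∑ᶠ χ ∈ c, (χ : G → ℂ) g

theorem lin_csumF [Fintype (IrrCharacter G)] (c : Set (IrrCharacter G)) [DecidablePred (· ∈ c)]
    (x : MonoidAlgebra ℂ G) :
    lin (csumF c) x = ∑ χ : IrrCharacter G with χ ∈ c, lin (χ : G → ℂ) x := by
  simp only [lin_apply, csumF, finsum_mem_irr, Finset.mul_sum]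
  rw [Finset.sum_comm]

/-- the trace form on a component -/
theorem coeff_one_fIdem_mul {c : Set (IrrCharacter G)} {n m : ℕ}
    (hG : Nat.card G = n * (p * m)) (hn : ∀ χ ∈ c, (χ : G → ℂ) 1 = n) (x : MonoidAlgebra ℂ G) :
    (fIdem c * x).coeff 1 = ((p : ℂ) * m)⁻¹ * lin (csumF c) x := by
  classical
  have := Fintype.ofFinite (IrrCharacter G)
  have hG0 : (Nat.card G : ℂ) ≠ 0 := Nat.cast_ne_zero.mpr Nat.card_pos.ne'
  have hn0 : (n : ℂ) ≠ 0 := by
    intro h
    apply hG0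
    rw [hG]; push_cast; rw [h, zero_mul]
  rw [coeff_one_mul_comm, coeff_mul_sum', lin_apply, Finset.mul_sum]
  refine Finset.sum_congr rfl fun g _ => ?_
  rw [mul_one, coeff_fIdem, blockCoeff, csumF]
  have h1 : ∑ᶠ χ ∈ c, (χ : G → ℂ) 1 * conj ((χ : G → ℂ) g⁻¹) =
      (n : ℂ) * ∑ᶠ χ ∈ c, (χ : G → ℂ) g := by
    rw [finsum_mem_irr, finsum_mem_irr, Finset.mul_sum]
    refine Finset.sum_congr rfl fun χ hχ => ?_
    rw [hn χ (Finset.mem_filter.mp hχ).2, ← char_inv (irr_isChar χ.2), inv_inv]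
  rw [h1]
  have h2 : (Nat.card G : ℂ)⁻¹ * n = ((p : ℂ) * m)⁻¹ := by
    rw [hG]; push_cast
    rw [mul_inv, mul_comm (n : ℂ)⁻¹, mul_assoc, inv_mul_cancel₀ hn0, mul_one]
  rw [← h2]
  ring

/-- the corner `e ℂG e` -/
def InC (e y : MonoidAlgebra ℂ G) : Prop := e * y = y ∧ y * e = y

theorem mem_of_form {o : Subring ℂ} {e y : MonoidAlgebra ℂ G} (he : Prim o e) (hy : InC e y)
    (h : ∀ z, InE o e z → (y * z).coeff 1 ∈ o) : y ∈ OG o G := by
  rw [mem_OG]
  intro g
  have h1 : y.coeff g = (y * MonoidAlgebra.single g⁻¹ 1).coeff 1 := by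
    rw [MonoidAlgebra.coeff_mul_single_apply]
    simp
  have h2 : (y * MonoidAlgebra.single g⁻¹ 1).coeff 1 =
      (y * (e * MonoidAlgebra.single g⁻¹ 1 * e)).coeff 1 := by
    rw [← mul_assoc, ← mul_assoc, hy.2, coeff_one_mul_comm _ e, ← mul_assoc, hy.1]
  rw [h1, h2]
  apply h
  refine ⟨(OG o G).mul_mem ((OG o G).mul_mem he.mem ?_) he.mem, ?_, ?_⟩
  · rw [mem_OG]
    intro x
    classical
    rw [MonoidAlgebra.coeff_single, Finsupp.single_apply]
    split_ifs
    · exact o.one_mem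
    · exact o.zero_mem
  · rw [← mul_assoc, ← mul_assoc, he.idem]
  · rw [mul_assoc, he.idem]

theorem coeff_mem {o : Subring ℂ} {x : MonoidAlgebra ℂ G} (hx : x ∈ OG o G) (g : G) :
    x.coeff g ∈ o := mem_OG.mp hx g

theorem lin_csumF_mem {o : Subring ℂ} {c : Set (IrrCharacter G)} (hc : RSet p o c)
    {x : MonoidAlgebra ℂ G} (hx : x ∈ OG o G) : lin (csumF c) x ∈ o := by
  rw [lin_apply]
  exact o.sum_mem fun g _ => o.mul_mem (mem_OG.mp hx g) (hc.rat g)

/-- `T(ε_c j) ∈ o` for `j` in the radical -/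
theorem form_mem {o : Subring ℂ} (ho : IsHen p M o) (hp : IsPModular p M)
    {c : Set (IrrCharacter G)} (hc : RSet p o c) {e j : MonoidAlgebra ℂ G} (hj : InJ M o e j) :
    (fIdem c * j).coeff 1 ∈ o := by
  classical
  have := Fintype.ofFinite (IrrCharacter G)
  obtain ⟨n, m, hG, hm, hn⟩ := hc.deg
  rw [coeff_one_fIdem_mul hG hn]
  have h1 := lin_csumF_mem hc hj.mem
  have h2 : MemLocalIdeal M (lin (csumF c) j) := by
    rw [lin_csumF]
    exact li_sum _ _ fun χ _ => lin_li ho hp hj (irr_isChar χ.2)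
  obtain ⟨s, hs, h3⟩ := ho.unr.2 _ h1 h2
  have hpne : (p : ℂ) ≠ 0 := Nat.cast_ne_zero.mpr hp.1.ne_zero
  rw [h3, mul_inv, mul_comm ((p : ℂ)⁻¹), mul_assoc, ← mul_assoc ((p : ℂ)⁻¹),
    inv_mul_cancel₀ hpne, one_mul]
  refine o.mul_mem (ho.inv (natCast_mem o m) ?_) hs
  exact fun h => hm ((li_natCast_iff hp m).mp h)

theorem fIdem_comm (c : Set (IrrCharacter G)) (x : MonoidAlgebra ℂ G) :
    fIdem c * x = x * fIdem c := isCen_commute (isCen_fIdem c) x

theorem inC_fIdem {e x : MonoidAlgebra ℂ G} (hx : InC e x) (c : Set (IrrCharacter G)) :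
    InC e (fIdem c * x) :=
  ⟨by rw [← mul_assoc, ← fIdem_comm, mul_assoc, hx.1], by rw [mul_assoc, hx.2]⟩

theorem InE.inC {o : Subring ℂ} {e x : MonoidAlgebra ℂ G} (hx : InE o e x) : InC e x :=
  ⟨hx.left, hx.right⟩

theorem InC.sub {e x y : MonoidAlgebra ℂ G} (hx : InC e x) (hy : InC e y) : InC e (x - y) :=
  ⟨by rw [mul_sub, hx.1, hy.1], by rw [sub_mul, hx.2, hy.2]⟩

theorem InC.smul {e x : MonoidAlgebra ℂ G} (hx : InC e x) (c : ℂ) : InC e (c • x) :=
  ⟨by rw [mul_smul_comm, hx.1], by rw [smul_mul_assoc, hx.2]⟩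

/-- **Claim A**: the dual of the radical -/
theorem dual_radical {o : Subring ℂ} (ho : IsHen p M o) (hp : IsPModular p M)
    {c : Set (IrrCharacter G)} (hc : RSet p o c) {e : MonoidAlgebra ℂ G} (he : Prim o e)
    (hε : fIdem c * e ∉ OG o G) {y : MonoidAlgebra ℂ G} (hy : InC e y)
    (hyJ : ∀ j, InJ M o e j → (y * j).coeff 1 ∈ o) :
    ∃ u ∈ o, y - u • (fIdem c * e) ∈ OG o G := by
  classical
  obtain ⟨n, m, hG, hm, hn⟩ := hc.deg
  have hpne : (p : ℂ) ≠ 0 := Nat.cast_ne_zero.mpr hp.1.ne_zero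
  have hmli : ¬ MemLocalIdeal M (m : ℂ) := fun h => hm ((li_natCast_iff hp m).mp h)
  have hm0 : (m : ℂ) ≠ 0 := ne_zero_of_not_li hmli
  have hminv : (m : ℂ)⁻¹ ∈ o := ho.inv (natCast_mem o m) hmli
  have hεC : InC e (fIdem c * e) := inC_fIdem he.inE.inC c
  have hεj : ∀ j, InJ M o e j → (fIdem c * e * j).coeff 1 ∈ o := by
    intro j hj
    rw [mul_assoc, hj.left]
    exact form_mem ho hp hc hj
  -- value on `e`
  set s := lin (csumF c) e with hs
  have hso : s ∈ o := lin_csumF_mem hc he.mem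
  have hTe : (fIdem c * e).coeff 1 = ((p : ℂ) * m)⁻¹ * s := coeff_one_fIdem_mul hG hn e
  have key : ∀ y', InC e y' → (y'.coeff 1 ∈ o) → (∀ j, InJ M o e j → (y' * j).coeff 1 ∈ o) →
      y' ∈ OG o G := by
    intro y' hy' h1 h2
    apply mem_of_form he hy'
    intro z hz
    obtain ⟨a, ha, hj⟩ := ho.exists_scalar hp he hz
    have h3 : y' * z = a • y' + y' * (z - a • e) := by
      rw [mul_sub, mul_smul_comm, hy'.2]; abel
    rw [h3, MonoidAlgebra.coeff_add, Finsupp.add_apply, MonoidAlgebra.coeff_smul,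
      Finsupp.smul_apply, smul_eq_mul]
    exact o.add_mem (o.mul_mem ha h1) (h2 _ hj)
  have hsli : ¬ MemLocalIdeal M s := by
    intro hli
    obtain ⟨s', hs', h4⟩ := ho.unr.2 _ hso hli
    apply hε
    apply key _ hεC _ hεj
    rw [hTe, h4, mul_inv, mul_comm ((p : ℂ)⁻¹), mul_assoc, ← mul_assoc ((p : ℂ)⁻¹),
      inv_mul_cancel₀ hpne, one_mul]
    exact o.mul_mem hminv hs'
  have hs0 : s ≠ 0 := ne_zero_of_not_li hsli
  have hb : (p : ℂ) * y.coeff 1 ∈ o := by
    have h5 := hyJ _ (ho.inJ_p_smul hp he.inE)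
    rwa [mul_smul_comm, hy.2, MonoidAlgebra.coeff_smul, Finsupp.smul_apply, smul_eq_mul] at h5
  refine ⟨(p * y.coeff 1) * m * s⁻¹,
    o.mul_mem (o.mul_mem hb (natCast_mem o m)) (ho.inv hso hsli), ?_⟩
  apply key _ (hy.sub (hεC.smul _))
  · rw [MonoidAlgebra.coeff_sub, Finsupp.sub_apply, MonoidAlgebra.coeff_smul, Finsupp.smul_apply,
      smul_eq_mul, hTe]
    have : (p : ℂ) * y.coeff 1 * m * s⁻¹ * (((p : ℂ) * m)⁻¹ * s) = y.coeff 1 := by
      field_simp
    rw [this, sub_self]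
    exact o.zero_mem
  · intro j hj
    rw [sub_mul, smul_mul_assoc, MonoidAlgebra.coeff_sub, Finsupp.sub_apply,
      MonoidAlgebra.coeff_smul, Finsupp.smul_apply, smul_eq_mul]
    exact o.sub_mem (hyJ j hj) (o.mul_mem
      (o.mul_mem (o.mul_mem hb (natCast_mem o m)) (ho.inv hso hsli)) (hεj j hj))

theorem idem_fIdem_mul {e : MonoidAlgebra ℂ G} (he : e * e = e) (c : Set (IrrCharacter G)) :
    fIdem c * e * (fIdem c * e) = fIdem c * e := by
  rw [mul_assoc, ← mul_assoc e, ← fIdem_comm, ← mul_assoc, ← mul_assoc, fIdem_mul_self,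
    mul_assoc, he]

theorem not_mem_OG_of {o : Subring ℂ} {c c' : Set (IrrCharacter G)} (hcc : Disjoint c c')
    {e : MonoidAlgebra ℂ G} (he : Prim o e) (h : fIdem c * e ≠ 0) (h' : fIdem c' * e ≠ 0) :
    fIdem c * e ∉ OG o G := by
  intro hm
  have hC := inC_fIdem he.inE.inC c
  rcases he.prim _ hm (idem_fIdem_mul he.idem c) hC.1 hC.2 with h1 | h1
  · exact h h1
  · apply h'
    rw [← h1, ← mul_assoc, fIdem_mul_of_disjoint hcc.symm, zero_mul]

/-- **Claim B**: there are at most two components -/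
theorem two_components {o : Subring ℂ} (ho : IsHen p M o) (hp : IsPModular p M)
    {c c' : Set (IrrCharacter G)} (hc : RSet p o c) (hc' : RSet p o c') (hcc : Disjoint c c')
    {e : MonoidAlgebra ℂ G} (he : Prim o e) (h : fIdem c * e ≠ 0) (h' : fIdem c' * e ≠ 0) :
    fIdem c * e + fIdem c' * e = e := by
  have hn := not_mem_OG_of hcc he h h'
  have hCc := inC_fIdem he.inE.inC c
  have hCc' := inC_fIdem he.inE.inC c'
  obtain ⟨u, hu, hx⟩ := dual_radical ho hp hc he hn hCc' (by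
    intro j hj
    rw [mul_assoc, hj.left]
    exact form_mem ho hp hc' hj)
  set x := fIdem c' * e - u • (fIdem c * e) with hxd
  have hxC : InC e x := hCc'.sub (hCc.smul u)
  have hxE : InE o e x := ⟨hx, hxC.1, hxC.2⟩
  obtain ⟨a, ha, hj⟩ := ho.exists_scalar hp he hxE
  by_contra hne
  have h0 : fIdem c * (fIdem c' * e) = 0 := by
    rw [← mul_assoc, fIdem_mul_of_disjoint hcc, zero_mul]
  have h0' : fIdem c' * (fIdem c * e) = 0 := by
    rw [← mul_assoc, fIdem_mul_of_disjoint hcc.symm, zero_mul]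
  -- first eigenvector
  have h1 : (x - a • e) * (fIdem c' * e) = (1 - a) • (fIdem c' * e) := by
    rw [sub_mul, smul_mul_assoc, hCc'.1, hxd, sub_mul, smul_mul_assoc,
      idem_fIdem_mul he.idem, mul_assoc, hCc'.1, h0, smul_zero, sub_zero, sub_smul, one_smul]
  have h2 := eigen_li ho hp hj h' h1
  -- second eigenvector
  have h3 : (x - a • e) * (e - (fIdem c * e + fIdem c' * e)) =
      (-a) • (e - (fIdem c * e + fIdem c' * e)) := by
    have e1 : x * (fIdem c * e) = -u • (fIdem c * e) := by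
      rw [hxd, sub_mul, smul_mul_assoc, idem_fIdem_mul he.idem, mul_assoc, hCc.1, h0', zero_sub,
        neg_smul]
    have e2 : x * (fIdem c' * e) = fIdem c' * e := by
      rw [hxd, sub_mul, smul_mul_assoc, idem_fIdem_mul he.idem, mul_assoc, hCc'.1, h0, smul_zero,
        sub_zero]
    rw [sub_mul, smul_mul_assoc, mul_sub e, he.idem, mul_add e, hCc.1, hCc'.1, mul_sub, hxC.2,
      mul_add, e1, e2, hxd]
    module
  have hne' : e - (fIdem c * e + fIdem c' * e) ≠ 0 := sub_ne_zero.mpr (Ne.symm hne)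
  have h4 := eigen_li ho hp hj hne' h3
  have h5 := li_sub h2 h4
  have h6 : (1 - a - -a) = 1 := by ring
  rw [h6] at h5
  exact not_li_one M h5

end Cfsg.Agent.LD
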