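import Mathlib
import Cfsg.Agent.L.Hen8

set_option autoImplicit false

/-!
# Multiplicity one
-/

namespace Cfsg.Agent.LD

open Cfsg Cfsg.Agent.H11 Cfsg.Agent.H26 Cfsg.Agent.H3 Polynomial
open scoped ComplexConjugate

variable {p : ℕ} {M : Ideal AlgInt} [hM : M.IsPrime]
variable {G : Type*} [Group G] [Fintype G]

theorem card_smul_fIdem_mem (c : Set (IrrCharacter G)) :
    (Nat.card G : ℂ) • fIdem c ∈ OG (locRing M) G := by
  classical
  have := Fintype.ofFinite (IrrCharacter G)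
  rw [mem_OG]
  intro g
  have hG0 : (Nat.card G : ℂ) ≠ 0 := Nat.cast_ne_zero.mpr Nat.card_pos.ne'
  rw [MonoidAlgebra.coeff_smul, Finsupp.smul_apply, smul_eq_mul, coeff_fIdem, blockCoeff,
    ← mul_assoc, mul_inv_cancel₀ hG0, one_mul, finsum_mem_irr]
  refine lr_sum _ _ fun χ _ => ?_
  rw [← char_inv (irr_isChar χ.2)]
  exact lr_mul (lr_int (char_isIntegral (irr_isChar χ.2) _))
    (lr_int (char_isIntegral (irr_isChar χ.2) _))

theorem fIdem_mul_eq_zero (ho : ∃ o : Subring ℂ, IsHen p M o) (hp : IsPModular p M)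
    {c : Set (IrrCharacter G)} {x : MonoidAlgebra ℂ G}
    (h : ∀ r : ℕ, ∃ a ∈ OG (locRing M) G, fIdem c * x = (p : ℂ) ^ r • (fIdem c * a)) :
    fIdem c * x = 0 := by
  obtain ⟨o, ho⟩ := ho
  have hG0 : (Nat.card G : ℂ) ≠ 0 := Nat.cast_ne_zero.mpr Nat.card_pos.ne'
  have h1 : (Nat.card G : ℂ) • (fIdem c * x) = 0 := by
    apply ho.eq_zero_of_dvd hp
    intro r
    obtain ⟨a, ha, h2⟩ := h r
    refine ⟨((Nat.card G : ℂ) • fIdem c) * a, (OG _ G).mul_mem (card_smul_fIdem_mem c) ha, ?_⟩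
    rw [h2, smul_mul_assoc, smul_comm]
  exact (smul_eq_zero.mp h1).resolve_left hG0

/-- one-sided inverses are two-sided -/
theorem mul_eq_one_symm {x y : MonoidAlgebra ℂ G} (h : x * y = 1) : y * x = 1 := by
  have hs : Function.Surjective (LinearMap.mulLeft ℂ x) := by
    intro z
    refine ⟨y * z, ?_⟩
    rw [LinearMap.mulLeft_apply, ← mul_assoc, h, one_mul]
  have hi := LinearMap.injective_iff_surjective.mpr hs
  apply hi
  rw [LinearMap.mulLeft_apply, LinearMap.mulLeft_apply, ← mul_assoc, h, one_mul, mul_one]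

theorem corner_mul_symm {ε a b : MonoidAlgebra ℂ G} (hε : ε * ε = ε) (ha : InC ε a)
    (hb : InC ε b) (h : a * b = ε) : b * a = ε := by
  have h1 : (a + (1 - ε)) * (b + (1 - ε)) = 1 := by
    have e1 : a * (1 - ε) = 0 := by rw [mul_sub, mul_one, ha.2, sub_self]
    have e2 : (1 - ε) * b = 0 := by rw [sub_mul, one_mul, hb.1, sub_self]
    have e3 : (1 - ε) * (1 - ε) = 1 - ε := by
      rw [mul_sub, mul_one, sub_mul, one_mul, hε, sub_self, sub_zero]
    rw [add_mul, mul_add, mul_add, e1, e2, e3, h]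
    abel
  have h2 := mul_eq_one_symm h1
  have e1 : (1 - ε) * a = 0 := by rw [sub_mul, one_mul, ha.1, sub_self]
  have e2 : b * (1 - ε) = 0 := by rw [mul_sub, mul_one, hb.2, sub_self]
  have e3 : (1 - ε) * (1 - ε) = 1 - ε := by
    rw [mul_sub, mul_one, sub_mul, one_mul, hε, sub_self, sub_zero]
  rw [add_mul, mul_add, mul_add, e1, e2, e3] at h2
  rw [add_zero, zero_add] at h2
  have h3 : b * a = 1 - (1 - ε) := eq_sub_of_add_eq h2
  rw [h3]; abel

/-- polynomials in `j` in the corner ring -/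
def ZP (o : Subring ℂ) (e j x : MonoidAlgebra ℂ G) : Prop :=
  ∃ P : ℂ[X], (∀ i, P.coeff i ∈ o) ∧ x = aeval j P * e

theorem ZP.inE {o : Subring ℂ} {e j x : MonoidAlgebra ℂ G} (he : Prim o e) (hj : InE o e j)
    (h : ZP o e j x) : InE o e x := by
  obtain ⟨P, hP, rfl⟩ := h
  have hc : Commute e (aeval j P) := by
    rw [aeval_eq_sum_range]
    refine Commute.sum_right _ _ _ fun i _ => ?_
    refine Commute.smul_right ?_ _
    refine Commute.pow_right ?_ _
    show e * j = j * e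
    rw [hj.left, hj.right]
  refine ⟨(OG o G).mul_mem (aeval_mem_OG hj.mem hP) he.mem, ?_, ?_⟩
  · rw [← mul_assoc, hc.eq, mul_assoc, he.idem]
  · rw [mul_assoc, he.idem]

theorem ZP.add {o : Subring ℂ} {e j x y : MonoidAlgebra ℂ G} (h : ZP o e j x) (h' : ZP o e j y) :
    ZP o e j (x + y) := by
  obtain ⟨P, hP, rfl⟩ := h
  obtain ⟨Q, hQ, rfl⟩ := h'
  exact ⟨P + Q, fun i => by rw [coeff_add]; exact o.add_mem (hP i) (hQ i), by
    rw [map_add, add_mul]⟩

theorem ZP.smul {o : Subring ℂ} {e j x : MonoidAlgebra ℂ G} (h : ZP o e j x) {a : ℂ}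
    (ha : a ∈ o) : ZP o e j (a • x) := by
  obtain ⟨P, hP, rfl⟩ := h
  exact ⟨a • P, fun i => by rw [coeff_smul, smul_eq_mul]; exact o.mul_mem ha (hP i), by
    rw [map_smul, smul_mul_assoc]⟩

theorem ZP.zero {o : Subring ℂ} {e j : MonoidAlgebra ℂ G} : ZP o e j 0 :=
  ⟨0, fun i => by rw [coeff_zero]; exact o.zero_mem, by simp⟩

theorem ZP.pow {o : Subring ℂ} {e j : MonoidAlgebra ℂ G} (n : ℕ) : ZP o e j (j ^ n * e) :=
  ⟨X ^ n, fun i => by
    rw [coeff_X_pow]; split_ifs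
    · exact o.one_mem
    · exact o.zero_mem, by simp⟩

theorem ZP.comm {o : Subring ℂ} {e j x y : MonoidAlgebra ℂ G} (he : Prim o e) (hj : InE o e j)
    (h : ZP o e j x) (h' : ZP o e j y) : x * y = y * x := by
  have hc : ∀ P : ℂ[X], Commute e (aeval j P) := by
    intro P
    rw [aeval_eq_sum_range]
    refine Commute.sum_right _ _ _ fun i _ => ?_
    refine Commute.smul_right ?_ _
    refine Commute.pow_right ?_ _
    show e * j = j * e
    rw [hj.left, hj.right]
  obtain ⟨P, hP, rfl⟩ := h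
  obtain ⟨Q, hQ, rfl⟩ := h'
  rw [mul_assoc, ← mul_assoc e, (hc Q).eq, mul_assoc _ e e, ← mul_assoc, he.idem, ← map_mul,
    mul_assoc (aeval j Q), ← mul_assoc e, (hc P).eq, mul_assoc _ e e, ← mul_assoc, he.idem,
    ← map_mul, mul_comm P]

theorem JP.pow {o : Subring ℂ} {e j : MonoidAlgebra ℂ G} (hj : InJ M o e j) (n : ℕ) :
    JP M o e n (e * j ^ n) := by
  induction n with
  | zero => simpa using JP.zero
  | succ n ih => rw [pow_succ, ← mul_assoc]; exact JP.succ ih hj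

/-- a nontrivial component of a corner ring is commutative -/
theorem comm_component {o : Subring ℂ} (ho : IsHen p M o) (hp : IsPModular p M)
    {c : Set (IrrCharacter G)} (hc : RSet p o c) {e : MonoidAlgebra ℂ G} (he : Prim o e)
    (hε : fIdem c * e ∉ OG o G) {a b : MonoidAlgebra ℂ G} (ha : InE o e a) (hb : InE o e b) :
    fIdem c * (a * b - b * a) = 0 := by
  classical
  set F := fIdem c with hF
  have hFc : ∀ x, F * x = x * F := fIdem_comm c
  have hFF : F * F = F := fIdem_mul_self c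
  have hFm : ∀ x y, F * x * (F * y) = F * (x * y) := by
    intro x y
    rw [mul_assoc, ← mul_assoc x, ← hFc x, mul_assoc F x y, ← mul_assoc, hFF]
  have hpne : (p : ℂ) ≠ 0 := Nat.cast_ne_zero.mpr hp.1.ne_zero
  let Q : ℕ → Prop := fun N => ∀ w, JP M o e N w → ∃ a, InE o e a ∧ F * w = (p : ℂ) • (F * a)
  have hQK : Q (Module.finrank (KF M) (MonoidAlgebra (KF M) G) + 1) := by
    intro w hw
    obtain ⟨w', hw', h1⟩ := hw.exists_p_smul ho hp he
    exact ⟨w', hw', by rw [h1, mul_smul_comm]⟩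
  have hex : ∃ N, Q N := ⟨_, hQK⟩
  have hQ0 : ¬ Q 0 := by
    intro h0
    obtain ⟨a, ha, h1⟩ := h0 e JP.zero
    apply hε
    have h2 : F * e = 0 := by
      apply fIdem_mul_eq_zero ⟨o, ho⟩ hp
      have : ∀ r : ℕ, ∃ a', InE o e a' ∧ F * e = (p : ℂ) ^ r • (F * a') := by
        intro r
        induction r with
        | zero => exact ⟨e, he.inE, by simp⟩
        | succ r ih =>
          obtain ⟨a', ha', h3⟩ := ih
          refine ⟨a * a', ha.mul ha', ?_⟩
          rw [h3, pow_succ, ← smul_smul]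
          congr 1
          calc F * a' = F * e * (F * a') := by rw [hFm, ha'.left]
            _ = (p : ℂ) • (F * (a * a')) := by rw [h1, smul_mul_assoc, hFm]
      intro r
      obtain ⟨a', ha', h3⟩ := this r
      exact ⟨a', ho.OG_le ha'.mem, h3⟩
    rw [h2]; exact (OG o G).zero_mem
  obtain ⟨N, hN, hN'⟩ : ∃ N, Q (N + 1) ∧ ¬ Q N := by
    have h1 := Nat.find_spec hex
    have h2 : Nat.find hex ≠ 0 := fun h => hQ0 (h ▸ h1)
    obtain ⟨N, hN⟩ := Nat.exists_eq_succ_of_ne_zero h2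
    refine ⟨N, by rw [hN] at h1; exact h1, Nat.find_min hex (by omega)⟩
  simp only [Q, not_forall] at hN'
  obtain ⟨w, hw, hwn⟩ := hN'
  have hwE := hw.inE he
  let y := (p : ℂ)⁻¹ • (F * w)
  have hFw : F * w = (p : ℂ) • y := by
    show _ = (p : ℂ) • ((p : ℂ)⁻¹ • _)
    rw [smul_smul, mul_inv_cancel₀ hpne, one_smul]
  have hyC : InC e y := (inC_fIdem hwE.inC c).smul _
  have hFy : F * y = y := by
    show F * ((p : ℂ)⁻¹ • (F * w)) = (p : ℂ)⁻¹ • (F * w)
    rw [mul_smul_comm, ← mul_assoc, hFF]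
  have hyj : ∀ j, InJ M o e j → ∃ a, InE o e a ∧ y * j = F * a := by
    intro j hj
    obtain ⟨a, ha, h1⟩ := hN (w * j) (JP.succ hw hj)
    refine ⟨a, ha, ?_⟩
    show ((p : ℂ)⁻¹ • (F * w)) * j = F * a
    rw [smul_mul_assoc, mul_assoc, h1, smul_smul, inv_mul_cancel₀ hpne, one_smul]
  obtain ⟨j0, hj0, a0, ha0, ha0J, hya⟩ : ∃ j0, InJ M o e j0 ∧ ∃ a0, InE o e a0 ∧
      ¬ InJ M o e a0 ∧ y * j0 = F * a0 := by
    by_contra hcon
    push Not at hcon
    obtain ⟨u, hu, hz⟩ := dual_radical ho hp hc he hε hyC (by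
      intro j hj
      obtain ⟨a, ha, h1⟩ := hyj j hj
      have haJ : InJ M o e a := by
        by_contra h2
        exact hcon j hj a ha h2 h1
      rw [h1]
      exact form_mem ho hp hc haJ)
    have hzE : InE o e (y - u • (F * e)) :=
      ⟨hz, (hyC.sub ((inC_fIdem he.inE.inC c).smul u)).1,
        (hyC.sub ((inC_fIdem he.inE.inC c).smul u)).2⟩
    apply hwn
    refine ⟨u • e + (y - u • (F * e)), (he.inE.smul hu).add hzE, ?_⟩
    rw [hFw]
    congr 1
    have h5 : F * (u • (F * e)) = u • (F * e) := by rw [mul_smul_comm, ← mul_assoc, hFF]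
    rw [mul_add, mul_smul_comm, mul_sub, hFy, h5]
    abel
  obtain ⟨b0, hb0, hab, hba⟩ := ho.inv_of_not_inJ hp he ha0 ha0J
  let j1 := j0 * b0
  have hj1 : InJ M o e j1 := ho.inJ_mul_right hp he hb0 hj0
  have hyj1 : y * j1 = F * e := by
    show y * (j0 * b0) = F * e
    rw [← mul_assoc, hya, mul_assoc, hab]
  have hεε : F * e * (F * e) = F * e := idem_fIdem_mul he.idem c
  have hsym : F * j1 * y = F * e := by
    apply corner_mul_symm hεε (a := y) (b := F * j1)
    · refine ⟨?_, ?_⟩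
      · rw [mul_assoc, hyC.1, hFy]
      · rw [← mul_assoc, ← hFc y, hFy, hyC.2]
    · refine ⟨?_, ?_⟩
      · rw [hFm, hj1.left]
      · rw [hFm, hj1.right]
    · rw [← mul_assoc, ← hFc y, hFy, hyj1]
  have hJ : ∀ j, InJ M o e j → ∃ a', InE o e a' ∧ F * j = F * (j1 * a') := by
    intro j hj
    obtain ⟨a', ha', h1⟩ := hyj j hj
    refine ⟨a', ha', ?_⟩
    calc F * j = F * e * (F * j) := by rw [hFm, hj.left]
      _ = F * j1 * (y * (F * j)) := by rw [← hsym, mul_assoc]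
      _ = F * j1 * (F * (y * j)) := by rw [← mul_assoc y, ← hFc y, mul_assoc F y j]
      _ = F * j1 * (F * a') := by rw [h1, ← mul_assoc F F, hFF]
      _ = F * (j1 * a') := hFm _ _
  have hS : ∀ n : ℕ, ∀ a, InE o e a → ∃ x a', ZP o e j1 x ∧ InE o e a' ∧
      F * a = F * (x + j1 ^ n * a') := by
    intro n
    induction n with
    | zero => intro a ha; exact ⟨0, a, ZP.zero, ha, by simp⟩
    | succ n ih =>
      intro a ha
      obtain ⟨x, a', hx, ha', h1⟩ := ih a ha
      obtain ⟨s, hs, hj⟩ := ho.exists_scalar hp he ha'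
      obtain ⟨a'', ha'', h2⟩ := hJ _ hj
      refine ⟨x + s • (j1 ^ n * e), a'', hx.add ((ZP.pow n).smul hs), ha'', ?_⟩
      have h3 : a' = s • e + (a' - s • e) := by abel
      rw [h1, mul_add, mul_add, mul_add]
      have h4 : F * (j1 ^ n * a') = F * (s • (j1 ^ n * e)) + F * (j1 ^ (n + 1) * a'') := by
        conv_lhs => rw [h3]
        rw [mul_add, mul_add, mul_smul_comm]
        congr 1
        rw [← mul_assoc, hFc (j1 ^ n), mul_assoc, h2, pow_succ, mul_assoc (j1 ^ n),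
          ← mul_assoc (j1 ^ n), ← hFc (j1 ^ n), mul_assoc F]
      rw [h4]; abel
  have hS1 : ∀ a, InE o e a → ∃ x a', ZP o e j1 x ∧ InE o e a' ∧
      F * a = F * (x + (p : ℂ) • a') := by
    intro a ha
    obtain ⟨x, a', hx, ha', h1⟩ := hS (Module.finrank (KF M) (MonoidAlgebra (KF M) G) + 1) a ha
    obtain ⟨w', hw', h2⟩ := (JP.pow hj1 _).exists_p_smul ho hp he
    refine ⟨x, w' * a', hx, hw'.mul ha', ?_⟩
    rw [h1]
    congr 2
    rw [← smul_mul_assoc, ← h2]
    rw [pow_succ', ← mul_assoc e, hj1.left]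
  have hSr : ∀ r : ℕ, ∀ a, InE o e a → ∃ x a', ZP o e j1 x ∧ InE o e a' ∧
      F * a = F * (x + (p : ℂ) ^ r • a') := by
    intro r
    induction r with
    | zero => intro a ha; exact ⟨0, a, ZP.zero, ha, by simp⟩
    | succ r ih =>
      intro a ha
      obtain ⟨x, a', hx, ha', h1⟩ := ih a ha
      obtain ⟨x', a'', hx', ha'', h2⟩ := hS1 a' ha'
      refine ⟨x + (p : ℂ) ^ r • x', a'', hx.add (hx'.smul (o.pow_mem (natCast_mem o p) r)),
        ha'', ?_⟩
      rw [h1, mul_add, mul_smul_comm, h2, mul_add, mul_add, mul_add, mul_smul_comm, mul_smul_comm,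
        mul_smul_comm, smul_add, smul_smul, pow_succ]
      abel
  apply fIdem_mul_eq_zero ⟨o, ho⟩ hp
  intro r
  obtain ⟨x, a', hx, ha', h1⟩ := hSr r a ha
  obtain ⟨y', b', hy', hb', h2⟩ := hSr r b hb
  have hxE := hx.inE he hj1.toInE
  have hyE := hy'.inE he hj1.toInE
  refine ⟨(x * b' + a' * y' + (p : ℂ) ^ r • (a' * b')) -
      (y' * a' + b' * x + (p : ℂ) ^ r • (b' * a')), ?_, ?_⟩
  · refine ho.OG_le (InE.mem (e := e) (((hxE.mul hb').add (ha'.mul hyE)).add
      ((ha'.mul hb').smul (o.pow_mem (natCast_mem o p) r)) |>.sub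
      (((hyE.mul ha').add (hb'.mul hxE)).add
      ((hb'.mul ha').smul (o.pow_mem (natCast_mem o p) r)))))
  · rw [← mul_smul_comm]
    have h3 : F * (a * b - b * a) = F * a * (F * b) - F * b * (F * a) := by
      rw [hFm, hFm, mul_sub]
    rw [h3, h1, h2, hFm, hFm, ← mul_sub]
    congr 1
    rw [add_mul, mul_add, mul_add, add_mul, mul_add, mul_add, hx.comm he hj1.toInE hy']
    simp only [mul_smul_comm, smul_mul_assoc, smul_sub, smul_add]
    abel

end Cfsg.Agent.LD
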