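import Mathlib
import Cfsg.Agent.L.Hen9

set_option autoImplicit false

/-!
# Multiplicity one, II
-/

namespace Cfsg.Agent.LD

open Cfsg Cfsg.Agent.H11 Cfsg.Agent.H26 Cfsg.Agent.H3 Polynomial
open scoped ComplexConjugate

variable {p : ℕ} {M : Ideal AlgInt} [hM : M.IsPrime]
variable {G : Type*} [Group G] [Fintype G]

theorem lin_mul_comm' {χ : G → ℂ} (hχ : IsCharacter G χ) (x y : MonoidAlgebra ℂ G) :
    lin χ (x * y) = lin χ (y * x) := by
  obtain ⟨n, ρ, rfl⟩ := hχ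
  rw [lin_character, lin_character, map_mul ρ.asAlgebraHom, map_mul ρ.asAlgebraHom,
    LinearMap.trace_mul_comm]

/-- group elements in the group algebra -/
noncomputable abbrev sg (g : G) : MonoidAlgebra ℂ G := MonoidAlgebra.single g 1

theorem sg_mul (g h : G) : sg g * sg h = sg (g * h) := by
  rw [sg, sg, MonoidAlgebra.single_mul_single, mul_one]

theorem sg_inv_mul (g : G) : sg g⁻¹ * sg g = 1 := by
  rw [sg_mul, inv_mul_cancel, MonoidAlgebra.one_def]

theorem sg_mul_inv (g : G) : sg g * sg g⁻¹ = 1 := by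
  rw [sg_mul, mul_inv_cancel, MonoidAlgebra.one_def]

theorem isCen_avg (y : MonoidAlgebra ℂ G) : IsCen (∑ g : G, sg g * y * sg g⁻¹) := by
  apply IsCen_of_commute
  intro h
  show _ * sg h = sg h * _
  rw [Finset.sum_mul, Finset.mul_sum]
  refine Fintype.sum_equiv (Equiv.mulLeft h⁻¹) _ _ fun g => ?_
  have h1 : sg g * y * sg g⁻¹ * sg h = sg g * y * (sg g⁻¹ * sg h) := by simp only [mul_assoc]
  have h2 : sg h * (sg (h⁻¹ * g) * y * sg (h⁻¹ * g)⁻¹) =
      (sg h * sg (h⁻¹ * g)) * y * sg (h⁻¹ * g)⁻¹ := by simp only [mul_assoc]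
  show _ = sg h * (sg (h⁻¹ * g) * y * sg (h⁻¹ * g)⁻¹)
  rw [h1, h2, sg_mul, sg_mul]
  congr 2
  · rw [mul_inv_cancel_left]
  · rw [mul_inv_rev, inv_inv]

theorem sum_conj_lin {χ : G → ℂ} (hχ : IsIrrCharacter G χ) (x y : MonoidAlgebra ℂ G) :
    ∑ g : G, lin χ (x * (sg g * y * sg g⁻¹)) =
      (Nat.card G : ℂ) / χ 1 * (lin χ x * lin χ y) := by
  have h1 : ∑ g : G, lin χ (x * (sg g * y * sg g⁻¹)) =
      lin χ ((∑ g : G, sg g * y * sg g⁻¹) * x) := by
    rw [← lin_mul_comm' (irr_isChar hχ), ← map_sum, Finset.mul_sum]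
  rw [h1, lin_mul_of_isCen hχ (isCen_avg y), omega, map_sum]
  have h2 : ∀ g : G, lin χ (sg g * y * sg g⁻¹) = lin χ y := by
    intro g
    rw [lin_mul_comm' (irr_isChar hχ), ← mul_assoc, sg_inv_mul, one_mul]
  rw [Finset.sum_congr rfl fun g _ => h2 g, Finset.sum_const, Finset.card_univ, nsmul_eq_mul,
    ← Nat.card_eq_fintype_card]
  ring

theorem lin_mul_eIdem (χ : IrrCharacter G) (x : MonoidAlgebra ℂ G) :
    lin (χ : G → ℂ) (x * eIdem (χ : G → ℂ)) = lin (χ : G → ℂ) x := by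
  classical
  rw [← isCen_commute (isCen_eIdem (irr_classFun χ.2)),
    lin_mul_of_isCen χ.2 (isCen_eIdem (irr_classFun χ.2)), omega_eIdem_irr, if_pos rfl, one_mul]

theorem sum_lin_lin (χ : IrrCharacter G) (x y : MonoidAlgebra ℂ G) :
    ∑ g : G, lin (χ : G → ℂ) (x * sg g) * lin (χ : G → ℂ) (sg g⁻¹ * y) =
      (Nat.card G : ℂ) / (χ : G → ℂ) 1 * lin (χ : G → ℂ) (x * y) := by
  classical
  have hG0 : (Nat.card G : ℂ) ≠ 0 := Nat.cast_ne_zero.mpr Nat.card_pos.ne'
  have hn0 := irr_one_ne_zero χ.2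
  -- the case `y = k`
  have key : ∀ k : G, ∑ g : G, lin (χ : G → ℂ) (x * sg g) * (χ : G → ℂ) (g⁻¹ * k) =
      (Nat.card G : ℂ) / (χ : G → ℂ) 1 * lin (χ : G → ℂ) (x * sg k) := by
    intro k
    have h1 := lin_mul_eIdem χ (x * sg k)
    rw [← h1, alg_eq_sum (eIdem (χ : G → ℂ)), Finset.mul_sum, map_sum, Finset.mul_sum]
    refine Fintype.sum_equiv (Equiv.mulLeft k⁻¹) _ _ fun g => ?_
    show _ = _ * lin (χ : G → ℂ) (x * sg k * MonoidAlgebra.single (k⁻¹ * g)
      ((eIdem (χ : G → ℂ)).coeff (k⁻¹ * g)))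
    have h2 : MonoidAlgebra.single (k⁻¹ * g) ((eIdem (χ : G → ℂ)).coeff (k⁻¹ * g)) =
        (eIdem (χ : G → ℂ)).coeff (k⁻¹ * g) • sg (k⁻¹ * g) := by
      rw [sg, MonoidAlgebra.smul_single, smul_eq_mul, mul_one]
    rw [h2, mul_smul_comm, map_smul, mul_assoc, sg_mul, mul_inv_cancel_left, coeff_eIdem,
      ← char_inv (irr_isChar χ.2), mul_inv_rev, inv_inv, smul_eq_mul]
    field_simp
  have h3 : ∀ g : G, lin (χ : G → ℂ) (sg g⁻¹ * y) = ∑ k : G, y.coeff k * (χ : G → ℂ) (g⁻¹ * k) := by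
    intro g
    conv_lhs => rw [alg_eq_sum y]
    rw [Finset.mul_sum, map_sum]
    refine Finset.sum_congr rfl fun k _ => ?_
    rw [MonoidAlgebra.single_mul_single, lin_single, one_mul]
  have h4 : lin (χ : G → ℂ) (x * y) = ∑ k : G, y.coeff k * lin (χ : G → ℂ) (x * sg k) := by
    conv_lhs => rw [alg_eq_sum y]
    rw [Finset.mul_sum, map_sum]
    refine Finset.sum_congr rfl fun k _ => ?_
    have h2 : MonoidAlgebra.single k (y.coeff k) = y.coeff k • sg k := by
      rw [sg, MonoidAlgebra.smul_single, smul_eq_mul, mul_one]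
    rw [h2, mul_smul_comm, map_smul, smul_eq_mul]
  rw [h4, Finset.mul_sum]
  simp only [h3, Finset.mul_sum]
  rw [Finset.sum_comm]
  refine Finset.sum_congr rfl fun k _ => ?_
  have h5 := key k
  calc ∑ g : G, lin (χ : G → ℂ) (x * sg g) * (y.coeff k * (χ : G → ℂ) (g⁻¹ * k))
      = y.coeff k * ∑ g : G, lin (χ : G → ℂ) (x * sg g) * (χ : G → ℂ) (g⁻¹ * k) := by
        rw [Finset.mul_sum]
        exact Finset.sum_congr rfl fun g _ => by ring
    _ = _ := by rw [h5]; ring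

/-- the value of a character on an idempotent is a natural number -/
theorem lin_idem_nat {χ : G → ℂ} (hχ : IsCharacter G χ) {e : MonoidAlgebra ℂ G}
    (he : e * e = e) : ∃ k : ℕ, lin χ e = k := by
  obtain ⟨n, ρ, rfl⟩ := hχ
  have h1 : IsIdempotentElem (ρ.asAlgebraHom e) := by
    rw [IsIdempotentElem, ← map_mul, he]
  refine ⟨Module.finrank ℂ (LinearMap.range (ρ.asAlgebraHom e)), ?_⟩
  rw [lin_character]
  exact (LinearMap.IsIdempotentElem.isProj_range _ h1).trace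

/-- **Multiplicity one.** -/
theorem mult_le_one {o : Subring ℂ} (ho : IsHen p M o) (hp : IsPModular p M)
    {c : Set (IrrCharacter G)} (hc : RSet p o c) {e : MonoidAlgebra ℂ G} (he : Prim o e)
    (hε : fIdem c * e ∉ OG o G) {χ : IrrCharacter G} (hχ : χ ∈ c) :
    lin (χ : G → ℂ) e = 0 ∨ lin (χ : G → ℂ) e = 1 := by
  classical
  have hG0 : (Nat.card G : ℂ) ≠ 0 := Nat.cast_ne_zero.mpr Nat.card_pos.ne'
  have hn0 := irr_one_ne_zero χ.2
  have hq0 : (Nat.card G : ℂ) / (χ : G → ℂ) 1 ≠ 0 := div_ne_zero hG0 hn0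
  set m := lin (χ : G → ℂ) e with hm
  have hE : ∀ g : G, InE o e (e * sg g * e) := by
    intro g
    refine ⟨(OG o G).mul_mem ((OG o G).mul_mem he.mem ?_) he.mem, ?_, ?_⟩
    · rw [mem_OG]
      intro x
      rw [MonoidAlgebra.coeff_single, Finsupp.single_apply]
      split_ifs
      · exact o.one_mem
      · exact o.zero_mem
    · rw [← mul_assoc, ← mul_assoc, he.idem]
    · rw [mul_assoc, he.idem]
  have hcomm : ∀ g h : G, ∀ w, lin (χ : G → ℂ) ((e * sg g * e) * (e * sg h * e) * w) =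
      lin (χ : G → ℂ) ((e * sg h * e) * (e * sg g * e) * w) := by
    intro g h w
    have h1 := comm_component ho hp hc he hε (hE g) (hE h)
    have h2 := lin_fIdem_mul_of_mem hχ
      (((e * sg g * e) * (e * sg h * e) - (e * sg h * e) * (e * sg g * e)) * w)
    rw [← mul_assoc, h1, zero_mul, map_zero, sub_mul, map_sub] at h2
    exact sub_eq_zero.mp h2.symm
  have hc' := lin_mul_comm' (irr_isChar χ.2)
  -- left hand side
  have hL : ∑ h : G, ∑ g : G, lin (χ : G → ℂ) ((e * sg g * e) * (e * sg h * e) * (sg g⁻¹ * sg h⁻¹)) =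
      (Nat.card G : ℂ) / (χ : G → ℂ) 1 * ((Nat.card G : ℂ) / (χ : G → ℂ) 1 * m) := by
    have h1 : ∀ h : G, ∑ g : G, lin (χ : G → ℂ) ((e * sg g * e) * (e * sg h * e) *
        (sg g⁻¹ * sg h⁻¹)) = (Nat.card G : ℂ) / (χ : G → ℂ) 1 *
          (lin (χ : G → ℂ) (e * sg h) * lin (χ : G → ℂ) (sg h⁻¹ * e)) := by
      intro h
      have h2 : ∀ g : G, lin (χ : G → ℂ) ((e * sg g * e) * (e * sg h * e) * (sg g⁻¹ * sg h⁻¹)) =
          lin (χ : G → ℂ) ((sg h⁻¹ * e) * (sg g * (e * sg h * e) * sg g⁻¹)) := by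
        intro g
        have h3 : (e * sg g * e) * (e * sg h * e) * (sg g⁻¹ * sg h⁻¹) =
            (e * sg g * (e * sg h * e) * sg g⁻¹) * sg h⁻¹ := by
          have : (e * sg g * e) * (e * sg h * e) = e * sg g * (e * sg h * e) := by
            rw [mul_assoc (e * sg g), ← mul_assoc e (e * sg h), ← mul_assoc e e, he.idem]
          rw [this]; simp only [mul_assoc]
        rw [h3, hc']
        simp only [mul_assoc]
      rw [Finset.sum_congr rfl fun g _ => h2 g, sum_conj_lin χ.2]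
      have h4 : lin (χ : G → ℂ) (e * sg h * e) = lin (χ : G → ℂ) (e * sg h) := by
        rw [hc', ← mul_assoc, he.idem]
      rw [h4]; ring
    rw [Finset.sum_congr rfl fun h _ => h1 h, ← Finset.mul_sum, sum_lin_lin, he.idem]
  have hR : ∑ h : G, ∑ g : G, lin (χ : G → ℂ) ((e * sg h * e) * (e * sg g * e) * (sg g⁻¹ * sg h⁻¹)) =
      (Nat.card G : ℂ) / (χ : G → ℂ) 1 * ((Nat.card G : ℂ) / (χ : G → ℂ) 1 * (m * m) * m) := by
    have h1 : ∀ h : G, ∑ g : G, lin (χ : G → ℂ) ((e * sg h * e) * (e * sg g * e) *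
        (sg g⁻¹ * sg h⁻¹)) = (Nat.card G : ℂ) / (χ : G → ℂ) 1 *
          (lin (χ : G → ℂ) (e * (sg h * e * sg h⁻¹)) * m) := by
      intro h
      have h2 : ∀ g : G, lin (χ : G → ℂ) ((e * sg h * e) * (e * sg g * e) * (sg g⁻¹ * sg h⁻¹)) =
          lin (χ : G → ℂ) ((sg h⁻¹ * (e * sg h * e)) * (sg g * e * sg g⁻¹)) := by
        intro g
        have h3 : (e * sg h * e) * (e * sg g * e) * (sg g⁻¹ * sg h⁻¹) =
            ((e * sg h * e) * (sg g * e * sg g⁻¹)) * sg h⁻¹ := by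
          have : (e * sg h * e) * (e * sg g * e) = e * sg h * e * (sg g * e) := by
            rw [mul_assoc e (sg g), ← mul_assoc (e * sg h * e) e, mul_assoc (e * sg h) e e, he.idem]
          rw [this]; simp only [mul_assoc]
        rw [h3, hc']
        simp only [mul_assoc]
      rw [Finset.sum_congr rfl fun g _ => h2 g, sum_conj_lin χ.2]
      have h4 : lin (χ : G → ℂ) (sg h⁻¹ * (e * sg h * e)) =
          lin (χ : G → ℂ) (e * (sg h * e * sg h⁻¹)) := by
        rw [hc']; simp only [mul_assoc]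
      rw [h4]
    rw [Finset.sum_congr rfl fun h _ => h1 h, ← Finset.mul_sum, ← Finset.sum_mul, sum_conj_lin χ.2]
  have hLR : (Nat.card G : ℂ) / (χ : G → ℂ) 1 * ((Nat.card G : ℂ) / (χ : G → ℂ) 1 * m) =
      (Nat.card G : ℂ) / (χ : G → ℂ) 1 * ((Nat.card G : ℂ) / (χ : G → ℂ) 1 * (m * m) * m) := by
    rw [← hL, ← hR]
    exact Finset.sum_congr rfl fun h _ => Finset.sum_congr rfl fun g _ => hcomm g h _
  have h5 := mul_left_cancel₀ hq0 hLR
  rw [mul_assoc] at h5
  have h6 := mul_left_cancel₀ hq0 h5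
  obtain ⟨k, hk⟩ := lin_idem_nat (irr_isChar χ.2) he.idem
  rw [← hm] at hk
  rw [hk] at h6 ⊢
  have h7 : k = k * k * k := by exact_mod_cast h6
  rcases Nat.eq_zero_or_pos k with h0 | h0
  · left; rw [h0]; simp
  · right
    have h8 : k = 1 := by
      have h9 : k * 1 = k * (k * k) := by rw [mul_one]; rw [← mul_assoc]; exact h7
      have h10 := Nat.eq_of_mul_eq_mul_left h0 h9
      exact Nat.eq_one_of_mul_eq_one_right h10.symm
    rw [h8]; simp

end Cfsg.Agent.LD
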