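import Mathlib
import Cfsg.Agent.L.Hen10

set_option autoImplicit false

/-!
# Primitive idempotents separate the `p`-regular elements
-/

namespace Cfsg.Agent.LD

open Cfsg Cfsg.Agent.H11 Cfsg.Agent.H26 Cfsg.Agent.H3 Polynomial
open scoped ComplexConjugate

variable {p : ℕ} {M : Ideal AlgInt} [hM : M.IsPrime]
variable {G : Type*} [Group G] [Fintype G]

theorem range_lt {f f' : MonoidAlgebra ℂ G} (hi : f' * f' = f') (hff' : f * f' = f')
    (hf'f : f' * f = f') (hne : f' ≠ f) :
    Module.finrank ℂ (LinearMap.range (LinearMap.mulLeft ℂ f')) <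
      Module.finrank ℂ (LinearMap.range (LinearMap.mulLeft ℂ f)) := by
  apply Submodule.finrank_lt_finrank_of_lt
  refine lt_of_le_of_ne ?_ ?_
  · rintro _ ⟨b, rfl⟩
    exact ⟨f' * b, by rw [LinearMap.mulLeft_apply, LinearMap.mulLeft_apply, ← mul_assoc, hff']⟩
  · intro heq
    have h1 : f ∈ LinearMap.range (LinearMap.mulLeft ℂ f') := by
      rw [heq]; exact ⟨1, by simp⟩
    obtain ⟨b, hb⟩ := h1
    rw [LinearMap.mulLeft_apply] at hb
    apply hne
    have h3 : f' * f = f' * (f' * b) := by rw [hb]
    rw [← mul_assoc, hi, hb, hf'f] at h3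
    exact h3

theorem lin_idem_eq_zero {o : Subring ℂ} (h : G → ℂ) (hh : ∀ e, Prim o e → lin h e = 0) :
    ∀ (n : ℕ) (f : MonoidAlgebra ℂ G), f ∈ OG o G → f * f = f →
      Module.finrank ℂ (LinearMap.range (LinearMap.mulLeft ℂ f)) = n → lin h f = 0 := by
  intro n
  induction n using Nat.strong_induction_on with
  | _ n ih =>
    intro f hf hff hn
    by_cases hf0 : f = 0
    · rw [hf0, map_zero]
    by_cases hP : Prim o f
    · exact hh f hP
    · have h1 : ¬ ∀ f' ∈ OG o G, f' * f' = f' → f * f' = f' → f' * f = f' → f' = 0 ∨ f' = f :=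
        fun h2 => hP ⟨hf, hff, hf0, h2⟩
      push Not at h1
      obtain ⟨f', hf', hi, hl, hr, h0, hne⟩ := h1
      have h2 : lin h f' = 0 := ih _ (by rw [← hn]; exact range_lt hi hl hr hne) f' hf' hi rfl
      have hi'' : (f - f') * (f - f') = f - f' := by
        rw [sub_mul, mul_sub, mul_sub, hff, hl, hr, hi]; abel
      have h3 : lin h (f - f') = 0 := by
        refine ih _ (by
          rw [← hn]
          refine range_lt hi'' ?_ ?_ ?_
          · rw [mul_sub, hff, hl]
          · rw [sub_mul, hff, hr]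
          · intro h4
            apply h0
            have : f - (f - f') = f' := by abel
            rw [← this, h4, sub_self]) (f - f') ((OG o G).sub_mem hf hf') hi'' rfl
      have h4 : f = f' + (f - f') := by abel
      rw [h4, map_add, h2, h3, add_zero]

/-- **Primitive idempotents separate the `p`-regular elements.** -/
theorem vanish_reg {o : Subring ℂ} (ho : IsHen p M o) (hp : IsPModular p M) (h : G → ℂ)
    (hh : ∀ e, Prim o e → lin h e = 0) {y : G} (hy : ¬ p ∣ orderOf y) : h y = 0 := by
  classical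
  set n := orderOf y with hn
  have hn0 : n ≠ 0 := (orderOf_pos y).ne'
  have hnC : (n : ℂ) ≠ 0 := Nat.cast_ne_zero.mpr hn0
  have hninv : (n : ℂ)⁻¹ ∈ o := ho.inv (natCast_mem o n) fun h => hy ((li_natCast_iff hp n).mp h)
  have hz : ∀ z : ℂ, z ^ n = 1 → ∑ i ∈ Finset.range n, z ^ i * h (y ^ i) = 0 := by
    intro z hzn
    have hzo : z ∈ o := ho.rootOfUnity hp hy hzn
    let v : MonoidAlgebra ℂ G := z • sg y
    have hvi : ∀ i, v ^ i = z ^ i • sg (y ^ i) := by
      intro i
      show (z • sg y) ^ i = _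
      rw [_root_.smul_pow, sg, MonoidAlgebra.single_pow, one_pow]
    have hvn : v ^ n = 1 := by
      rw [hvi, hzn, one_smul, hn, pow_orderOf_eq_one, MonoidAlgebra.one_def]
    have hv : v ∈ OG o G := by
      refine smul_mem_OG ?_ hzo
      rw [mem_OG]
      intro x
      rw [MonoidAlgebra.coeff_single, Finsupp.single_apply]
      split_ifs
      · exact o.one_mem
      · exact o.zero_mem
    let S : MonoidAlgebra ℂ G := ∑ i ∈ Finset.range n, v ^ i
    have hvS : v * S = S := by
      have h1 : (1 - v) * S = 1 - v ^ n := mul_neg_geom_sum v n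
      rw [hvn, sub_self, sub_mul, one_mul, sub_eq_zero] at h1
      exact h1.symm
    have hviS : ∀ i, v ^ i * S = S := by
      intro i
      induction i with
      | zero => simp
      | succ i ih => rw [pow_succ, mul_assoc, hvS, ih]
    have hSS : S * S = (n : ℂ) • S := by
      show (∑ i ∈ Finset.range n, v ^ i) * S = _
      rw [Finset.sum_mul, Finset.sum_congr rfl fun i _ => hviS i, Finset.sum_const,
        Finset.card_range, Nat.cast_smul_eq_nsmul]
    have h2 : lin h ((n : ℂ)⁻¹ • S) = 0 := by
      refine lin_idem_eq_zero h hh _ _ (smul_mem_OG ((OG o G).sum_mem fun i _ =>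
        (OG o G).pow_mem hv i) hninv) ?_ rfl
      rw [smul_mul_smul_comm, hSS, smul_smul, mul_assoc, inv_mul_cancel₀ hnC, mul_one]
    rw [map_smul, smul_eq_mul] at h2
    have h3 := (mul_eq_zero.mp h2).resolve_left (inv_ne_zero hnC)
    rw [← h3]
    show _ = lin h (∑ i ∈ Finset.range n, v ^ i)
    rw [map_sum]
    refine Finset.sum_congr rfl fun i _ => ?_
    rw [hvi, map_smul, lin_single, one_mul, smul_eq_mul]
  -- a polynomial of degree < n with n roots
  let P : ℂ[X] := ∑ i ∈ Finset.range n, C (h (y ^ i)) * X ^ i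
  have hP : P = 0 := by
    have hω := Complex.isPrimitiveRoot_exp n hn0
    refine eq_zero_of_natDegree_lt_card_of_eval_eq_zero' P
      (nthRootsFinset n (1 : ℂ)) ?_ ?_
    · intro z hz1
      rw [mem_nthRootsFinset (Nat.pos_of_ne_zero hn0)] at hz1
      show eval z (∑ i ∈ Finset.range n, C (h (y ^ i)) * X ^ i) = 0
      rw [eval_finset_sum, ← hz z hz1]
      refine Finset.sum_congr rfl fun i _ => ?_
      rw [eval_mul, eval_C, eval_pow, eval_X, mul_comm]
    · rw [hω.card_nthRootsFinset]
      refine lt_of_le_of_lt (natDegree_sum_le_of_forall_le (n := n - 1) _ _ ?_) (by omega)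
      intro i hi
      refine (natDegree_C_mul_X_pow_le _ _).trans ?_
      have := Finset.mem_range.mp hi
      omega
  have h1 : P.coeff (1 % n) = h (y ^ (1 % n)) := by
    show (∑ i ∈ Finset.range n, C (h (y ^ i)) * X ^ i).coeff (1 % n) = _
    rw [finset_sum_coeff]
    simp only [coeff_C_mul, coeff_X_pow]
    rw [Finset.sum_eq_single (1 % n)]
    · simp
    · intro b _ hb
      rw [if_neg hb.symm, mul_zero]
    · intro hb
      exact absurd (Finset.mem_range.mpr (Nat.mod_lt _ (Nat.pos_of_ne_zero hn0))) hb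
  rw [hP, coeff_zero] at h1
  have h2 : y ^ (1 % n) = y := by rw [hn, pow_mod_orderOf, pow_one]
  rw [h2] at h1
  exact h1.symm

end Cfsg.Agent.LD
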