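import Mathlib
import Cfsg.Agent.L.DO5
import Cfsg.Agent.L.Hen11

set_option autoImplicit false

/-!
# Groups with a Sylow `p`-subgroup of order `p`: rationality
-/

namespace Cfsg.Agent.LD

open Cfsg Cfsg.Agent.H3 Cfsg.Agent.H11 Cfsg.Agent.H26 Cfsg.Agent.H27 Finset
open scoped ComplexConjugate Pointwise

universe u

variable {G : Type u} [Group G] [Fintype G] {p : ℕ} {M : Ideal AlgInt}
  {P : Subgroup G}

/-- the values of characters at `p`-regular elements are in `o` -/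
theorem char_reg_mem [M.IsPrime] {o : Subring ℂ} (ho : IsHen p M o) (hM : IsPModular p M)
    {χ : G → ℂ} (hχ : IsCharacter G χ) {g : G} (hg : ¬ p ∣ orderOf g) : χ g ∈ o := by
  have hN : orderOf g ≠ 0 := (orderOf_pos g).ne'
  obtain ⟨f, hf⟩ := IsGalSeq.char hχ hN (pow_orderOf_eq_one g)
  have h1 := hf 1
  simp only [pow_one] at h1
  rw [h1]
  have hζ : Complex.exp (2 * Real.pi * Complex.I / (orderOf g : ℕ)) ∈ o :=
    ho.rootOfUnity hM hg (Complex.isPrimitiveRoot_exp _ hN).pow_eq_one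
  rw [Polynomial.aeval_eq_sum_range]
  refine o.sum_mem fun i _ => ?_
  rw [zsmul_eq_mul]
  exact o.mul_mem (intCast_mem o _) (o.pow_mem hζ i)

variable [hp : Fact p.Prime]

/-- Galois data -/
structure GalD (p : ℕ) (P : Subgroup G) (k0 : ℕ) : Prop where
  cop : k0.Coprime (Nat.card G)
  reg : ∀ c : G, ¬ p ∣ orderOf c → c ^ k0 = c
  gen : ∀ k : ℕ, ¬ p ∣ k → ∃ j, ∀ x ∈ P, x ^ k = x ^ (k0 ^ j)

theorem exists_galD (h : Loc p P) {g0 : ℕ} (hg0 : ¬ p ∣ g0)
    (hgen : ∀ k : ℕ, ¬ p ∣ k → ∃ j, ∀ x ∈ P, x ^ k = x ^ (g0 ^ j)) :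
    ∃ k0 : ℕ, GalD p P k0 ∧ ∀ x ∈ P, x ^ k0 = x ^ g0 := by
  have hn : Nat.card G ≠ 0 := Nat.card_pos.ne'
  set r := Nat.card G / p with hr
  have hpd : p ∣ Nat.card G := by
    rw [← h.card]; exact Subgroup.card_subgroup_dvd_card P
  have hqr : p * r = Nat.card G := Nat.mul_div_cancel' hpd
  have hcop : Nat.Coprime p r := by
    rw [Nat.Prime.coprime_iff_not_dvd hp.out]
    intro hd
    apply h.sq
    rw [← hqr, pow_two]
    exact Nat.mul_dvd_mul_left p hd
  obtain ⟨k, hk1, hk2⟩ := Nat.chineseRemainder hcop g0 1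
  have hx : ∀ x ∈ P, x ^ k = x ^ g0 := by
    intro x hx
    rw [pow_eq_pow_iff_modEq]
    apply hk1.of_dvd
    by_cases hx1 : x = 1
    · rw [hx1, orderOf_one]; exact one_dvd _
    · rw [h.orderOf_eq hx hx1]
  have hkp : k.Coprime p := by
    have h1 : Nat.gcd k p = Nat.gcd g0 p := hk1.gcd_eq
    have h2 : g0.Coprime p := ((Nat.Prime.coprime_iff_not_dvd hp.out).mpr hg0).symm
    exact h1.trans h2
  have hkr : k.Coprime r := by
    have h1 : Nat.gcd k r = Nat.gcd 1 r := hk2.gcd_eq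
    rw [Nat.gcd_one_left] at h1
    exact h1
  refine ⟨k, ⟨?_, ?_, ?_⟩, hx⟩
  · rw [← hqr]; exact Nat.Coprime.mul_right hkp hkr
  · intro c hc
    conv_rhs => rw [← pow_one c]
    rw [pow_eq_pow_iff_modEq]
    apply hk2.of_dvd
    have h1 : (orderOf c).Coprime p := ((Nat.Prime.coprime_iff_not_dvd hp.out).mpr hc).symm
    apply h1.dvd_of_dvd_mul_left
    rw [hqr]
    exact orderOf_dvd_natCard c
  · intro m hm
    obtain ⟨j, hj⟩ := hgen m hm
    refine ⟨j, fun x hxP => ?_⟩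
    rw [hj x hxP]
    clear hj
    induction j generalizing x with
    | zero => rw [pow_zero, pow_zero]
    | succ j ih => rw [pow_succ, pow_mul, pow_succ, pow_mul, ih x hxP, hx _ (P.pow_mem hxP _)]

namespace GalD

variable {k0 : ℕ} (hg : GalD p P k0)

include hg

omit hp in
theorem iterate_apply (j : ℕ) (χ : IrrCharacter G) (g : G) :
    (((galIrr k0 hg.cop)^[j] χ : IrrCharacter G) : G → ℂ) g = (χ : G → ℂ) (g ^ (k0 ^ j)) := by
  induction j generalizing g with
  | zero => rw [Function.iterate_zero, id, pow_zero, pow_one]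
  | succ j ih =>
    rw [Function.iterate_succ_apply', galIrr_apply, ih, ← pow_mul, pow_succ, mul_comm]

omit hp in
theorem reg_iterate (j : ℕ) {c : G} (hc : ¬ p ∣ orderOf c) : c ^ (k0 ^ j) = c := by
  induction j with
  | zero => rw [pow_zero, pow_one]
  | succ j ih => rw [pow_succ, pow_mul, ih, hg.reg c hc]

omit hp in
theorem translate (j : ℕ) (χ : IrrCharacter G) {x : G} (hx : x ∈ P) {s : cz P}
    (hs : ¬ p ∣ orderOf s) :
    (((galIrr k0 hg.cop)^[j] χ : IrrCharacter G) : G → ℂ) (x * s) =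
      (χ : G → ℂ) (x ^ (k0 ^ j) * s) := by
  have hc : Commute x (s : G) := Subgroup.mem_centralizer_iff.mp s.2 x hx
  rw [hg.iterate_apply, hc.mul_pow, hg.reg_iterate j (c := (s : G)) (by rwa [Subgroup.orderOf_coe])]

omit hp in
theorem sum_stable [Fintype (IrrCharacter G)] {S : Set (IrrCharacter G)}
    [DecidablePred (· ∈ S)] (hS : ∀ χ ∈ S, galIrr k0 hg.cop χ ∈ S) {A : Type*}
    [AddCommMonoid A] (F : IrrCharacter G → A) (j : ℕ) :
    ∑ χ : IrrCharacter G with χ ∈ S, F ((galIrr k0 hg.cop)^[j] χ) =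
      ∑ χ : IrrCharacter G with χ ∈ S, F χ := by
  classical
  have hinj := (galIrr_bijective (G := G) k0 hg.cop).1
  induction j with
  | zero => rfl
  | succ j ih =>
    rw [← ih]
    have h1 : ∑ χ : IrrCharacter G with χ ∈ S, F ((galIrr k0 hg.cop)^[j + 1] χ) =
        ∑ χ ∈ (Finset.univ.filter (· ∈ S)).image (galIrr k0 hg.cop),
          F ((galIrr k0 hg.cop)^[j] χ) := by
      rw [Finset.sum_image fun a _ b _ hab => hinj hab]
      rfl
    rw [h1]
    congr 1
    apply Finset.eq_of_subset_of_card_le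
    · intro χ hχ
      obtain ⟨ψ, hψ, rfl⟩ := Finset.mem_image.mp hχ
      exact Finset.mem_filter.mpr ⟨Finset.mem_univ _, hS ψ (Finset.mem_filter.mp hψ).2⟩
    · rw [Finset.card_image_of_injective _ hinj]

/-- stable sums do not change if `x` is replaced by a power -/
theorem sum_pow [Fintype (IrrCharacter G)] {S : Set (IrrCharacter G)}
    [DecidablePred (· ∈ S)] (hS : ∀ χ ∈ S, galIrr k0 hg.cop χ ∈ S) {x : G} (hx : x ∈ P)
    {s : cz P} (hs : ¬ p ∣ orderOf s) {k : ℕ} (hk : ¬ p ∣ k) :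
    ∑ χ : IrrCharacter G with χ ∈ S, (χ : G → ℂ) (x ^ k * s) =
      ∑ χ : IrrCharacter G with χ ∈ S, (χ : G → ℂ) (x * s) := by
  obtain ⟨j, hj⟩ := hg.gen k hk
  rw [← hg.sum_stable hS (fun χ => (χ : G → ℂ) (x * s)) j]
  refine Finset.sum_congr rfl fun χ _ => ?_
  rw [hg.translate j χ hx hs, hj x hx]

theorem sum_DD_pow [Fintype (IrrCharacter G)] [Fintype (cz P)] {S : Set (IrrCharacter G)}
    [DecidablePred (· ∈ S)] (hS : ∀ χ ∈ S, galIrr k0 hg.cop χ ∈ S) {x : G} (hx : x ∈ P)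
    (φ : cz P → ℂ) {k : ℕ} (hk : ¬ p ∣ k) :
    ∑ χ : IrrCharacter G with χ ∈ S, DD p (x ^ k) (χ : G → ℂ) φ =
      ∑ χ : IrrCharacter G with χ ∈ S, DD p x (χ : G → ℂ) φ := by
  unfold DD
  rw [Finset.sum_comm, Finset.sum_comm (s := Finset.univ.filter (· ∈ S))]
  refine Finset.sum_congr rfl fun s _ => ?_
  by_cases hs : p ∣ orderOf s
  · simp [hs]
  · simp only [if_neg hs]
    rw [← Finset.sum_mul, ← Finset.sum_mul, hg.sum_pow hS hx hs hk]

end GalD

namespace Loc

variable (h : Loc p P)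

theorem sum_pow_root {l : ℂ} (hl : l ^ p = 1) [Decidable (l = 1)] :
    ∑ k ∈ Finset.range p, l ^ k = if l = 1 then (p : ℂ) else 0 := by
  split_ifs with h1
  · rw [h1]; simp
  · have h2 := mul_neg_geom_sum l p
    rw [hl, sub_self] at h2
    exact (mul_eq_zero.mp h2).resolve_left (sub_ne_zero.mpr (Ne.symm h1))

include h in
omit [Fintype G] in
theorem central {x : G} (hx : x ∈ P) (c : cz P) :
    (⟨x, h.le_cz hx⟩ : cz P) * c = c * ⟨x, h.le_cz hx⟩ := by
  apply Subtype.ext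
  exact Subgroup.mem_centralizer_iff.mp c.2 x hx

include h in
theorem sum_translate_mem [M.IsPrime] {o : Subring ℂ} (ho : IsHen p M o) (hM : IsPModular p M)
    {χ : G → ℂ} (hχ : IsCharacter G χ) {x : G} (hx : x ∈ P) {s : cz P}
    (hs : ¬ p ∣ orderOf s) : ∑ k ∈ Finset.range p, χ (x ^ k * s) ∈ o := by
  classical
  have := Fintype.ofFinite (cz P)
  have := Fintype.ofFinite (IrrCharacter (cz P))
  let x' : cz P := ⟨x, h.le_cz hx⟩
  have hc : ∀ c, x' * c = c * x' := h.central hx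
  have hxp : x' ^ p = 1 := by
    apply Subtype.ext
    change x ^ p = 1
    by_cases hx1 : x = 1
    · rw [hx1, one_pow]
    · rw [← h.orderOf_eq hx hx1, pow_orderOf_eq_one]
  have h1 : ∀ k : ℕ, χ (x ^ k * s) = ∑ θ : IrrCharacter (cz P),
      classInner (fun c : cz P => χ c) (θ : cz P → ℂ) * lv x' (θ : cz P → ℂ) ^ k *
        (θ : cz P → ℂ) s := by
    intro k
    have hck : ∀ c, x' ^ k * c = c * x' ^ k := fun c => (Commute.pow_left (hc c) k).eq
    have h2 := translate_eq_sum (C := cz P) hχ hck s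
    rw [Subgroup.coe_pow] at h2
    change χ (x ^ k * s) = _ at h2
    rw [h2]
    refine Finset.sum_congr rfl fun θ _ => ?_
    rw [lv_pow θ.2 hc]
  simp only [h1]
  rw [Finset.sum_comm]
  refine o.sum_mem fun θ _ => ?_
  have h2 : ∑ k ∈ Finset.range p, classInner (fun c : cz P => χ c) (θ : cz P → ℂ) *
      lv x' (θ : cz P → ℂ) ^ k * (θ : cz P → ℂ) s =
      classInner (fun c : cz P => χ c) (θ : cz P → ℂ) *
        (∑ k ∈ Finset.range p, lv x' (θ : cz P → ℂ) ^ k) * (θ : cz P → ℂ) s := by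
    rw [Finset.mul_sum, Finset.sum_mul]
  rw [h2, sum_pow_root (lv_pow_eq_one θ.2 hc hxp)]
  obtain ⟨n, hn⟩ := classInner_char_nat (isChar_restrict' (C := cz P) hχ) (irr_isChar θ.2)
  refine o.mul_mem (o.mul_mem ?_ ?_) ?_
  · rw [hn]; exact natCast_mem o n
  · split_ifs
    · exact natCast_mem o p
    · exact o.zero_mem
  · exact char_reg_mem ho hM (irr_isChar θ.2) hs

include h in
/-- every element is `p`-regular or conjugate to some `x s` -/
theorem exists_conj (g : G) : ¬ p ∣ orderOf g ∨ ∃ x ∈ P, x ≠ 1 ∧ ∃ s : cz P, ¬ p ∣ orderOf s ∧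
    IsConj g (x * s) := by
  classical
  by_cases hg : p ∣ orderOf g
  · right
    obtain ⟨x, y, hxy, hc, hx, hy⟩ := exists_isPPart hp.out g
    have hx1 : x ≠ 1 := by
      rintro rfl
      rw [one_mul] at hxy
      exact hy (hxy ▸ hg)
    obtain ⟨Q, hQ⟩ := (isPGroup_zpowers hx).exists_le_sylow
    obtain ⟨g0, hg0⟩ := MulAction.exists_smul_eq G h.syl Q
    have hxQ : g0⁻¹ * x * g0 ∈ P := by
      have h3 : x ∈ (Q : Subgroup G) := hQ (Subgroup.mem_zpowers x)
      rw [← hg0] at h3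
      have h4 : x ∈ MulAut.conj g0 • (h.syl : Subgroup G) := h3
      rw [Subgroup.mem_pointwise_smul_iff_inv_smul_mem] at h4
      have h5 : (MulAut.conj g0)⁻¹ • x = g0⁻¹ * x * g0 := by
        rw [← map_inv, MulAut.smul_def, MulAut.conj_apply, inv_inv]
      rw [h5] at h4
      exact h4
    have hxQ1 : g0⁻¹ * x * g0 ≠ 1 := by
      intro h3
      apply hx1
      have : x = g0 * (g0⁻¹ * x * g0) * g0⁻¹ := by group
      rw [this, h3]; group
    have hs : g0⁻¹ * y * g0 ∈ cz P := by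
      rw [h.cz_eq hxQ hxQ1, Subgroup.mem_centralizer_singleton_iff]
      calc g0⁻¹ * y * g0 * (g0⁻¹ * x * g0) = g0⁻¹ * (y * x) * g0 := by group
        _ = g0⁻¹ * (x * y) * g0 := by rw [hc.eq]
        _ = _ := by group
    refine ⟨_, hxQ, hxQ1, ⟨_, hs⟩, ?_, ?_⟩
    · rw [← Subgroup.orderOf_coe]
      have : g0⁻¹ * y * g0 = g0⁻¹ * y * g0⁻¹⁻¹ := by group
      change ¬ p ∣ orderOf (g0⁻¹ * y * g0)
      rw [this, orderOf_conj']; exact hy
    · rw [isConj_iff]
      refine ⟨g0⁻¹, ?_⟩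
      rw [← hxy]; group
  · exact Or.inl hg

include h in
/-- stable sets are rational -/
theorem stable_mem [M.IsPrime] {o : Subring ℂ} (ho : IsHen p M o) (hM : IsPModular p M)
    {k0 : ℕ} (hg : GalD p P k0) {S : Set (IrrCharacter G)}
    (hS : ∀ χ ∈ S, galIrr k0 hg.cop χ ∈ S) (g : G) : ∑ᶠ χ ∈ S, (χ : G → ℂ) g ∈ o := by
  classical
  have := Fintype.ofFinite (IrrCharacter G)
  rw [finsum_mem_irr]
  rcases h.exists_conj g with h1 | ⟨x, hx, hx1, s, hs, hc⟩
  · exact o.sum_mem fun χ _ => char_reg_mem ho hM (irr_isChar χ.2) h1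
  · obtain ⟨c, hc⟩ := isConj_iff.mp hc
    have h2 : ∑ χ : IrrCharacter G with χ ∈ S, (χ : G → ℂ) g =
        ∑ χ : IrrCharacter G with χ ∈ S, (χ : G → ℂ) (x * s) := by
      refine Finset.sum_congr rfl fun χ _ => ?_
      rw [← hc, irr_classFun χ.2]
    rw [h2]
    set v := ∑ χ : IrrCharacter G with χ ∈ S, (χ : G → ℂ) (x * s) with hv
    -- sum over all powers
    have h3 : ∑ χ : IrrCharacter G with χ ∈ S, ∑ k ∈ Finset.range p, (χ : G → ℂ) (x ^ k * s) =
        ∑ χ : IrrCharacter G with χ ∈ S, (χ : G → ℂ) s + ((p : ℂ) - 1) * v := by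
      rw [Finset.sum_comm]
      have hp1 : p = (p - 1) + 1 := (Nat.sub_add_cancel hp.out.one_le).symm
      conv_lhs => rw [hp1, Finset.sum_range_succ']
      rw [add_comm]
      congr 1
      · refine Finset.sum_congr rfl fun χ _ => ?_
        rw [pow_zero, one_mul]
      · have h4 : ∀ k ∈ Finset.range (p - 1), ∑ χ : IrrCharacter G with χ ∈ S,
            (χ : G → ℂ) (x ^ (k + 1) * s) = v := by
          intro k hk
          apply hg.sum_pow hS hx hs
          intro hd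
          have h5 := Nat.le_of_dvd (Nat.succ_pos k) hd
          have h6 := Finset.mem_range.mp hk
          omega
        rw [Finset.sum_congr rfl h4, Finset.sum_const, Finset.card_range, nsmul_eq_mul,
          Nat.cast_sub hp.out.one_le, Nat.cast_one]
    have h4 : ((p : ℂ) - 1) * v ∈ o := by
      have h5 : ((p : ℂ) - 1) * v = ∑ χ : IrrCharacter G with χ ∈ S,
          ∑ k ∈ Finset.range p, (χ : G → ℂ) (x ^ k * s) -
          ∑ χ : IrrCharacter G with χ ∈ S, (χ : G → ℂ) s := by rw [h3]; ring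
      rw [h5]
      refine o.sub_mem (o.sum_mem fun χ _ => h.sum_translate_mem ho hM (irr_isChar χ.2) hx hs)
        (o.sum_mem fun χ _ => char_reg_mem ho hM (irr_isChar χ.2) (h.not_dvd_of_cz hs))
    have h5 : ((p : ℂ) - 1)⁻¹ ∈ o := by
      apply ho.inv (o.sub_mem (natCast_mem o p) o.one_mem)
      intro hli
      have h6 := li_sub (li_p (M := M) hM.2.2) hli
      rw [sub_sub_cancel] at h6
      exact not_li_one M h6
    have h6 : (p : ℂ) - 1 ≠ 0 := by
      rw [sub_ne_zero]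
      exact_mod_cast hp.out.one_lt.ne'
    have h7 : v = ((p : ℂ) - 1)⁻¹ * (((p : ℂ) - 1) * v) := by
      rw [← mul_assoc, inv_mul_cancel₀ h6, one_mul]
    rw [h7]
    exact o.mul_mem h5 h4

include h in
/-- the stable sums of the generalised decomposition numbers are integers -/
theorem stable_int (hM : IsPModular p M) [Fintype (cz P)] {B : Set (IrrCharacter G)}
    (hB : IsPBlock M B) {k0 : ℕ} (hg : GalD p P k0) {S : Set (IrrCharacter G)} (hSB : S ⊆ B)
    (hS : ∀ χ ∈ S, galIrr k0 hg.cop χ ∈ S) {θ : IrrCharacter (cz P)} (hθ : θ ∈ Th M P B) :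
    ∃ c : ℤ, ∀ x ∈ P, x ≠ 1 → ∑ᶠ χ ∈ S, dd M x (χ : G → ℂ) θ = c := by
  classical
  have := Fintype.ofFinite (IrrCharacter G)
  have := Fintype.ofFinite (IrrCharacter (cz P))
  have hp0 : (p : ℂ) ≠ 0 := Nat.cast_ne_zero.mpr hp.out.ne_zero
  have hC0 : (Nat.card (cz P) : ℂ) ≠ 0 := card_ne_zeroC
  obtain ⟨x0, hx0, hx01⟩ : ∃ x ∈ P, x ≠ 1 := by
    by_contra hc
    push Not at hc
    have : P = ⊥ := (Subgroup.eq_bot_iff_forall P).mpr hc
    have h1 := h.card
    rw [this, Subgroup.card_bot] at h1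
    exact hp.out.one_lt.ne h1
  have hpow : ∀ k : ℕ, ¬ p ∣ k → ∑ χ : IrrCharacter G with χ ∈ S, dd M (x0 ^ k) (χ : G → ℂ) θ =
      ∑ χ : IrrCharacter G with χ ∈ S, dd M x0 (χ : G → ℂ) θ := by
    intro k hk
    have hxk1 : x0 ^ k ≠ 1 := by
      intro h1
      have h2 := orderOf_dvd_iff_pow_eq_one.mpr h1
      rw [h.orderOf_eq hx0 hx01] at h2
      exact hk h2
    have h1 := hg.sum_DD_pow hS hx0 (θ : cz P → ℂ) hk
    rw [Finset.sum_congr rfl fun χ hχ => h.DD_eq_dd hM hB (hSB (Finset.mem_filter.mp hχ).2)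
      (P.pow_mem hx0 k) hxk1 hθ, Finset.sum_congr rfl fun χ hχ => h.DD_eq_dd hM hB
      (hSB (Finset.mem_filter.mp hχ).2) hx0 hx01 hθ, ← Finset.mul_sum, ← Finset.mul_sum] at h1
    exact mul_left_cancel₀ (div_ne_zero hC0 hp0) h1
  let x' : cz P := ⟨x0, h.le_cz hx0⟩
  have hc : ∀ c, x' * c = c * x' := h.central hx0
  have hxp : x' ^ p = 1 := by
    apply Subtype.ext
    change x0 ^ p = 1
    rw [← h.orderOf_eq hx0 hx01, pow_orderOf_eq_one]
  have hgal : IsGalSeq p (fun m => ∑ χ : IrrCharacter G with χ ∈ S,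
      dd M (x0 ^ m) (χ : G → ℂ) θ) := by
    apply IsGalSeq.sum
    intro χ _
    have h1 : (fun m => dd M (x0 ^ m) (χ : G → ℂ) θ) = fun m =>
        ∑ φ : IrrCharacter (cz P) with φ ∈ blockOf M (θ : cz P → ℂ),
          ac (cz P) (x0 ^ m) (χ : G → ℂ) (φ : cz P → ℂ) := by
      funext m
      rw [dd, finsum_mem_irr]
    rw [h1]
    apply IsGalSeq.sum
    intro φ _
    exact gal_ac hp.out.ne_zero (irr_isChar χ.2) hc hxp φ
  obtain ⟨c, hc'⟩ := hgal.int_of_const hp.out.ne_zero (by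
    intro m hm
    simp only [pow_one]
    apply hpow
    intro hd
    have h1 := (mem_cop.mp hm).2
    rw [Nat.coprime_comm, Nat.Prime.coprime_iff_not_dvd hp.out] at h1
    exact h1 hd)
  refine ⟨c, fun x hx hx1 => ?_⟩
  rw [finsum_mem_irr]
  simp only [pow_one] at hc'
  rw [← hc']
  rw [← h.zpowers_eq hx0 hx01] at hx
  obtain ⟨k, rfl⟩ := (mem_powers_iff_mem_zpowers.mpr hx)
  change ∑ χ : IrrCharacter G with χ ∈ S, dd M (x0 ^ k) (χ : G → ℂ) θ = _
  apply hpow
  intro hd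
  apply hx1
  change x0 ^ k = 1
  rw [← orderOf_dvd_iff_pow_eq_one, h.orderOf_eq hx0 hx01]
  exact hd

end Loc

end Cfsg.Agent.LD
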