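import Mathlib
import Cfsg.Agent.L.DO6

set_option autoImplicit false

/-!
# The exceptional characters of a block of defect one
-/

namespace Cfsg.Agent.LD

open Cfsg Cfsg.Agent.H3 Cfsg.Agent.H11 Cfsg.Agent.H26 Cfsg.Agent.H27 Finset
open scoped ComplexConjugate Pointwise

universe u

theorem orbit_lemma {α : Type*} [Finite α] {B : Set α} (hB : B.Nonempty) (σ : α → α)
    (hσB : ∀ a ∈ B, σ a ∈ B) (f : ℕ) (hf : 0 < f)
    (h : ∀ j : ℕ, Nat.card {a : α | a ∈ B ∧ σ^[j] a ≠ a} = if f ∣ j then 0 else f) :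
    ∃ Y ⊆ B, Nat.card Y = f ∧ (∀ a ∈ B, a ∉ Y → σ a = a) ∧ (∀ a ∈ Y, σ a ∈ Y) ∧
      ∀ a ∈ Y, ∀ b ∈ Y, ∃ j : ℕ, σ^[j] a = b := by
  classical
  have hz : ∀ a ∈ B, σ^[f] a = a := by
    intro a ha
    by_contra hne
    have h1 := h f
    rw [if_pos dvd_rfl, Nat.card_eq_zero] at h1
    rcases h1 with h1 | h1
    · exact h1.elim ⟨a, ha, hne⟩
    · exact (not_infinite_iff_finite.mpr inferInstance) h1
  by_cases hf1 : f = 1
  · obtain ⟨a, ha⟩ := hB
    subst hf1
    have hfix : ∀ b ∈ B, σ b = b := fun b hb => hz b hb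
    refine ⟨{a}, by simpa using ha, by simp, fun b hb _ => hfix b hb, ?_, ?_⟩
    · intro b hb
      rw [Set.mem_singleton_iff] at hb
      rw [hb, hfix a ha]; rfl
    · intro b hb c hc
      rw [Set.mem_singleton_iff] at hb hc
      exact ⟨0, by rw [hb, hc]; rfl⟩
  have hf2 : 1 < f := by omega
  let Y : Set α := {a : α | a ∈ B ∧ σ a ≠ a}
  have hYc : Nat.card Y = f := by
    have h1 := h 1
    rw [if_neg (by rw [Nat.dvd_one]; exact hf1)] at h1
    simpa [Y] using h1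
  have hσY : ∀ a ∈ Y, σ a ∈ Y := by
    rintro a ⟨ha, hne⟩
    refine ⟨hσB a ha, fun h2 => hne ?_⟩
    have h3 : σ^[f] (σ a) = σ^[f] a := by
      rw [hz a ha]
      obtain ⟨m, rfl⟩ : ∃ m, f = m + 1 := ⟨f - 1, by omega⟩
      rw [Function.iterate_succ_apply, h2, ← Function.iterate_succ_apply, hz a ha]
    rw [hz a ha, hz (σ a) (hσB a ha)] at h3
    exact h3
  have hitY : ∀ (j : ℕ), ∀ a ∈ Y, σ^[j] a ∈ Y := by
    intro j
    induction j with
    | zero => intro a ha; exact ha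
    | succ j ih => intro a ha; rw [Function.iterate_succ_apply]; exact ih _ (hσY a ha)
  refine ⟨Y, fun a ha => ha.1, hYc, fun a ha hna => ?_, hσY, ?_⟩
  · by_contra h1; exact hna ⟨ha, h1⟩
  intro a ha b hb
  -- the minimal period of `a`
  set m := Function.minimalPeriod σ a with hm
  have hper : Function.IsPeriodicPt σ f a := hz a ha.1
  have hmpos : 0 < m := hper.minimalPeriod_pos hf
  have hmf : m ∣ f := hper.minimalPeriod_dvd
  have hma : σ^[m] a = a := Function.isPeriodicPt_minimalPeriod σ a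
  have hmeq : m = f := by
    by_contra hne
    have hlt : m < f := lt_of_le_of_ne (Nat.le_of_dvd hf hmf) hne
    have h1 := h m
    rw [if_neg (fun h2 => absurd (Nat.le_of_dvd hmpos h2) (by omega))] at h1
    have h2 : {a : α | a ∈ B ∧ σ^[m] a ≠ a} ⊆ Y := by
      rintro c ⟨hc, hc2⟩
      refine ⟨hc, fun h3 => hc2 ?_⟩
      exact Function.iterate_fixed h3 m
    have h3 : {a : α | a ∈ B ∧ σ^[m] a ≠ a} = Y := by
      apply Set.eq_of_subset_of_ncard_le h2 _ (Set.toFinite _)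
      rw [← Nat.card_coe_set_eq, ← Nat.card_coe_set_eq, h1, hYc]
    have h4 : a ∈ {a : α | a ∈ B ∧ σ^[m] a ≠ a} := by rw [h3]; exact ha
    exact h4.2 hma
  let O : Set α := (fun j : ℕ => σ^[j] a) '' (Set.Iio f)
  have hOY : O ⊆ Y := by
    rintro _ ⟨j, _, rfl⟩
    exact hitY j a ha
  have hOc : O.ncard = f := by
    rw [Set.ncard_image_of_injOn]
    · rw [← Finset.coe_Iio, Set.ncard_coe_finset, Nat.card_Iio]
    · have := Function.iterate_injOn_Iio_minimalPeriod (f := σ) (x := a)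
      rw [← hm, hmeq] at this
      exact this
  have hOeq : O = Y := by
    apply Set.eq_of_subset_of_ncard_le hOY _ (Set.toFinite _)
    rw [hOc, ← Nat.card_coe_set_eq, hYc]
  rw [← hOeq] at hb
  obtain ⟨j, _, hj⟩ := hb
  exact ⟨j, hj⟩

variable {G : Type u} [Group G] [Fintype G] {p : ℕ} {M : Ideal AlgInt}
  {P : Subgroup G} [hp : Fact p.Prime]

/-- what is known about the exceptional characters -/
structure Exc (p : ℕ) (P : Subgroup G) (B : Set (IrrCharacter G)) (θ : IrrCharacter (cz P))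
    (k0 : ℕ) (hg : GalD p P k0) (f : ℕ) (Y : Set (IrrCharacter G)) : Prop where
  fmul : (cz P).relIndex (stT P θ) * f = p - 1
  gal : ∀ j : ℕ, (∃ m ∈ stT P θ, ∀ x ∈ P, m * x * m⁻¹ = x ^ (k0 ^ j)) ↔ f ∣ j
  sub : Y ⊆ B
  card : Nat.card Y = f
  fix : ∀ χ ∈ B, χ ∉ Y → galIrr k0 hg.cop χ = χ
  stable : ∀ χ ∈ Y, galIrr k0 hg.cop χ ∈ Y
  trans : ∀ χ ∈ Y, ∀ ψ ∈ Y, ∃ j : ℕ, (galIrr k0 hg.cop)^[j] χ = ψ

theorem Loc.card_stT (θ : IrrCharacter (cz P)) :
    (cz P).relIndex (stT P θ) * Nat.card (cz P) = Nat.card (stT P θ) := by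
  have h1 := Subgroup.relIndex_mul_relIndex (⊥ : Subgroup G) (cz P) (stT P θ) bot_le (cz_le_stT θ)
  rw [Subgroup.relIndex_bot_left, Subgroup.relIndex_bot_left] at h1
  rw [← h1, mul_comm]

/-- Galois conjugates stay in the block -/
theorem gal_mem_block (hM : IsPModular p M) {B : Set (IrrCharacter G)} (hB : IsPBlock M B)
    {k0 : ℕ} (hg : GalD p P k0) {χ : IrrCharacter G} (hχ : χ ∈ B) :
    galIrr k0 hg.cop χ ∈ B := by
  have hpr := hM.2.1.isPrime
  rw [isPBlock_eq_blockOf hB hχ]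
  exact sameBlock_of_reg hM (fun g hg' => by rw [galIrr_apply, hg.reg g hg'])

theorem Loc.exists_exc (h : Loc p P) (hM : IsPModular p M) {B : Set (IrrCharacter G)}
    (hB : IsPBlock M B) (hBD : IsDefectGroup p M B P) {θ : IrrCharacter (cz P)}
    (hθ : θ ∈ Th M P B) :
    ∃ (k0 : ℕ) (hg : GalD p P k0) (f : ℕ) (Y : Set (IrrCharacter G)), Exc p P B θ k0 hg f Y := by
  classical
  have := Fintype.ofFinite (cz P)
  obtain ⟨g0, f, hf, hg0, hgen, hj⟩ := h.cyc_aut (stT_le θ) (cz_le_stT θ)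
  obtain ⟨k0, hg, hk0⟩ := exists_galD h hg0 hgen
  have hk : ∀ (j : ℕ), ∀ x ∈ P, x ^ (k0 ^ j) = x ^ (g0 ^ j) := by
    intro j
    induction j with
    | zero => intro x _; simp
    | succ j ih =>
      intro x hx
      rw [pow_succ, pow_mul, hk0 _ (P.pow_mem hx _), ih x hx, pow_succ, pow_mul]
  have hgal : ∀ j : ℕ, (∃ m ∈ stT P θ, ∀ x ∈ P, m * x * m⁻¹ = x ^ (k0 ^ j)) ↔ f ∣ j := by
    intro j
    rw [← hj j]
    constructor
    · rintro ⟨m, hm, h1⟩
      exact ⟨m, hm, fun x hx => by rw [h1 x hx, hk j x hx]⟩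
    · rintro ⟨m, hm, h1⟩
      exact ⟨m, hm, fun x hx => by rw [h1 x hx, hk j x hx]⟩
  have hp2 := hp.out.two_le
  have hfpos : 0 < f := by
    rcases Nat.eq_zero_or_pos f with h0 | h0
    · rw [h0, mul_zero] at hf; omega
    · exact h0
  have hepos : 0 < (cz P).relIndex (stT P θ) := by
    rcases Nat.eq_zero_or_pos ((cz P).relIndex (stT P θ)) with h0 | h0
    · rw [h0, zero_mul] at hf; omega
    · exact h0
  have hBne : B.Nonempty := by
    have hpr := hM.2.1.isPrime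
    obtain ⟨χ, hχ⟩ := hB
    rw [hχ]
    exact ⟨χ, mem_blockOf_self χ⟩
  have hcnt : ∀ j : ℕ, Nat.card {χ : IrrCharacter G | χ ∈ B ∧ (galIrr k0 hg.cop)^[j] χ ≠ χ} =
      if f ∣ j then 0 else f := by
    intro j
    have hcop : (k0 ^ j).Coprime (Nat.card G) := Nat.Coprime.pow_left j hg.cop
    have h1 := h.fixCount hM hB hBD hθ hcop (fun c hc => hg.reg_iterate j hc)
    have h2 : {χ : IrrCharacter G | χ ∈ B ∧ (galIrr k0 hg.cop)^[j] χ ≠ χ} =
        {χ : IrrCharacter G | χ ∈ B ∧ galIrr (k0 ^ j) hcop χ ≠ χ} := by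
      ext χ
      have h3 : (galIrr k0 hg.cop)^[j] χ = galIrr (k0 ^ j) hcop χ := by
        apply Subtype.ext
        funext g
        rw [hg.iterate_apply, galIrr_apply]
      simp only [Set.mem_setOf_eq, h3]
    rw [h2]
    rw [← Loc.card_stT θ] at h1
    have hC : (Nat.card (cz P) : ℂ) ≠ 0 := Nat.cast_ne_zero.mpr Nat.card_pos.ne'
    have he : (((cz P).relIndex (stT P θ) : ℕ) : ℂ) ≠ 0 := Nat.cast_ne_zero.mpr hepos.ne'
    by_cases hfj : f ∣ j
    · rw [if_pos ((hgal j).mpr hfj)] at h1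
      rw [if_pos hfj]
      push_cast at h1
      rcases mul_eq_zero.mp h1 with h3 | h3
      · exact absurd h3 (mul_ne_zero he hC)
      · exact_mod_cast h3
    · rw [if_neg (fun h4 => hfj ((hgal j).mp h4))] at h1
      rw [if_neg hfj]
      have h5 : ((p : ℂ) - 1) = (((cz P).relIndex (stT P θ) : ℕ) : ℂ) * f := by
        have : ((p - 1 : ℕ) : ℂ) = (((cz P).relIndex (stT P θ) * f : ℕ) : ℂ) := by rw [hf]
        rw [Nat.cast_sub (by omega)] at this
        push_cast at this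
        exact this
      rw [h5] at h1
      push_cast at h1
      have h6 : (((cz P).relIndex (stT P θ) : ℕ) : ℂ) * Nat.card (cz P) *
          (Nat.card {χ : IrrCharacter G | χ ∈ B ∧ galIrr (k0 ^ j) hcop χ ≠ χ} : ℂ) =
          (((cz P).relIndex (stT P θ) : ℕ) : ℂ) * Nat.card (cz P) * (f : ℂ) := by
        rw [h1]; ring
      have h7 := mul_left_cancel₀ (mul_ne_zero he hC) h6
      exact_mod_cast h7
  obtain ⟨Y, hYB, hYc, hYfix, hYs, hYt⟩ := orbit_lemma hBne (galIrr k0 hg.cop)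
    (fun χ hχ => gal_mem_block hM hB hg hχ) f hfpos hcnt
  exact ⟨k0, hg, f, Y, hf, hgal, hYB, hYc, hYfix, hYs, hYt⟩

section
variable (h : Loc p P) (hM : IsPModular p M) {B : Set (IrrCharacter G)} (hB : IsPBlock M B)
  (hBD : IsDefectGroup p M B P)
include h hM hB hBD

theorem Loc.deg_not_dvd {χ : IrrCharacter G} (hχ : χ ∈ B) :
    ¬ p ∣ charDegree (χ : G → ℂ) := by
  have hpr := hM.2.1.isPrime
  intro hd
  have h0 : 1 ≤ (charDegree (χ : G → ℂ)).factorization p :=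
    (hp.out.dvd_iff_one_le_factorization (charDegree_spec χ.2).2).mp hd
  have h1 : (Nat.card G).factorization p ≤ (charDegree (χ : G → ℂ)).factorization p := by
    rw [h.fact_eq]; exact h0
  have h2 := H11.blockOf_eq_singleton hM h1
  rw [← isPBlock_eq_blockOf hB hχ] at h2
  have h3 := card_defect hM hB hBD
  rw [h.card] at h3
  have h4 : blockDefect p B = 0 := by
    unfold blockDefect
    rw [h.fact_eq, h2]
    rw [Set.image_singleton, csInf_singleton]
    omega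
  rw [h4, pow_zero] at h3
  exact hp.out.one_lt.ne' h3

theorem Loc.exists_dd_ne [Fintype (cz P)] {θ : IrrCharacter (cz P)} (hθ : θ ∈ Th M P B)
    {χ : IrrCharacter G} (hχ : χ ∈ B) :
    ∃ x ∈ P, x ≠ 1 ∧ dd M x (χ : G → ℂ) θ ≠ 0 := by
  classical
  have := Fintype.ofFinite (IrrCharacter (cz P))
  by_contra hcon
  push Not at hcon
  have hC : (Nat.card (cz P) : ℂ) / p ≠ 0 :=
    div_ne_zero (Nat.cast_ne_zero.mpr Nat.card_pos.ne') (Nat.cast_ne_zero.mpr hp.out.ne_zero)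
  have h1 : ∀ x ∈ P, x ≠ 1 → ∀ η ∈ Th M P B, dd M x (χ : G → ℂ) η = 0 := by
    intro x hx hx1 η hη
    obtain ⟨n, hn, rfl⟩ := h.Th_trans hM hB hBD hθ hη
    have h2 := h.DD_eq_dd hM hB hχ hx hx1 hη
    have h3 : n * x * n⁻¹ ∈ P := (Subgroup.mem_normalizer_iff.mp hn x).mp hx
    have h4 : n * x * n⁻¹ ≠ 1 := by
      intro h5
      apply hx1
      have : x = n⁻¹ * (n * x * n⁻¹) * n := by group
      rw [this, h5]; group
    rw [← DD_conj hn x (irr_classFun χ.2) θ, h.DD_eq_dd hM hB hχ h3 h4 hθ, hcon _ h3 h4,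
      mul_zero] at h2
    exact (mul_eq_zero.mp h2.symm).resolve_left hC
  have hvan : ∀ g : G, p ∣ orderOf g → (χ : G → ℂ) g = 0 := by
    intro g hg
    rcases h.exists_conj g with h2 | ⟨x, hx, hx1, s, hs, hconj⟩
    · exact absurd hg h2
    · obtain ⟨c, hc⟩ := isConj_iff.mp hconj
      rw [← irr_classFun χ.2 g c, hc, h.translate hM hB hχ hx hx1 hs]
      refine Finset.sum_eq_zero fun η hη => ?_
      rw [h1 x hx hx1 η (Finset.mem_filter.mp hη).2, zero_mul]
  obtain ⟨k, hk⟩ := Cfsg.Agent.H26.isGen_sylow_dvd (p := p) (isGen_of_irr χ.2) hvan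
  apply h.deg_not_dvd hM hB hBD hχ
  rw [h.fact_eq, pow_one, ← charDegree_cast (irr_isChar χ.2)] at hk
  have h3 : (charDegree (χ : G → ℂ) : ℤ) = (p : ℕ) * k := by exact_mod_cast hk
  have : (p : ℤ) ∣ (charDegree (χ : G → ℂ) : ℤ) := ⟨k, h3⟩
  exact_mod_cast this

end

/-- counting conjugates in `P` -/
theorem Loc.card_conj (h : Loc p P) {θ : IrrCharacter (cz P)} {x : G} (hx : x ∈ P) (hx1 : x ≠ 1)
    [DecidablePred fun y : G => (y ∈ P ∧ y ≠ 1) ∧ ∃ n ∈ stT P θ, y = n * x * n⁻¹] :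
    (Finset.univ.filter fun y : G => (y ∈ P ∧ y ≠ 1) ∧ ∃ n ∈ stT P θ, y = n * x * n⁻¹).card =
      (cz P).relIndex (stT P θ) := by
  classical
  have := Fintype.ofFinite (stT P θ)
  set O := Finset.univ.filter fun y : G => (y ∈ P ∧ y ≠ 1) ∧ ∃ n ∈ stT P θ, y = n * x * n⁻¹
  have hmaps : ∀ n : stT P θ, (n : G) * x * (n : G)⁻¹ ∈ O := by
    intro n
    refine Finset.mem_filter.mpr ⟨Finset.mem_univ _, ⟨?_, ?_⟩, n, n.2, rfl⟩
    · exact (Subgroup.mem_normalizer_iff.mp (stT_le θ n.2) x).mp hx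
    · intro h5
      apply hx1
      have : x = (n : G)⁻¹ * ((n : G) * x * (n : G)⁻¹) * n := by group
      rw [this, h5]; group
  have h1 : (Finset.univ : Finset (stT P θ)).card =
      ∑ y ∈ O, (Finset.univ.filter fun n : stT P θ => (n : G) * x * (n : G)⁻¹ = y).card :=
    Finset.card_eq_sum_card_fiberwise fun n _ => hmaps n
  have h2 : ∀ y ∈ O, (Finset.univ.filter fun n : stT P θ => (n : G) * x * (n : G)⁻¹ = y).card =
      Nat.card (cz P) := by
    intro y hy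
    obtain ⟨_, _, n0, hn0, rfl⟩ := Finset.mem_filter.mp hy
    have h3 : ∀ n : G, n * x * n⁻¹ = n0 * x * n0⁻¹ ↔ n0⁻¹ * n ∈ cz P := by
      intro n
      rw [h.cz_eq hx hx1, Subgroup.mem_centralizer_singleton_iff]
      constructor
      · intro h4
        have h5 : n * x = n0 * x * n0⁻¹ * n := by
          rw [← h4]; group
        calc n0⁻¹ * n * x = n0⁻¹ * (n * x) := by group
          _ = n0⁻¹ * (n0 * x * n0⁻¹ * n) := by rw [h5]
          _ = x * (n0⁻¹ * n) := by group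
      · intro h4
        have h5 : n * x = n0 * (n0⁻¹ * n * x) := by group
        rw [h5, h4]; group
    rw [Nat.card_eq_fintype_card, ← Finset.card_univ]
    symm
    refine Finset.card_bij' (fun (c : cz P) _ => (⟨n0 * c, (stT P θ).mul_mem hn0
      (cz_le_stT θ c.2)⟩ : stT P θ))
      (fun n hn => (⟨n0⁻¹ * n, (h3 n).mp (Finset.mem_filter.mp hn).2⟩ : cz P)) ?_ ?_ ?_ ?_
    · intro c _
      refine Finset.mem_filter.mpr ⟨Finset.mem_univ _, ?_⟩
      rw [h3]
      simp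
    · intro n _; exact Finset.mem_univ _
    · intro c _; apply Subtype.ext; simp
    · intro n _; apply Subtype.ext; simp
  rw [Finset.sum_congr rfl h2, Finset.sum_const, smul_eq_mul, Finset.card_univ,
    ← Nat.card_eq_fintype_card, ← Loc.card_stT θ] at h1
  exact (Nat.eq_of_mul_eq_mul_right Nat.card_pos h1).symm

section
variable (h : Loc p P) (hM : IsPModular p M) {B : Set (IrrCharacter G)} (hB : IsPBlock M B)
  (hBD : IsDefectGroup p M B P) [Fintype (cz P)]
include h hM hB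

theorem Loc.dd_galIrr {θ : IrrCharacter (cz P)} (hθ : θ ∈ Th M P B) {k0 : ℕ}
    (hg : GalD p P k0) {χ : IrrCharacter G} (hχ : χ ∈ B) {x : G} (hx : x ∈ P) (hx1 : x ≠ 1) :
    dd M x (galIrr k0 hg.cop χ : G → ℂ) θ = dd M (x ^ k0) (χ : G → ℂ) θ := by
  classical
  have hC : (Nat.card (cz P) : ℂ) / p ≠ 0 :=
    div_ne_zero (Nat.cast_ne_zero.mpr Nat.card_pos.ne') (Nat.cast_ne_zero.mpr hp.out.ne_zero)
  have hx2 : x ^ k0 ∈ P := P.pow_mem hx _
  have hx3 : x ^ k0 ≠ 1 := by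
    intro h1
    apply hx1
    have h2 := orderOf_dvd_of_pow_eq_one h1
    have h3 : (orderOf x).Coprime k0 :=
      (hg.cop.symm).coprime_dvd_left (orderOf_dvd_natCard x)
    have h4 : orderOf x ∣ 1 := by
      rw [← h3.gcd_eq_one]; exact Nat.dvd_gcd dvd_rfl h2
    exact orderOf_eq_one_iff.mp (Nat.dvd_one.mp h4)
  apply mul_left_cancel₀ hC
  rw [← h.DD_eq_dd hM hB (gal_mem_block hM hB hg hχ) hx hx1 hθ, ← h.DD_eq_dd hM hB hχ hx2 hx3 hθ]
  unfold DD
  refine Finset.sum_congr rfl fun s _ => ?_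
  by_cases hs : p ∣ orderOf s
  · rw [if_pos hs, if_pos hs]
  · rw [if_neg hs, if_neg hs]
    have := hg.translate 1 χ hx hs
    rw [Function.iterate_one, pow_one] at this
    rw [this]

end

end Cfsg.Agent.LD
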