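import Mathlib
import Cfsg.Agent.L.Hen11
import Cfsg.Agent.H11.Osima

set_option autoImplicit false

/-!
# The graph argument
-/

namespace Cfsg.Agent.LD

open Cfsg Cfsg.Agent.H11 Cfsg.Agent.H26 Cfsg.Agent.H3 Polynomial
open scoped ComplexConjugate

variable {p : ℕ} {M : Ideal AlgInt} [hM : M.IsPrime]
variable {G : Type*} [Group G] [Fintype G]

theorem idem_induction {o : Subring ℂ} (Q : MonoidAlgebra ℂ G → Prop) (h0 : Q 0)
    (hadd : ∀ x y, Q x → Q y → Q (x + y)) (hP : ∀ e, Prim o e → Q e) :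
    ∀ (n : ℕ) (f : MonoidAlgebra ℂ G), f ∈ OG o G → f * f = f →
      Module.finrank ℂ (LinearMap.range (LinearMap.mulLeft ℂ f)) = n → Q f := by
  intro n
  induction n using Nat.strong_induction_on with
  | _ n ih =>
    intro f hf hff hn
    by_cases hf0 : f = 0
    · rw [hf0]; exact h0
    by_cases hPf : Prim o f
    · exact hP f hPf
    · have h1 : ¬ ∀ f' ∈ OG o G, f' * f' = f' → f * f' = f' → f' * f = f' → f' = 0 ∨ f' = f :=
        fun h2 => hPf ⟨hf, hff, hf0, h2⟩
      push Not at h1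
      obtain ⟨f', hf', hi, hl, hr, h0', hne⟩ := h1
      have h2 : Q f' := ih _ (by rw [← hn]; exact range_lt hi hl hr hne) f' hf' hi rfl
      have hi'' : (f - f') * (f - f') = f - f' := by
        rw [sub_mul, mul_sub, mul_sub, hff, hl, hr, hi]; abel
      have h3 : Q (f - f') := by
        refine ih _ (by
          rw [← hn]
          refine range_lt hi'' ?_ ?_ ?_
          · rw [mul_sub, hff, hl]
          · rw [sub_mul, hff, hr]
          · intro h4
            apply h0'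
            have : f - (f - f') = f' := by abel
            rw [← this, h4, sub_self]) (f - f') ((OG o G).sub_mem hf hf') hi'' rfl
      have h4 : f = f' + (f - f') := by abel
      rw [h4]
      exact hadd _ _ h2 h3

/-- the coefficient at one of a component -/
theorem coeff_one_fIdem_mul' (c : Set (IrrCharacter G)) [Fintype (IrrCharacter G)]
    [DecidablePred (· ∈ c)] (x : MonoidAlgebra ℂ G) :
    (fIdem c * x).coeff 1 = (Nat.card G : ℂ)⁻¹ *
      ∑ χ : IrrCharacter G with χ ∈ c, (χ : G → ℂ) 1 * lin (χ : G → ℂ) x := by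
  have h1 : ∀ χ : IrrCharacter G, (χ : G → ℂ) 1 * lin (χ : G → ℂ) x =
      ∑ g : G, x.coeff g * ((χ : G → ℂ) 1 * (χ : G → ℂ) g) := by
    intro χ
    rw [lin_apply, Finset.mul_sum]
    exact Finset.sum_congr rfl fun g _ => by ring
  rw [coeff_one_mul_comm, coeff_mul_sum', Finset.sum_congr rfl fun χ _ => h1 χ, Finset.sum_comm,
    Finset.mul_sum]
  refine Finset.sum_congr rfl fun g _ => ?_
  rw [mul_one, coeff_fIdem, blockCoeff, finsum_mem_irr, ← Finset.mul_sum]
  have h2 : ∑ χ : IrrCharacter G with χ ∈ c, (χ : G → ℂ) 1 * conj ((χ : G → ℂ) g⁻¹) =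
      ∑ χ : IrrCharacter G with χ ∈ c, (χ : G → ℂ) 1 * (χ : G → ℂ) g := by
    refine Finset.sum_congr rfl fun χ _ => ?_
    rw [← char_inv (irr_isChar χ.2), inv_inv]
  rw [h2]; ring

theorem fIdem_univ : fIdem (Set.univ : Set (IrrCharacter G)) = 1 := by
  classical
  apply isCen_ext (isCen_fIdem _) isCen_one
  intro χ
  rw [omega_fIdem, if_pos (Set.mem_univ _), omega_one χ.2]

/-- an idempotent with vanishing characters vanishes -/
theorem fIdem_mul_eq_zero_of {c : Set (IrrCharacter G)} {e : MonoidAlgebra ℂ G}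
    (he : e * e = e) (h : ∀ χ ∈ c, lin (χ : G → ℂ) e = 0) : fIdem c * e = 0 := by
  classical
  have := Fintype.ofFinite (IrrCharacter G)
  have key : ∀ χ ∈ c, ∀ y, lin (χ : G → ℂ) (e * y) = 0 := by
    intro χ hχ y
    obtain ⟨n, ρ, hρ, hχρ⟩ := χ.2
    have h1 := h χ hχ
    rw [← hχρ, lin_character] at h1 ⊢
    have h2 : IsIdempotentElem (ρ.asAlgebraHom e) := by
      rw [IsIdempotentElem, ← map_mul, he]
    have h3 : ρ.asAlgebraHom e = 0 := by
      apply LinearMap.IsIdempotentElem.eq_zero_of_trace_eq_zero h2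
      exact h1
    rw [map_mul, h3, zero_mul, map_zero]
  ext g
  have h1 : (fIdem c * e).coeff g =
      (fIdem c * (e * MonoidAlgebra.single g⁻¹ 1)).coeff 1 := by
    rw [← mul_assoc, MonoidAlgebra.coeff_mul_single_apply]
    simp
  rw [h1, coeff_one_fIdem_mul', Finset.sum_eq_zero, mul_zero]
  · simp
  · intro χ hχ
    rw [key χ (Finset.mem_filter.mp hχ).2, mul_zero]

theorem fIdem_mul_of_subset {c c' : Set (IrrCharacter G)} (h : c ⊆ c') :
    fIdem c' * fIdem c = fIdem c := by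
  classical
  apply isCen_ext (isCen_mul (isCen_fIdem _) (isCen_fIdem _)) (isCen_fIdem _)
  intro χ
  rw [omega_mul χ.2 (isCen_fIdem _), omega_fIdem, omega_fIdem]
  by_cases h1 : χ ∈ c
  · rw [if_pos h1, if_pos (h h1), mul_one]
  · rw [if_neg h1, mul_zero]

/-- **The graph argument.** -/
theorem graph {o : Subring ℂ} (ho : IsHen p M o) (hp : IsPModular p M)
    {B : Set (IrrCharacter G)} (hB : IsPBlock M B)
    (K : IrrCharacter G → Set (IrrCharacter G)) (hK1 : ∀ χ ∈ B, χ ∈ K χ)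
    (hKB : ∀ χ ∈ B, K χ ⊆ B) (hK2 : ∀ χ ∈ B, ∀ ψ ∈ K χ, K ψ = K χ)
    (hR : ∀ χ ∈ B, RSet p o (K χ))
    (hreg : ∀ χ ∈ B, ∀ ψ ∈ K χ, ∀ g : G, ¬ p ∣ orderOf g → (ψ : G → ℂ) g = (χ : G → ℂ) g)
    (d : IrrCharacter G → ℂ)
    (hd : ∀ g : G, ¬ p ∣ orderOf g → ∑ᶠ χ ∈ B, d χ * (χ : G → ℂ) g = 0)
    (v : IrrCharacter G → ℤ) (hv : ∀ χ ∈ B, ∑ᶠ ψ ∈ K χ, d ψ = v χ) (hv0 : ∀ χ ∈ B, v χ ≠ 0) :
    ∀ χ ∈ B, ∀ ψ ∈ B, |v ψ| = |v χ| := by
  classical
  have := Fintype.ofFinite (IrrCharacter G)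
  intro χ0 hχ0
  let 𝒞 : Set (IrrCharacter G) := {χ | χ ∈ B ∧ |v χ| = |v χ0|}
  have hvK : ∀ χ ∈ B, ∀ ψ ∈ K χ, v ψ = v χ := by
    intro χ hχ ψ hψ
    have h1 := hv χ hχ
    have h2 := hv ψ (hKB χ hχ hψ)
    rw [hK2 χ hχ ψ hψ, h1] at h2
    exact_mod_cast h2.symm
  have hlr : ∀ (χ : IrrCharacter G) (g : G), MemLocalRing M ((χ : G → ℂ) g) := fun χ g =>
    lr_int (char_isIntegral (irr_isChar χ.2) g)
  -- characters of a component agree on idempotents
  have hlin : ∀ e, e ∈ OG o G → e * e = e → ∀ χ ∈ B, ∀ ψ ∈ K χ,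
      lin (ψ : G → ℂ) e = lin (χ : G → ℂ) e := by
    intro e he hee χ hχ ψ hψ
    have h1 := idem_lin_eq_zero hp e hee (mem_OG.mp (ho.OG_le he))
      (fun g => (ψ : G → ℂ) g - (χ : G → ℂ) g) (by
        intro x y
        have e1 : ∀ η : IrrCharacter G, (η : G → ℂ) (x * y) = (η : G → ℂ) (y * x) := by
          intro η
          have := irr_classFun η.2 (x * y) y
          rw [← this]; congr 1; group
        change (ψ : G → ℂ) (x * y) - (χ : G → ℂ) (x * y) = _
        rw [e1 ψ, e1 χ]) (by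
        intro g hg
        rw [hreg χ hχ ψ hψ g hg, sub_self])
    have h2 : lin (fun g => (ψ : G → ℂ) g - (χ : G → ℂ) g) e =
        lin (ψ : G → ℂ) e - lin (χ : G → ℂ) e := by
      simp only [lin_apply, mul_sub, Finset.sum_sub_distrib]
    rw [h2, sub_eq_zero] at h1
    exact h1
  -- orthogonality
  have horth : ∀ e, e ∈ OG o G → e * e = e →
      ∑ χ : IrrCharacter G with χ ∈ B, d χ * lin (χ : G → ℂ) e = 0 := by
    intro e he hee
    have h1 := idem_lin_eq_zero hp e hee (mem_OG.mp (ho.OG_le he))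
      (fun g => ∑ χ : IrrCharacter G with χ ∈ B, d χ * (χ : G → ℂ) g) (by
        intro x y
        refine Finset.sum_congr rfl fun η _ => ?_
        have := irr_classFun η.2 (x * y) y
        rw [← this]; congr 2; group) (by
        intro g hg
        have h2 := hd g hg
        rw [finsum_mem_irr] at h2
        exact h2)
    rw [← h1, lin_apply]
    simp only [Finset.mul_sum]
    rw [Finset.sum_comm]
    refine Finset.sum_congr rfl fun χ _ => ?_
    rw [lin_apply, Finset.mul_sum]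
    exact Finset.sum_congr rfl fun g _ => by ring
  have hne_of : ∀ {c : Set (IrrCharacter G)} {χ : IrrCharacter G} {e : MonoidAlgebra ℂ G},
      χ ∈ c → lin (χ : G → ℂ) e ≠ 0 → fIdem c * e ≠ 0 := by
    intro c χ e hχ h1 h2
    apply h1
    rw [← lin_fIdem_mul_of_mem hχ, h2, map_zero]
  have hdisj : ∀ χ ∈ B, ∀ ψ ∈ B, K χ ≠ K ψ → Disjoint (K χ) (K ψ) := by
    intro χ hχ ψ hψ hne
    rw [Set.disjoint_left]
    intro η h1 h2
    exact hne ((hK2 χ hχ η h1).symm.trans (hK2 ψ hψ η h2))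
  have hprim : ∀ e, Prim o e → fIdem 𝒞 * e ∈ OG o G := by
    intro e he
    by_cases hz : ∀ χ ∈ B, lin (χ : G → ℂ) e = 0
    · rw [fIdem_mul_eq_zero_of he.idem (fun χ hχ => hz χ hχ.1)]
      exact (OG o G).zero_mem
    push Not at hz
    obtain ⟨χ1, hχ1, h1⟩ := hz
    obtain ⟨χ2, hχ2, hK, h2⟩ : ∃ χ2 ∈ B, K χ1 ≠ K χ2 ∧ lin (χ2 : G → ℂ) e ≠ 0 := by
      by_contra hcon
      push Not at hcon
      have h3 := horth e he.mem he.idem
      have h4 : ∑ χ : IrrCharacter G with χ ∈ B, d χ * lin (χ : G → ℂ) e =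
          ∑ χ : IrrCharacter G with χ ∈ K χ1, d χ * lin (χ1 : G → ℂ) e := by
        symm
        apply Finset.sum_subset_zero_on_sdiff
        · intro χ hχ
          exact Finset.mem_filter.mpr ⟨Finset.mem_univ _,
            hKB χ1 hχ1 (Finset.mem_filter.mp hχ).2⟩
        · intro χ hχ
          obtain ⟨h5, h6⟩ := Finset.mem_sdiff.mp hχ
          have h7 := (Finset.mem_filter.mp h5).2
          rw [hcon χ h7 (fun h8 => h6 (Finset.mem_filter.mpr ⟨Finset.mem_univ _, by
            rw [h8]; exact hK1 χ h7⟩)), mul_zero]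
        · intro χ hχ
          rw [hlin e he.mem he.idem χ1 hχ1 χ (Finset.mem_filter.mp hχ).2]
      rw [h4, ← Finset.sum_mul] at h3
      have h5 := hv χ1 hχ1
      rw [finsum_mem_irr] at h5
      rw [h5] at h3
      rcases mul_eq_zero.mp h3 with h6 | h6
      · exact hv0 χ1 hχ1 (by exact_mod_cast h6)
      · exact h1 h6
    have hd12 := hdisj χ1 hχ1 χ2 hχ2 hK
    have he1 := hne_of (hK1 χ1 hχ1) h1
    have he2 := hne_of (hK1 χ2 hχ2) h2
    have hsum := two_components ho hp (hR χ1 hχ1) (hR χ2 hχ2) hd12 he he1 he2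
    have hn1 := not_mem_OG_of hd12 he he1 he2
    have hn2 := not_mem_OG_of hd12.symm he he2 he1
    have hm1 := (mult_le_one ho hp (hR χ1 hχ1) he hn1 (hK1 χ1 hχ1)).resolve_left h1
    have hm2 := (mult_le_one ho hp (hR χ2 hχ2) he hn2 (hK1 χ2 hχ2)).resolve_left h2
    -- the relation
    have hv12 : v χ1 + v χ2 = 0 := by
      have h3 := horth e he.mem he.idem
      have h4 : ∀ χ : IrrCharacter G, lin (χ : G → ℂ) e =
          (if χ ∈ K χ1 then 1 else 0) + (if χ ∈ K χ2 then 1 else 0) := by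
        intro χ
        conv_lhs => rw [← hsum]
        rw [map_add]
        congr 1
        · by_cases h5 : χ ∈ K χ1
          · rw [if_pos h5, lin_fIdem_mul_of_mem h5, hlin e he.mem he.idem χ1 hχ1 χ h5, hm1]
          · rw [if_neg h5, lin_fIdem_mul_of_not_mem h5]
        · by_cases h5 : χ ∈ K χ2
          · rw [if_pos h5, lin_fIdem_mul_of_mem h5, hlin e he.mem he.idem χ2 hχ2 χ h5, hm2]
          · rw [if_neg h5, lin_fIdem_mul_of_not_mem h5]
      have h6 : ∀ χ1 ∈ B, ∑ χ : IrrCharacter G with χ ∈ B, d χ * (if χ ∈ K χ1 then 1 else 0) =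
          v χ1 := by
        intro χ1 hχ1
        have h5 := hv χ1 hχ1
        rw [finsum_mem_irr] at h5
        rw [← h5]
        symm
        apply Finset.sum_subset_zero_on_sdiff
        · intro χ hχ
          exact Finset.mem_filter.mpr ⟨Finset.mem_univ _,
            hKB χ1 hχ1 (Finset.mem_filter.mp hχ).2⟩
        · intro χ hχ
          obtain ⟨h5, h6⟩ := Finset.mem_sdiff.mp hχ
          rw [if_neg (fun h7 => h6 (Finset.mem_filter.mpr ⟨Finset.mem_univ _, h7⟩)), mul_zero]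
        · intro χ hχ
          rw [if_pos (Finset.mem_filter.mp hχ).2, mul_one]
      simp only [h4, mul_add, Finset.sum_add_distrib] at h3
      rw [h6 χ1 hχ1, h6 χ2 hχ2] at h3
      exact_mod_cast h3
    have habs : |v χ2| = |v χ1| := by
      have : v χ2 = - v χ1 := by linarith
      rw [this, abs_neg]
    have hcase : ∀ χ ∈ B, fIdem 𝒞 * (fIdem (K χ) * e) =
        if |v χ| = |v χ0| then fIdem (K χ) * e else 0 := by
      intro χ hχ
      by_cases h3 : |v χ| = |v χ0|
      · rw [if_pos h3, ← mul_assoc, fIdem_mul_of_subset]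
        intro ψ hψ
        exact ⟨hKB χ hχ hψ, by rw [hvK χ hχ ψ hψ]; exact h3⟩
      · rw [if_neg h3, ← mul_assoc, fIdem_mul_of_disjoint, zero_mul]
        rw [Set.disjoint_left]
        rintro ψ ⟨_, h5⟩ h6
        rw [hvK χ hχ ψ h6] at h5
        exact h3 h5
    have h5 : fIdem 𝒞 * e = fIdem 𝒞 * (fIdem (K χ1) * e) + fIdem 𝒞 * (fIdem (K χ2) * e) := by
      rw [← mul_add, hsum]
    rw [h5, hcase χ1 hχ1, hcase χ2 hχ2, habs]
    by_cases h3 : |v χ1| = |v χ0|
    · rw [if_pos h3, if_pos h3, hsum]; exact he.mem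
    · rw [if_neg h3, if_neg h3, add_zero]; exact (OG o G).zero_mem
  -- the idempotent of `𝒞` is integral
  have hC : fIdem 𝒞 ∈ OG o G := by
    have h1 := idem_induction (o := o) (fun x => fIdem 𝒞 * x ∈ OG o G)
      (by simp only [mul_zero]; exact (OG o G).zero_mem)
      (fun x y hx hy => by
        simp only [mul_add]; exact (OG o G).add_mem hx hy) hprim _ 1 (OG o G).one_mem
      (mul_one 1) rfl
    simpa using h1
  have hZ : IsZS M (fIdem 𝒞) := ⟨isCen_fIdem 𝒞, mem_OG.mp (ho.OG_le hC)⟩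
  intro ψ hψ
  have hsame : SameBlock M (χ0 : G → ℂ) (ψ : G → ℂ) := isPBlock_sameBlock hB hχ0 hψ
  have h1 := li_omega_sub hZ (irr_classFun χ0.2) (irr_classFun ψ.2) hsame
  rw [omega_fIdem, omega_fIdem, if_pos (show χ0 ∈ 𝒞 from ⟨hχ0, rfl⟩)] at h1
  by_contra hne
  rw [if_neg (show ψ ∉ 𝒞 from fun h => hne h.2), sub_zero] at h1
  exact not_li_one M h1

end Cfsg.Agent.LD
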