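import Mathlib
import Cfsg.Agent.L.DO7
import Cfsg.Agent.L.Hen12

set_option autoImplicit false

/-!
# The norm identity in a block of defect one
-/

namespace Cfsg.Agent.LD

open Cfsg Cfsg.Agent.H3 Cfsg.Agent.H11 Cfsg.Agent.H26 Cfsg.Agent.H27 Finset
open scoped ComplexConjugate Pointwise

universe u

variable {G : Type u} [Group G] [Fintype G] {p : ℕ} {M : Ideal AlgInt}
  {P : Subgroup G} [hp : Fact p.Prime]

theorem Loc.card_ne (h : Loc p P) [DecidablePred fun x : G => x ∈ P ∧ x ≠ 1] :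
    (Finset.univ.filter fun x : G => x ∈ P ∧ x ≠ 1).card = p - 1 := by
  classical
  have h1 : (Finset.univ.filter fun x : G => x ∈ P ∧ x ≠ 1) =
      (Finset.univ.filter fun x : G => x ∈ P).erase 1 := by
    ext x; simp only [Finset.mem_filter, Finset.mem_univ, true_and, Finset.mem_erase]; tauto
  rw [h1, Finset.card_erase_of_mem (by simp [P.one_mem])]
  congr 1
  rw [← h.card, Nat.card_eq_fintype_card, Fintype.card_subtype]

section
variable (h : Loc p P) (hM : IsPModular p M) {B : Set (IrrCharacter G)} (hB : IsPBlock M B)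
  (hBD : IsDefectGroup p M B P) [Fintype (cz P)]
include h hM hB

/-- the sum of the decomposition numbers over `P` minus one -/
noncomputable def Dsum (M : Ideal AlgInt) (P : Subgroup G) [Fintype (cz P)] (χ : G → ℂ)
    (θ : IrrCharacter (cz P)) : ℂ :=
  ∑ᶠ x ∈ {x : G | x ∈ P ∧ x ≠ 1}, dd M x χ θ

omit h hM hB hp in
theorem Dsum_eq (χ : G → ℂ) (θ : IrrCharacter (cz P)) [DecidablePred fun x : G => x ∈ P ∧ x ≠ 1] :
    Dsum M P χ θ = ∑ x : G with x ∈ P ∧ x ≠ 1, dd M x χ θ := by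
  classical
  unfold Dsum
  rw [finsum_mem_eq_finite_toFinset_sum _ (Set.toFinite _)]
  apply Finset.sum_congr _ fun _ _ => rfl
  ext x; simp

theorem Loc.Dsum_galIrr {θ : IrrCharacter (cz P)} (hθ : θ ∈ Th M P B) {k0 : ℕ}
    (hg : GalD p P k0) {χ : IrrCharacter G} (hχ : χ ∈ B) :
    Dsum M P (galIrr k0 hg.cop χ : G → ℂ) θ = Dsum M P (χ : G → ℂ) θ := by
  classical
  rw [Dsum_eq, Dsum_eq]
  set A := Finset.univ.filter fun x : G => x ∈ P ∧ x ≠ 1 with hA
  have hinj : Function.Injective fun x : G => x ^ k0 := by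
    intro x y hxy
    exact (powCoprime hg.cop.symm).injective hxy
  have himg : A.image (fun x : G => x ^ k0) = A := by
    apply Finset.eq_of_subset_of_card_le
    · intro y hy
      obtain ⟨x, hx, rfl⟩ := Finset.mem_image.mp hy
      obtain ⟨_, hx, hx1⟩ := Finset.mem_filter.mp hx
      refine Finset.mem_filter.mpr ⟨Finset.mem_univ _, P.pow_mem hx _, fun h1 => hx1 ?_⟩
      apply hinj
      simp only [one_pow]; exact h1
    · rw [Finset.card_image_of_injective _ hinj]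
  have h1 : ∑ x ∈ A, dd M x (galIrr k0 hg.cop χ : G → ℂ) θ =
      ∑ x ∈ A, dd M (x ^ k0) (χ : G → ℂ) θ := by
    refine Finset.sum_congr rfl fun x hx => ?_
    obtain ⟨_, hx, hx1⟩ := Finset.mem_filter.mp hx
    exact h.dd_galIrr hM hB hθ hg hχ hx hx1
  rw [h1, ← Finset.sum_image (f := fun y => dd M y (χ : G → ℂ) θ) (fun a _ b _ h => hinj h), himg]

include hBD in
/-- the total norm -/
theorem Loc.total [Fintype (IrrCharacter G)] [DecidablePred (· ∈ B)]
    {θ : IrrCharacter (cz P)} (hθ : θ ∈ Th M P B) :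
    ∑ χ : IrrCharacter G with χ ∈ B, Dsum M P (χ : G → ℂ) θ * conj (Dsum M P (χ : G → ℂ) θ) =
      ((p - 1 : ℕ) : ℂ) * p * ((cz P).relIndex (stT P θ) : ℕ) := by
  classical
  have hC0 : (Nat.card (cz P) : ℂ) ≠ 0 := Nat.cast_ne_zero.mpr Nat.card_pos.ne'
  have hp0 : (p : ℂ) ≠ 0 := Nat.cast_ne_zero.mpr hp.out.ne_zero
  have hC : (Nat.card (cz P) : ℂ) / p ≠ 0 := div_ne_zero hC0 hp0
  set A := Finset.univ.filter fun x : G => x ∈ P ∧ x ≠ 1 with hA
  have h1 : ∀ x ∈ A, ∀ y ∈ A, ∑ χ : IrrCharacter G with χ ∈ B,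
      dd M y (χ : G → ℂ) θ * conj (dd M x (χ : G → ℂ) θ) =
      if ∃ n ∈ stT P θ, y = n * x * n⁻¹ then (p : ℂ) else 0 := by
    intro x hx y hy
    obtain ⟨_, hx, hx1⟩ := Finset.mem_filter.mp hx
    obtain ⟨_, hy, hy1⟩ := Finset.mem_filter.mp hy
    have h2 := h.DD_orth hM hB hx hx1 hy hy1 hθ
    have h3 : ∑ χ : IrrCharacter G with χ ∈ B, DD p y (χ : G → ℂ) (θ : cz P → ℂ) *
        conj (DD p x (χ : G → ℂ) (θ : cz P → ℂ)) =
        ((Nat.card (cz P) : ℂ) / p) ^ 2 * ∑ χ : IrrCharacter G with χ ∈ B,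
          dd M y (χ : G → ℂ) θ * conj (dd M x (χ : G → ℂ) θ) := by
      rw [Finset.mul_sum]
      refine Finset.sum_congr rfl fun χ hχ => ?_
      have hχB := (Finset.mem_filter.mp hχ).2
      rw [h.DD_eq_dd hM hB hχB hy hy1 hθ, h.DD_eq_dd hM hB hχB hx hx1 hθ, map_mul, map_div₀,
        Complex.conj_natCast, Complex.conj_natCast]
      ring
    rw [h3] at h2
    apply mul_left_cancel₀ (pow_ne_zero 2 hC)
    rw [h2]
    split_ifs
    · field_simp
    · rw [mul_zero]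
  have h2 : ∑ χ : IrrCharacter G with χ ∈ B,
      Dsum M P (χ : G → ℂ) θ * conj (Dsum M P (χ : G → ℂ) θ) =
      ∑ x ∈ A, ∑ y ∈ A, ∑ χ : IrrCharacter G with χ ∈ B,
        dd M y (χ : G → ℂ) θ * conj (dd M x (χ : G → ℂ) θ) := by
    have h3 : ∀ χ : IrrCharacter G, Dsum M P (χ : G → ℂ) θ * conj (Dsum M P (χ : G → ℂ) θ) =
        ∑ x ∈ A, ∑ y ∈ A, dd M y (χ : G → ℂ) θ * conj (dd M x (χ : G → ℂ) θ) := by
      intro χ
      rw [Dsum_eq, map_sum, Finset.sum_mul_sum, Finset.sum_comm]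
    rw [Finset.sum_congr rfl fun χ _ => h3 χ, Finset.sum_comm]
    refine Finset.sum_congr rfl fun x _ => ?_
    rw [Finset.sum_comm]
  rw [h2]
  have h3 : ∀ x ∈ A, ∑ y ∈ A, ∑ χ : IrrCharacter G with χ ∈ B,
        dd M y (χ : G → ℂ) θ * conj (dd M x (χ : G → ℂ) θ) =
      (p : ℂ) * ((cz P).relIndex (stT P θ) : ℕ) := by
    intro x hx
    rw [Finset.sum_congr rfl fun y hy => h1 x hx y hy]
    obtain ⟨_, hx, hx1⟩ := Finset.mem_filter.mp hx
    rw [← Finset.sum_filter, Finset.sum_const, nsmul_eq_mul, ← h.card_conj (θ := θ) hx hx1, mul_comm,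
      hA, Finset.filter_filter]
  rw [Finset.sum_congr rfl h3, Finset.sum_const, nsmul_eq_mul, hA, h.card_ne]
  ring

end

end Cfsg.Agent.LD
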