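import Mathlib
import Cfsg.Agent.L.DO8

set_option autoImplicit false

/-!
# Brauer's theorem on blocks of defect one
-/

namespace Cfsg.Agent.LD

open Cfsg Cfsg.Agent.H3 Cfsg.Agent.H11 Cfsg.Agent.H26 Cfsg.Agent.H27 Finset
open scoped ComplexConjugate Pointwise

universe u

variable {G : Type u} [Group G] [Fintype G] {p : ℕ} {M : Ideal AlgInt}
  {P : Subgroup G} [hp : Fact p.Prime]

section
variable (h : Loc p P) (hM : IsPModular p M) {B : Set (IrrCharacter G)} (hB : IsPBlock M B)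
  (hBD : IsDefectGroup p M B P) [Fintype (cz P)]
  {θ : IrrCharacter (cz P)} (hθ : θ ∈ Th M P B) {k0 : ℕ} {hg : GalD p P k0} {f : ℕ}
  {Y : Set (IrrCharacter G)} (E : Exc p P B θ k0 hg f Y)
include h hM hB hθ

theorem Loc.Dsum_iterate (hg : GalD p P k0) {χ : IrrCharacter G} (hχ : χ ∈ B) (j : ℕ) :
    (galIrr k0 hg.cop)^[j] χ ∈ B ∧
    Dsum M P ((galIrr k0 hg.cop)^[j] χ : IrrCharacter G) θ = Dsum M P (χ : G → ℂ) θ := by
  induction j with
  | zero => exact ⟨hχ, rfl⟩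
  | succ j ih =>
    rw [Function.iterate_succ_apply']
    exact ⟨gal_mem_block hM hB hg ih.1, by rw [h.Dsum_galIrr hM hB hθ hg ih.1, ih.2]⟩

include E in
theorem Loc.fpos : 0 < f ∧ 0 < (cz P).relIndex (stT P θ) := by
  have hf := E.fmul
  have hp2 := hp.out.two_le
  constructor
  · rcases Nat.eq_zero_or_pos f with h0 | h0
    · rw [h0, mul_zero] at hf; omega
    · exact h0
  · rcases Nat.eq_zero_or_pos ((cz P).relIndex (stT P θ)) with h0 | h0
    · rw [h0, zero_mul] at hf; omega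
    · exact h0

include hBD E in
open Classical in
theorem Loc.ident [Fintype (IrrCharacter G)] (c : IrrCharacter G → ℤ)
    (hc : ∀ χ ∈ B, χ ∉ Y → ∀ x ∈ P, x ≠ 1 → dd M x (χ : G → ℂ) θ = c χ) (s : ℤ)
    (hs : ∀ x ∈ P, x ≠ 1 → ∑ᶠ χ ∈ Y, dd M x (χ : G → ℂ) θ = s) :
    (f : ℤ) * ∑ χ : IrrCharacter G with χ ∈ B ∧ χ ∉ Y, c χ ^ 2 + s ^ 2 = p := by
  obtain ⟨hfpos, hepos⟩ := h.fpos hM hB hθ E
  set e := (cz P).relIndex (stT P θ) with he
  set A := Finset.univ.filter fun x : G => x ∈ P ∧ x ≠ 1 with hA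
  have hAc : A.card = e * f := by rw [hA, h.card_ne, E.fmul]
  have hX : ∀ χ : IrrCharacter G, χ ∈ B → χ ∉ Y →
      Dsum M P (χ : G → ℂ) θ = (e * f : ℕ) * (c χ : ℂ) := by
    intro χ hχ hY
    rw [Dsum_eq, Finset.sum_congr rfl (fun x hx => hc χ hχ hY x (Finset.mem_filter.mp hx).2.1
      (Finset.mem_filter.mp hx).2.2), Finset.sum_const, nsmul_eq_mul, ← hA, hAc]
  have hYne : Y.Nonempty := by
    rw [Set.nonempty_iff_ne_empty]
    intro h0
    have := E.card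
    rw [h0] at this
    simp at this
    omega
  obtain ⟨ψ0, hψ0⟩ := hYne
  have hYD : ∀ ψ ∈ Y, Dsum M P (ψ : G → ℂ) θ = Dsum M P (ψ0 : G → ℂ) θ := by
    intro ψ hψ
    obtain ⟨j, hj⟩ := E.trans ψ0 hψ0 ψ hψ
    rw [← hj]
    exact (h.Dsum_iterate hM hB hθ hg (E.sub hψ0) j).2
  have hYcard : (Finset.univ.filter fun χ : IrrCharacter G => χ ∈ Y).card = f := by
    rw [← E.card, Nat.card_eq_fintype_card, Fintype.card_subtype]
  have hsum : (f : ℂ) * Dsum M P (ψ0 : G → ℂ) θ = ((e * f : ℕ) : ℂ) * s := by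
    have h1 : ∑ ψ : IrrCharacter G with ψ ∈ Y, Dsum M P (ψ : G → ℂ) θ =
        (f : ℂ) * Dsum M P (ψ0 : G → ℂ) θ := by
      rw [Finset.sum_congr rfl fun ψ hψ => hYD ψ (Finset.mem_filter.mp hψ).2, Finset.sum_const,
        nsmul_eq_mul, hYcard]
    rw [← h1]
    simp only [Dsum_eq]
    rw [Finset.sum_comm, ← hAc, ← nsmul_eq_mul, ← Finset.sum_const]
    refine Finset.sum_congr rfl fun x hx => ?_
    rw [← hs x (Finset.mem_filter.mp hx).2.1 (Finset.mem_filter.mp hx).2.2, finsum_mem_irr]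
  have hf0 : (f : ℂ) ≠ 0 := Nat.cast_ne_zero.mpr hfpos.ne'
  have he0 : (e : ℂ) ≠ 0 := Nat.cast_ne_zero.mpr hepos.ne'
  have hD0 : Dsum M P (ψ0 : G → ℂ) θ = (e : ℂ) * s := by
    apply mul_left_cancel₀ hf0
    rw [hsum]; push_cast; ring
  have htot := h.total hM hB hBD hθ
  rw [← Finset.sum_filter_add_sum_filter_not _ (fun χ : IrrCharacter G => χ ∉ Y),
    Finset.filter_filter, Finset.filter_filter] at htot
  have h1 : ∑ χ : IrrCharacter G with χ ∈ B ∧ χ ∉ Y,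
      Dsum M P (χ : G → ℂ) θ * conj (Dsum M P (χ : G → ℂ) θ) =
      (e * f : ℂ) ^ 2 * ∑ χ : IrrCharacter G with χ ∈ B ∧ χ ∉ Y, (c χ : ℂ) ^ 2 := by
    rw [Finset.mul_sum]
    refine Finset.sum_congr rfl fun χ hχ => ?_
    obtain ⟨_, h2, h3⟩ := Finset.mem_filter.mp hχ
    rw [hX χ h2 h3, map_mul, Complex.conj_natCast, map_intCast]
    push_cast; ring
  have h2 : ∑ χ : IrrCharacter G with χ ∈ B ∧ ¬ χ ∉ Y,
      Dsum M P (χ : G → ℂ) θ * conj (Dsum M P (χ : G → ℂ) θ) = f * (e * s : ℂ) ^ 2 := by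
    have h3 : (Finset.univ.filter fun χ : IrrCharacter G => χ ∈ B ∧ ¬ χ ∉ Y) =
        Finset.univ.filter fun χ : IrrCharacter G => χ ∈ Y := by
      ext χ
      simp only [Finset.mem_filter, Finset.mem_univ, true_and, not_not]
      exact ⟨fun h => h.2, fun h => ⟨E.sub h, h⟩⟩
    rw [h3, Finset.sum_congr rfl fun ψ hψ => by rw [hYD ψ (Finset.mem_filter.mp hψ).2, hD0],
      Finset.sum_const, nsmul_eq_mul, hYcard, map_mul, Complex.conj_natCast, map_intCast]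
    ring
  rw [h1, h2, ← E.fmul, ← he] at htot
  have h3 : ((e : ℂ) ^ 2 * f) * ((f : ℂ) * ∑ χ : IrrCharacter G with χ ∈ B ∧ χ ∉ Y,
      (c χ : ℂ) ^ 2 + (s : ℂ) ^ 2) = ((e : ℂ) ^ 2 * f) * p := by
    push_cast at htot
    linear_combination htot
  have h4 := mul_left_cancel₀ (mul_ne_zero (pow_ne_zero 2 he0) hf0) h3
  exact_mod_cast h4

/-- the numbers on the non-exceptional characters do not vanish -/
theorem Loc.c_ne (hBD : IsDefectGroup p M B P) (c : IrrCharacter G → ℤ)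
    (hc : ∀ χ ∈ B, χ ∉ Y → ∀ x ∈ P, x ≠ 1 → dd M x (χ : G → ℂ) θ = c χ)
    {χ : IrrCharacter G} (hχ : χ ∈ B) (hY : χ ∉ Y) : c χ ≠ 0 := by
  intro h0
  obtain ⟨x, hx, hx1, hne⟩ := h.exists_dd_ne hM hB hBD hθ hχ
  rw [hc χ hχ hY x hx hx1, h0] at hne
  exact hne (by simp)

include hBD E in
open Classical in
theorem Loc.s_ne [Fintype (IrrCharacter G)] (c : IrrCharacter G → ℤ)
    (hc : ∀ χ ∈ B, χ ∉ Y → ∀ x ∈ P, x ≠ 1 → dd M x (χ : G → ℂ) θ = c χ) (s : ℤ)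
    (hs : ∀ x ∈ P, x ≠ 1 → ∑ᶠ χ ∈ Y, dd M x (χ : G → ℂ) θ = s) : s ≠ 0 := by
  intro h0
  have hid := h.ident hM hB hBD hθ E c hc s hs
  rw [h0, zero_pow two_ne_zero, add_zero] at hid
  have hfd : f ∣ p := by
    have : (f : ℤ) ∣ (p : ℤ) := ⟨_, hid.symm⟩
    exact_mod_cast this
  obtain ⟨hfpos, hepos⟩ := h.fpos hM hB hθ E
  have hf1 : f = 1 := by
    rcases (Nat.dvd_prime hp.out).mp hfd with h1 | h1
    · exact h1
    · exfalso
      have := E.fmul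
      rw [h1] at this
      have h2 : p ≤ (cz P).relIndex (stT P θ) * p := Nat.le_mul_of_pos_left p hepos
      have := hp.out.two_le
      omega
  have hcard := E.card
  rw [hf1, Nat.card_coe_set_eq, Set.ncard_eq_one] at hcard
  obtain ⟨ψ, hψ⟩ := hcard
  have hψY : ψ ∈ Y := by rw [hψ]; rfl
  obtain ⟨x, hx, hx1, hne⟩ := h.exists_dd_ne hM hB hBD hθ (E.sub hψY)
  have h1 := hs x hx hx1
  rw [hψ, finsum_mem_singleton, h0] at h1
  exact hne (by rw [h1]; simp)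

end

end Cfsg.Agent.LD
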