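import Mathlib
import Cfsg.Agent.L.DO9

set_option autoImplicit false

/-!
# Brauer's theorem on blocks of defect one, the signs
-/

namespace Cfsg.Agent.LD

open Cfsg Cfsg.Agent.H3 Cfsg.Agent.H11 Cfsg.Agent.H26 Cfsg.Agent.H27 Finset
open scoped ComplexConjugate Pointwise

universe u

variable {G : Type u} [Group G] [Fintype G] {p : ℕ} {M : Ideal AlgInt}
  {P : Subgroup G} [hp : Fact p.Prime]

theorem int_sq_eq_one {a : ℤ} (h : a ^ 2 = 1) : a = 1 ∨ a = -1 := by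
  have h1 : (a - 1) * (a + 1) = 0 := by linear_combination h
  rcases mul_eq_zero.mp h1 with h2 | h2
  · left; omega
  · right; omega

/-- Brauer's theorem on a block of defect one -/
structure Dat (p : ℕ) (M : Ideal AlgInt) (P : Subgroup G) (B : Set (IrrCharacter G))
    (θ : IrrCharacter (cz P)) [Fintype (cz P)]
    (k0 : ℕ) (hg : GalD p P k0) (f : ℕ) (Y : Set (IrrCharacter G)) (c : IrrCharacter G → ℤ)
    (s : ℤ) : Prop where
  exc : Exc p P B θ k0 hg f Y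
  hc : ∀ χ ∈ B, χ ∉ Y → ∀ x ∈ P, x ≠ 1 → dd M x (χ : G → ℂ) θ = c χ
  hs : ∀ x ∈ P, x ≠ 1 → ∑ᶠ χ ∈ Y, dd M x (χ : G → ℂ) θ = s
  c1 : ∀ χ ∈ B, χ ∉ Y → c χ = 1 ∨ c χ = -1
  s1 : s = 1 ∨ s = -1
  cardX : Nat.card (B \ Y : Set (IrrCharacter G)) = (cz P).relIndex (stT P θ)
  yreg : ∀ χ ∈ Y, ∀ ψ ∈ Y, ∀ g : G, ¬ p ∣ orderOf g → (χ : G → ℂ) g = (ψ : G → ℂ) g
  rel : ∀ g : G, ¬ p ∣ orderOf g → ∀ ψ ∈ Y,
    ∑ᶠ χ ∈ B \ Y, (c χ : ℂ) * (χ : G → ℂ) g + s * (ψ : G → ℂ) g = 0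

section
variable (h : Loc p P) (hM : IsPModular p M) {B : Set (IrrCharacter G)} (hB : IsPBlock M B)
  (hBD : IsDefectGroup p M B P) [Fintype (cz P)]
  {θ : IrrCharacter (cz P)} (hθ : θ ∈ Th M P B) {k0 : ℕ} {hg : GalD p P k0} {f : ℕ}
  {Y : Set (IrrCharacter G)} (E : Exc p P B θ k0 hg f Y)

include h in
theorem Loc.exists_ne : ∃ x ∈ P, x ≠ 1 := by
  classical
  by_contra hcon
  push Not at hcon
  have : P = ⊥ := by
    rw [eq_bot_iff]; intro x hx; exact hcon x hx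
  have h1 := h.card
  rw [this, Subgroup.card_bot] at h1
  exact hp.out.one_lt.ne h1

omit hp [Fintype (cz P)] in
include E in
theorem Exc.yreg {χ ψ : IrrCharacter G} (hχ : χ ∈ Y) (hψ : ψ ∈ Y) {g : G}
    (hg' : ¬ p ∣ orderOf g) : (χ : G → ℂ) g = (ψ : G → ℂ) g := by
  obtain ⟨j, hj⟩ := E.trans χ hχ ψ hψ
  rw [← hj, hg.iterate_apply, hg.reg_iterate j hg']

include h hM hB hBD in
theorem Loc.rset (o : Subring ℂ) [M.IsPrime] (ho : IsHen p M o) (hg : GalD p P k0)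
    {K : Set (IrrCharacter G)} (hKB : K ⊆ B) (hK : ∀ χ ∈ K, galIrr k0 hg.cop χ ∈ K)
    (hreg : ∀ χ ∈ K, ∀ ψ ∈ K, (χ : G → ℂ) 1 = (ψ : G → ℂ) 1) (hne : K.Nonempty) :
    RSet p o K := by
  obtain ⟨χ, hχ⟩ := hne
  refine ⟨?_, fun g => h.stable_mem ho hM hg hK g⟩
  have hnd := h.deg_not_dvd hM hB hBD (hKB hχ)
  have hd : charDegree (χ : G → ℂ) ∣ Nat.card G := (charDegree_dvd_card χ.2)
  obtain ⟨t, ht⟩ := hd
  have hpd : p ∣ Nat.card G := by
    rw [← h.card]; exact Subgroup.card_subgroup_dvd_card P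
  have hpt : p ∣ t := by
    rw [ht] at hpd
    exact (hp.out.dvd_mul.mp hpd).resolve_left hnd
  obtain ⟨m, rfl⟩ := hpt
  refine ⟨charDegree (χ : G → ℂ), m, ht, ?_, ?_⟩
  · rintro ⟨r, rfl⟩
    apply h.sq
    rw [ht]
    exact ⟨charDegree (χ : G → ℂ) * r, by ring⟩
  · intro ψ hψ
    rw [hreg ψ hψ χ hχ, charDegree_cast (irr_isChar χ.2)]

include h hM hB hBD hθ E in
theorem Loc.hd {g : G} (hg' : ¬ p ∣ orderOf g) {x : G} (hx : x ∈ P) (hx1 : x ≠ 1) :
    ∑ᶠ χ ∈ B, conj (dd M x (χ : G → ℂ) θ) * (χ : G → ℂ) g = 0 := by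
  classical
  have := Fintype.ofFinite (IrrCharacter G)
  have hC : (Nat.card (cz P) : ℂ) / p ≠ 0 :=
    div_ne_zero (Nat.cast_ne_zero.mpr Nat.card_pos.ne') (Nat.cast_ne_zero.mpr hp.out.ne_zero)
  have h1 := h.DD_reg hM hB hx hx1 (θ : cz P → ℂ) hg'
  rw [finsum_mem_irr]
  apply mul_left_cancel₀ hC
  rw [mul_zero, ← h1, Finset.mul_sum]
  refine Finset.sum_congr rfl fun χ hχ => ?_
  rw [h.DD_eq_dd hM hB (Finset.mem_filter.mp hχ).2 hx hx1 hθ, map_mul, map_div₀,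
    Complex.conj_natCast, Complex.conj_natCast]
  ring

include h hM hB hBD hθ E in
open Classical in
theorem Loc.signs (c : IrrCharacter G → ℤ)
    (hc : ∀ χ ∈ B, χ ∉ Y → ∀ x ∈ P, x ≠ 1 → dd M x (χ : G → ℂ) θ = c χ) (s : ℤ)
    (hs : ∀ x ∈ P, x ≠ 1 → ∑ᶠ χ ∈ Y, dd M x (χ : G → ℂ) θ = s) :
    ∀ χ ∈ B, χ ∉ Y → |c χ| = |s| := by
  have hpr := hM.2.1.isPrime
  have := Fintype.ofFinite (IrrCharacter G)
  obtain ⟨o, ho⟩ := exists_isHen hM
  obtain ⟨x, hx, hx1⟩ := h.exists_ne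
  have hs0 := h.s_ne hM hB hBD hθ E c hc s hs
  obtain ⟨hfpos, hepos⟩ := h.fpos hM hB hθ E
  have hYne : Y.Nonempty := by
    rw [Set.nonempty_iff_ne_empty]
    intro h0
    have := E.card
    rw [h0] at this
    simp at this
    omega
  obtain ⟨ψ0, hψ0⟩ := hYne
  let K : IrrCharacter G → Set (IrrCharacter G) := fun χ => if χ ∈ Y then Y else {χ}
  have hK_Y : ∀ χ, χ ∈ Y → K χ = Y := fun χ hχ => if_pos hχ
  have hK_X : ∀ χ, χ ∉ Y → K χ = {χ} := fun χ hχ => if_neg hχ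
  let v : IrrCharacter G → ℤ := fun χ => if χ ∈ Y then s else c χ
  have key := graph (o := o) ho hM hB K ?_ ?_ ?_ ?_ ?_ (fun χ => conj (dd M x (χ : G → ℂ) θ))
    (fun g hg' => h.hd hM hB hBD hθ E hg' hx hx1) v ?_ ?_
  · intro χ hχ hY
    have h1 := key ψ0 (E.sub hψ0) χ hχ
    simp only [v] at h1
    rw [if_neg hY, if_pos hψ0] at h1
    exact h1
  · intro χ _
    by_cases hY : χ ∈ Y
    · rw [hK_Y χ hY]; exact hY
    · rw [hK_X χ hY]; rfl
  · intro χ hχ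
    by_cases hY : χ ∈ Y
    · rw [hK_Y χ hY]; exact E.sub
    · rw [hK_X χ hY]; simpa using hχ
  · intro χ _ ψ hψ
    by_cases hY : χ ∈ Y
    · rw [hK_Y χ hY] at hψ ⊢
      rw [hK_Y ψ hψ]
    · rw [hK_X χ hY, Set.mem_singleton_iff] at hψ
      rw [hψ]
  · intro χ hχ
    by_cases hY : χ ∈ Y
    · rw [hK_Y χ hY]
      refine h.rset hM hB hBD o ho hg E.sub E.stable ?_ ⟨χ, hY⟩
      intro a ha b hb
      exact E.yreg ha hb (by rw [orderOf_one]; exact hp.out.one_lt.ne' ∘ Nat.dvd_one.mp)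
    · rw [hK_X χ hY]
      refine h.rset hM hB hBD o ho hg (by simpa using hχ) ?_ ?_ ⟨χ, rfl⟩
      · intro ψ hψ
        rw [Set.mem_singleton_iff] at hψ ⊢
        rw [hψ]; exact E.fix χ hχ hY
      · intro a ha b hb
        rw [Set.mem_singleton_iff] at ha hb
        rw [ha, hb]
  · intro χ _ ψ hψ g hg'
    by_cases hY : χ ∈ Y
    · rw [hK_Y χ hY] at hψ
      exact E.yreg hψ hY hg'
    · rw [hK_X χ hY, Set.mem_singleton_iff] at hψ
      rw [hψ]
  · intro χ hχ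
    by_cases hY : χ ∈ Y
    · rw [hK_Y χ hY]
      have h1 := hs x hx hx1
      rw [finsum_mem_irr] at h1 ⊢
      rw [← map_sum, h1, map_intCast]
      simp only [v]
      rw [if_pos hY]
    · rw [hK_X χ hY, finsum_mem_singleton, hc χ hχ hY x hx hx1, map_intCast]
      simp only [v]
      rw [if_neg hY]
  · intro χ hχ
    simp only [v]
    by_cases hY : χ ∈ Y
    · rw [if_pos hY]; exact hs0
    · rw [if_neg hY]; exact h.c_ne hM hB hθ hBD c hc hχ hY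

include h hM hB hBD hθ in
/-- **Brauer's theorem** -/
theorem Loc.exists_dat :
    ∃ (k0 : ℕ) (hg : GalD p P k0) (f : ℕ) (Y : Set (IrrCharacter G)) (c : IrrCharacter G → ℤ)
      (s : ℤ), Dat p M P B θ k0 hg f Y c s := by
  classical
  have := Fintype.ofFinite (IrrCharacter G)
  obtain ⟨k0, hg, f, Y, E⟩ := h.exists_exc hM hB hBD hθ
  have h1 : ∀ χ : IrrCharacter G, ∃ c : ℤ, χ ∈ B → χ ∉ Y → ∀ x ∈ P, x ≠ 1 →
      dd M x (χ : G → ℂ) θ = c := by
    intro χ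
    by_cases h2 : χ ∈ B ∧ χ ∉ Y
    · obtain ⟨c, hc⟩ := h.stable_int hM hB hg (S := {χ}) (by simpa using h2.1) (by
        intro ψ hψ
        rw [Set.mem_singleton_iff] at hψ ⊢
        rw [hψ]; exact E.fix χ h2.1 h2.2) hθ
      refine ⟨c, fun _ _ x hx hx1 => ?_⟩
      have := hc x hx hx1
      rwa [finsum_mem_singleton] at this
    · exact ⟨0, fun h3 h4 => absurd ⟨h3, h4⟩ h2⟩
  choose c hc using h1
  obtain ⟨s, hs⟩ := h.stable_int hM hB hg (S := Y) E.sub E.stable hθ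
  have hsig := h.signs hM hB hBD hθ E c hc s hs
  have hid := h.ident hM hB hBD hθ E c hc s hs
  have hcs : ∀ χ ∈ B, χ ∉ Y → c χ ^ 2 = s ^ 2 := fun χ hχ hY => by
    rw [← sq_abs, hsig χ hχ hY, sq_abs]
  have hXc : (Finset.univ.filter fun χ : IrrCharacter G => χ ∈ B ∧ χ ∉ Y).card =
      Nat.card (B \ Y : Set (IrrCharacter G)) := by
    rw [Nat.card_eq_fintype_card, Fintype.card_subtype]
    rfl
  rw [Finset.sum_congr rfl fun χ hχ => hcs χ (Finset.mem_filter.mp hχ).2.1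
    (Finset.mem_filter.mp hχ).2.2, Finset.sum_const, hXc, nsmul_eq_mul] at hid
  have hid2 : s ^ 2 * ((f : ℤ) * (Nat.card (B \ Y : Set (IrrCharacter G)) : ℤ) + 1) = p := by
    rw [← hid]; ring
  have hs1 : s.natAbs = 1 := by
    have h2 : s.natAbs ^ 2 ∣ p := by
      have : (s ^ 2 : ℤ) ∣ (p : ℤ) := ⟨_, hid2.symm⟩
      rw [← Int.natAbs_dvd_natAbs, Int.natAbs_pow] at this
      simpa using this
    have h3 : s.natAbs ∣ p := dvd_trans (dvd_pow_self _ two_ne_zero) h2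
    rcases (Nat.dvd_prime hp.out).mp h3 with h4 | h4
    · exact h4
    · exfalso
      rw [h4] at h2
      have h5 := Nat.le_of_dvd hp.out.pos h2
      have h6 := hp.out.two_le
      nlinarith
  have hs2 : s ^ 2 = 1 := by
    have : s ^ 2 = ((s.natAbs ^ 2 : ℕ) : ℤ) := by
      rw [Nat.cast_pow, Int.natCast_natAbs, sq_abs]
    rw [this, hs1]; rfl
  obtain ⟨hfpos, hepos⟩ := h.fpos hM hB hθ E
  refine ⟨k0, hg, f, Y, c, s, E, hc, hs, ?_, ?_, ?_, ?_, ?_⟩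
  · intro χ hχ hY
    have h2 := hcs χ hχ hY
    rw [hs2] at h2
    exact int_sq_eq_one h2
  · exact int_sq_eq_one hs2
  · rw [hs2, one_mul] at hid2
    have h2 : f * Nat.card (B \ Y : Set (IrrCharacter G)) + 1 = p := by exact_mod_cast hid2
    have h3 := E.fmul
    apply Nat.eq_of_mul_eq_mul_left hfpos
    rw [mul_comm f ((cz P).relIndex (stT P θ)), h3]
    omega
  · intro χ hχ ψ hψ g hg'
    exact E.yreg hχ hψ hg'
  · intro g hg' ψ hψ
    obtain ⟨x, hx, hx1⟩ := h.exists_ne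
    have h2 := h.hd hM hB hBD hθ E hg' hx hx1
    rw [finsum_mem_irr, ← Finset.sum_filter_add_sum_filter_not _ (fun χ : IrrCharacter G => χ ∉ Y),
      Finset.filter_filter, Finset.filter_filter] at h2
    rw [← h2]
    congr 1
    · rw [finsum_mem_irr]
      refine Finset.sum_congr rfl fun χ hχ => ?_
      obtain ⟨_, h3, h4⟩ := Finset.mem_filter.mp hχ
      rw [hc χ h3 h4 x hx hx1, map_intCast]
    · have h3 := hs x hx hx1
      rw [finsum_mem_irr] at h3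
      have h4 : (Finset.univ.filter fun χ : IrrCharacter G => χ ∈ B ∧ ¬ χ ∉ Y) =
          Finset.univ.filter fun χ : IrrCharacter G => χ ∈ Y := by
        ext χ
        simp only [Finset.mem_filter, Finset.mem_univ, true_and, not_not]
        exact ⟨fun h => h.2, fun h => ⟨E.sub h, h⟩⟩
      have h5 : (s : ℂ) = ∑ χ : IrrCharacter G with χ ∈ Y, conj (dd M x (χ : G → ℂ) θ) := by
        rw [← map_sum, h3, map_intCast]
      rw [h4, h5, Finset.sum_mul]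
      refine Finset.sum_congr rfl fun χ hχ => ?_
      rw [E.yreg (Finset.mem_filter.mp hχ).2 hψ hg']

end

end Cfsg.Agent.LD
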