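import Mathlib
import Cfsg.Agent.L.DO10
import Cfsg.Agent.H11.Third
import Cfsg.Agent.H26.Princ

set_option autoImplicit false

/-!
# Degrees in blocks of defect one
-/

namespace Cfsg.Agent.LD

open Cfsg Cfsg.Agent.H3 Cfsg.Agent.H11 Cfsg.Agent.H26 Cfsg.Agent.H27 Finset
open scoped ComplexConjugate Pointwise

universe u

variable {G : Type u} [Group G] [Fintype G] {p : ℕ} {M : Ideal AlgInt}
  {P : Subgroup G} [hp : Fact p.Prime]

omit [Fintype G] in
theorem Loc.of_sylow [Finite G] (S : Sylow p G) (hS : Nat.card S = p) :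
    Loc p (S : Subgroup G) := by
  refine ⟨hS, fun hd => ?_⟩
  have h1 : Nat.card (S : Subgroup G) = p ^ (Nat.card G).factorization p :=
    S.card_eq_multiplicity
  have h2 : 2 ≤ (Nat.card G).factorization p :=
    (hp.out.pow_dvd_iff_le_factorization Nat.card_pos.ne').mp hd
  have h3 : p ^ 2 ≤ p ^ (Nat.card G).factorization p := Nat.pow_le_pow_right hp.out.pos h2
  have h4 : Nat.card (S : Subgroup G) = p := hS
  rw [← h1, h4] at h3
  have := hp.out.two_le
  nlinarith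

/-- the sum of a character over a subgroup -/
theorem sum_subgroup_int {χ : G → ℂ} (hχ : IsCharacter G χ) (P : Subgroup G)
    [DecidablePred (· ∈ P)] :
    ∃ k : ℤ, ∑ x : G with x ∈ P, χ x = (Nat.card P : ℂ) * k := by
  classical
  let _ : Fintype P := Fintype.ofFinite _
  have h1 : IsGeneralizedCharacter P (fun x : P => χ x) :=
    isGen_comp (isGen_of_char hχ) P.subtype
  obtain ⟨k, hk⟩ := classInner_gen_int h1 isGen_one
  refine ⟨k, ?_⟩
  rw [← hk, classInner, ← mul_assoc, mul_inv_cancel₀ (Nat.cast_ne_zero.mpr Nat.card_pos.ne'),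
    one_mul]
  rw [Finset.sum_subtype (Finset.univ.filter fun x : G => x ∈ P) (p := fun x => x ∈ P)
    (fun x => by simp)]
  refine Finset.sum_congr rfl fun x _ => ?_
  simp

section
variable (h : Loc p P) (hM : IsPModular p M) {B : Set (IrrCharacter G)} (hB : IsPBlock M B)
  (hBD : IsDefectGroup p M B P)
  {θ : IrrCharacter (cz P)} (hθ : θ ∈ Th M P B)
include h hM hB hθ

include hBD in
theorem Loc.card_Th : Nat.card (Th M P B) * (cz P).relIndex (stT P θ) = (cz P).relIndex (nz P) := by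
  classical
  have := Fintype.ofFinite (IrrCharacter (cz P))
  have := Fintype.ofFinite (cz P)
  have := Fintype.ofFinite (nz P)
  have h1 := h.sum_Th hM hB hBD hθ (fun _ => 1)
  rw [Finset.sum_const, Finset.sum_const, nsmul_eq_mul, nsmul_eq_mul, mul_one, mul_one,
    Finset.card_univ, ← Nat.card_eq_fintype_card] at h1
  have h2 : (Finset.univ.filter fun η : IrrCharacter (cz P) => η ∈ Th M P B).card =
      Nat.card (Th M P B) := by
    rw [Nat.card_eq_fintype_card, Fintype.card_subtype]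
  rw [h2] at h1
  have h3 : Nat.card (stT P θ) * Nat.card (Th M P B) = Nat.card (nz P) := by exact_mod_cast h1
  have h4 : (cz P).relIndex (nz P) * Nat.card (cz P) = Nat.card (nz P) := by
    have h1 := Subgroup.relIndex_mul_relIndex (⊥ : Subgroup G) (cz P) (nz P) bot_le Loc.cz_le_nz
    rw [Subgroup.relIndex_bot_left, Subgroup.relIndex_bot_left] at h1
    rw [← h1, mul_comm]
  rw [← Loc.card_stT θ, ← h4] at h3
  apply Nat.eq_of_mul_eq_mul_right (Nat.card_pos (α := cz P))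
  rw [← h3]; ring

variable [Fintype (cz P)]

theorem Loc.dd_conj {n : G} (hn : n ∈ nz P) {χ : IrrCharacter G} (hχ : χ ∈ B) {x : G}
    (hx : x ∈ P) (hx1 : x ≠ 1) :
    n * x * n⁻¹ ∈ P ∧ n * x * n⁻¹ ≠ 1 ∧
    dd M x (χ : G → ℂ) (cjI hn θ) = dd M (n * x * n⁻¹) (χ : G → ℂ) θ := by
  have hC : (Nat.card (cz P) : ℂ) / p ≠ 0 :=
    div_ne_zero (Nat.cast_ne_zero.mpr Nat.card_pos.ne') (Nat.cast_ne_zero.mpr hp.out.ne_zero)
  have h3 : n * x * n⁻¹ ∈ P := (Subgroup.mem_normalizer_iff.mp hn x).mp hx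
  have h4 : n * x * n⁻¹ ≠ 1 := by
    intro h5
    apply hx1
    have : x = n⁻¹ * (n * x * n⁻¹) * n := by group
    rw [this, h5]; group
  refine ⟨h3, h4, ?_⟩
  have hη := h.cjI_mem_Th hM hB hn hθ
  have h2 := h.DD_eq_dd hM hB hχ hx hx1 hη
  rw [← DD_conj hn x (irr_classFun χ.2) θ, h.DD_eq_dd hM hB hχ h3 h4 hθ] at h2
  exact (mul_left_cancel₀ hC h2).symm

theorem Loc.Dsum_conj {n : G} (hn : n ∈ nz P) {χ : IrrCharacter G} (hχ : χ ∈ B) :
    Dsum M P (χ : G → ℂ) (cjI hn θ) = Dsum M P (χ : G → ℂ) θ := by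
  classical
  rw [Dsum_eq, Dsum_eq]
  refine Finset.sum_bij' (fun x _ => n * x * n⁻¹) (fun y _ => n⁻¹ * y * n) ?_ ?_ ?_ ?_ ?_
  · intro x hx
    obtain ⟨_, hx, hx1⟩ := Finset.mem_filter.mp hx
    obtain ⟨a, b, _⟩ := h.dd_conj hM hB hθ hn hχ hx hx1
    exact Finset.mem_filter.mpr ⟨Finset.mem_univ _, a, b⟩
  · intro x hx
    obtain ⟨_, hx, hx1⟩ := Finset.mem_filter.mp hx
    obtain ⟨a, b, _⟩ := h.dd_conj hM hB hθ ((nz P).inv_mem hn) hχ hx hx1
    rw [inv_inv] at a b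
    exact Finset.mem_filter.mpr ⟨Finset.mem_univ _, a, b⟩
  · intro x _; group
  · intro x _; group
  · intro x hx
    obtain ⟨_, hx, hx1⟩ := Finset.mem_filter.mp hx
    exact (h.dd_conj hM hB hθ hn hχ hx hx1).2.2

include hBD in
theorem Loc.sum_P {χ : IrrCharacter G} (hχ : χ ∈ B) [DecidablePred fun x : G => x ∈ P ∧ x ≠ 1] :
    ∑ x : G with x ∈ P ∧ x ≠ 1, (χ : G → ℂ) x =
      (Nat.card (Th M P B) : ℂ) * (θ : cz P → ℂ) 1 * Dsum M P (χ : G → ℂ) θ := by
  classical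
  have := Fintype.ofFinite (IrrCharacter (cz P))
  have h1 : ∀ x ∈ Finset.univ.filter (fun x : G => x ∈ P ∧ x ≠ 1), (χ : G → ℂ) x =
      ∑ η : IrrCharacter (cz P) with η ∈ Th M P B,
        dd M x (χ : G → ℂ) η * (θ : cz P → ℂ) 1 := by
    intro x hx
    obtain ⟨_, hx, hx1⟩ := Finset.mem_filter.mp hx
    have h2 := h.translate hM hB hχ hx hx1 (s := 1) (by
      rw [orderOf_one]; exact hp.out.one_lt.ne' ∘ Nat.dvd_one.mp)
    rw [OneMemClass.coe_one, mul_one] at h2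
    rw [h2]
    refine Finset.sum_congr rfl fun η hη => ?_
    obtain ⟨n, hn, rfl⟩ := h.Th_trans hM hB hBD hθ (Finset.mem_filter.mp hη).2
    rw [cjI_apply, map_one]
  rw [Finset.sum_congr rfl h1, Finset.sum_comm]
  have h2 : ∀ η ∈ Finset.univ.filter (fun η : IrrCharacter (cz P) => η ∈ Th M P B),
      ∑ x : G with x ∈ P ∧ x ≠ 1, dd M x (χ : G → ℂ) η * (θ : cz P → ℂ) 1 =
      (θ : cz P → ℂ) 1 * Dsum M P (χ : G → ℂ) θ := by
    intro η hη
    obtain ⟨n, hn, rfl⟩ := h.Th_trans hM hB hBD hθ (Finset.mem_filter.mp hη).2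
    rw [← h.Dsum_conj hM hB hθ hn hχ, Dsum_eq, ← Finset.sum_mul, mul_comm]
  rw [Finset.sum_congr rfl h2, Finset.sum_const, nsmul_eq_mul]
  have h3 : (Finset.univ.filter fun η : IrrCharacter (cz P) => η ∈ Th M P B).card =
      Nat.card (Th M P B) := by
    rw [Nat.card_eq_fintype_card, Fintype.card_subtype]
  rw [h3]; ring

variable {k0 : ℕ} {hg : GalD p P k0} {f : ℕ}
  {Y : Set (IrrCharacter G)} {c : IrrCharacter G → ℤ} {s : ℤ}
  (D : Dat p M P B θ k0 hg f Y c s)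
include D

theorem Loc.Dsum_X {χ : IrrCharacter G} (hχ : χ ∈ B) (hY : χ ∉ Y) :
    Dsum M P (χ : G → ℂ) θ = ((p : ℂ) - 1) * (c χ : ℂ) := by
  classical
  rw [Dsum_eq, Finset.sum_congr rfl (fun x hx => D.hc χ hχ hY x (Finset.mem_filter.mp hx).2.1
      (Finset.mem_filter.mp hx).2.2), Finset.sum_const, nsmul_eq_mul, h.card_ne,
      Nat.cast_sub hp.out.one_le, Nat.cast_one]

theorem Loc.Dsum_Y {ψ : IrrCharacter G} (hψ : ψ ∈ Y) :
    Dsum M P (ψ : G → ℂ) θ = ((cz P).relIndex (stT P θ) : ℂ) * s := by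
  classical
  have := Fintype.ofFinite (IrrCharacter G)
  obtain ⟨hfpos, hepos⟩ := h.fpos hM hB hθ D.exc
  have hf0 : (f : ℂ) ≠ 0 := Nat.cast_ne_zero.mpr hfpos.ne'
  have hYcard : (Finset.univ.filter fun χ : IrrCharacter G => χ ∈ Y).card = f := by
    rw [← D.exc.card, Nat.card_eq_fintype_card, Fintype.card_subtype]
  have hYD : ∀ χ ∈ Y, Dsum M P (χ : G → ℂ) θ = Dsum M P (ψ : G → ℂ) θ := by
    intro χ hχ
    obtain ⟨j, hj⟩ := D.exc.trans ψ hψ χ hχ
    rw [← hj]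
    exact (h.Dsum_iterate hM hB hθ hg (D.exc.sub hψ) j).2
  have h1 : ∑ χ : IrrCharacter G with χ ∈ Y, Dsum M P (χ : G → ℂ) θ =
      (f : ℂ) * Dsum M P (ψ : G → ℂ) θ := by
    rw [Finset.sum_congr rfl fun χ hχ => hYD χ (Finset.mem_filter.mp hχ).2, Finset.sum_const,
      nsmul_eq_mul, hYcard]
  have h2 : ∑ χ : IrrCharacter G with χ ∈ Y, Dsum M P (χ : G → ℂ) θ =
      ((p - 1 : ℕ) : ℂ) * s := by
    simp only [Dsum_eq]
    rw [Finset.sum_comm, ← h.card_ne, ← nsmul_eq_mul, ← Finset.sum_const]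
    refine Finset.sum_congr rfl fun x hx => ?_
    rw [← D.hs x (Finset.mem_filter.mp hx).2.1 (Finset.mem_filter.mp hx).2.2, finsum_mem_irr]
  rw [h1, ← D.exc.fmul] at h2
  apply mul_left_cancel₀ hf0
  rw [h2]; push_cast; ring

include hBD

theorem Loc.deg_X {χ : IrrCharacter G} (hχ : χ ∈ B) (hY : χ ∉ Y) :
    (charDegree (χ : G → ℂ) : ℤ) ≡
      c χ * (Nat.card (Th M P B) * charDegree (θ : cz P → ℂ) : ℕ) [ZMOD p] := by
  classical
  obtain ⟨k, hk⟩ := sum_subgroup_int (irr_isChar χ.2) P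
  have h1 : (Finset.univ.filter fun x : G => x ∈ P) =
      insert 1 (Finset.univ.filter fun x : G => x ∈ P ∧ x ≠ 1) := by
    ext x
    simp only [Finset.mem_filter, Finset.mem_univ, true_and, Finset.mem_insert]
    constructor
    · intro hx
      by_cases h1 : x = 1
      · exact Or.inl h1
      · exact Or.inr ⟨hx, h1⟩
    · rintro (rfl | hx)
      · exact P.one_mem
      · exact hx.1
  rw [h1, Finset.sum_insert (by simp), h.sum_P hM hB hBD hθ hχ, h.Dsum_X hM hB hθ D hχ hY,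
    h.card, ← charDegree_cast (irr_isChar χ.2), ← charDegree_cast (irr_isChar θ.2)] at hk
  have h2 : (charDegree (χ : G → ℂ) : ℤ) + (Nat.card (Th M P B) : ℤ) *
      charDegree (θ : cz P → ℂ) * (((p : ℤ) - 1) * c χ) = p * k := by
    exact_mod_cast hk
  rw [Int.modEq_comm, Int.modEq_iff_dvd]
  refine ⟨k - Nat.card (Th M P B) * charDegree (θ : cz P → ℂ) * c χ, ?_⟩
  push_cast
  linear_combination h2

theorem Loc.deg_Y {ψ : IrrCharacter G} (hψ : ψ ∈ Y) :
    (charDegree (ψ : G → ℂ) : ℤ) ≡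
      -s * ((cz P).relIndex (nz P) * charDegree (θ : cz P → ℂ) : ℕ) [ZMOD p] := by
  classical
  obtain ⟨k, hk⟩ := sum_subgroup_int (irr_isChar ψ.2) P
  have h1 : (Finset.univ.filter fun x : G => x ∈ P) =
      insert 1 (Finset.univ.filter fun x : G => x ∈ P ∧ x ≠ 1) := by
    ext x
    simp only [Finset.mem_filter, Finset.mem_univ, true_and, Finset.mem_insert]
    constructor
    · intro hx
      by_cases h1 : x = 1
      · exact Or.inl h1
      · exact Or.inr ⟨hx, h1⟩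
    · rintro (rfl | hx)
      · exact P.one_mem
      · exact hx.1
  rw [h1, Finset.sum_insert (by simp), h.sum_P hM hB hBD hθ (D.exc.sub hψ),
    h.Dsum_Y hM hB hθ D hψ,
    h.card, ← charDegree_cast (irr_isChar ψ.2), ← charDegree_cast (irr_isChar θ.2)] at hk
  have h2 : (charDegree (ψ : G → ℂ) : ℤ) + (Nat.card (Th M P B) : ℤ) *
      charDegree (θ : cz P → ℂ) * (((cz P).relIndex (stT P θ) : ℤ) * s) = p * k := by
    exact_mod_cast hk
  have h3 := h.card_Th hM hB hBD hθ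
  rw [Int.modEq_comm, Int.modEq_iff_dvd]
  refine ⟨k, ?_⟩
  rw [← h3]
  push_cast
  linear_combination h2

end

end Cfsg.Agent.LD
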