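import Mathlib
import Cfsg.Agent.L.DO11

set_option autoImplicit false

/-!
# Blocks of defect one: packaged statements
-/

namespace Cfsg.Agent.LD

open Cfsg Cfsg.Agent.H3 Cfsg.Agent.H11 Cfsg.Agent.H26 Cfsg.Agent.H27 Finset
open scoped ComplexConjugate Pointwise

universe u

variable {G : Type u} [Group G] [Fintype G] {p : ℕ} {M : Ideal AlgInt}
  {P : Subgroup G} [hp : Fact p.Prime]

theorem principal_Th (h : Loc p P) (hM : IsPModular p M)
    (hBD : IsDefectGroup p M (principalBlock M G) P) :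
    ∃ θ ∈ Th M P (principalBlock M G), (∀ s, (θ : cz P → ℂ) s = 1) ∧
      Th M P (principalBlock M G) = {θ} ∧ stT P θ = nz P := by
  have hpr := hM.2.1.isPrime
  have := Fintype.ofFinite (cz P)
  have hB : IsPBlock M (principalBlock M G) := principalBlock_isPBlock
  have key : ∀ θ ∈ Th M P (principalBlock M G), trv (cz P) = θ := by
    intro θ hθ
    have h1 : blockOf M (θ : cz P → ℂ) = principalBlock M (cz P) :=
      (third_main hM hθ.2).mp rfl
    have h2 : trv (cz P) ∈ blockOf M (θ : cz P → ℂ) := by rw [h1]; exact trv_mem _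
    have h3 : InKer P (trv (cz P) : cz P → ℂ) := fun u _ g => rfl
    exact h.can_unique hM hθ.2.1 (mem_blockOf_self θ) h2 hθ.1 h3
  obtain ⟨θ, hθ⟩ := h.exists_Th hM hB hBD
  have hval : ∀ s, (θ : cz P → ℂ) s = 1 := by
    intro s; rw [← key θ hθ]; rfl
  refine ⟨θ, hθ, hval, ?_, ?_⟩
  · ext η
    rw [Set.mem_singleton_iff]
    constructor
    · intro hη; rw [← key θ hθ, key η hη]
    · rintro rfl; exact hθ
  · ext n
    rw [mem_stT]
    constructor
    · exact fun hn => hn.1
    · intro hn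
      refine ⟨hn, Subtype.ext (funext fun s => ?_)⟩
      rw [cjI_apply, hval, hval]

theorem card_block_eq (B Y : Set (IrrCharacter G)) (hY : Y ⊆ B) :
    Nat.card B = Nat.card (B \ Y : Set (IrrCharacter G)) + Nat.card Y := by
  rw [Nat.card_coe_set_eq, Nat.card_coe_set_eq, Nat.card_coe_set_eq,
    Set.ncard_sdiff_add_ncard_of_subset hY (Set.toFinite _)]

theorem mem_stT_iff' {θ : IrrCharacter (cz P)} {g : G} :
    g ∈ stT P θ ↔ g ∈ nz P ∧ ∀ c c' : cz P, (c' : G) = g * c * g⁻¹ →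
      (θ : cz P → ℂ) c' = (θ : cz P → ℂ) c := by
  rw [mem_stT]
  constructor
  · rintro ⟨hn, h1⟩
    refine ⟨hn, fun c c' hc => ?_⟩
    have h2 : c' = cjE P hn c := Subtype.ext hc
    rw [h2, ← cjI_apply, h1]
  · rintro ⟨hn, h1⟩
    refine ⟨hn, Subtype.ext (funext fun s => ?_)⟩
    rw [cjI_apply]
    exact h1 s _ (cjE_coe hn s)

end Cfsg.Agent.LD
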