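import Mathlib
import Cfsg.Agent.L.DO12

set_option autoImplicit false

/-!
# Blocks of defect one: field automorphisms
-/

namespace Cfsg.Agent.LD

open Cfsg Cfsg.Agent.H3 Cfsg.Agent.H11 Cfsg.Agent.H26 Cfsg.Agent.H27 Finset
open scoped ComplexConjugate Pointwise

universe u

theorem aut_pow {n : ℕ} (hn : n ≠ 0) (σ : ℂ ≃+* ℂ) :
    ∃ m : ℕ, m.Coprime n ∧ ∀ ζ : ℂ, ζ ^ n = 1 → σ ζ = ζ ^ m := by
  have : NeZero n := ⟨hn⟩
  have hζ := Complex.isPrimitiveRoot_exp n hn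
  set ζ := Complex.exp (2 * Real.pi * Complex.I / n) with hz
  have h1 : (σ ζ) ^ n = 1 := by rw [← map_pow, hζ.pow_eq_one, map_one]
  obtain ⟨m, _, hm⟩ := hζ.eq_pow_of_pow_eq_one h1
  have h2 : IsPrimitiveRoot (σ ζ) n := hζ.map_of_injective (f := σ) σ.injective
  rw [← hm] at h2
  refine ⟨m, (hζ.pow_iff_coprime (Nat.pos_of_ne_zero hn) m).mp h2, ?_⟩
  intro ξ hξ
  obtain ⟨i, _, rfl⟩ := hζ.eq_pow_of_pow_eq_one hξ
  rw [map_pow, ← hm, ← pow_mul, ← pow_mul, mul_comm]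

theorem prim_pow_iff {ζ : ℂ} {r m : ℕ} (hr : r ≠ 0) (hζ : IsPrimitiveRoot ζ r) :
    ζ ^ m = ζ ↔ m ≡ 1 [MOD r] := by
  have h1 : ∀ k : ℕ, ζ ^ k = ζ ^ (k % r) := by
    intro k
    conv_rhs => rw [hζ.eq_orderOf]
    rw [pow_mod_orderOf]
  constructor
  · intro h
    have h2 : ζ ^ (m % r) = ζ ^ (1 % r) := by rw [← h1, ← h1, h, pow_one]
    exact hζ.pow_inj (Nat.mod_lt _ (Nat.pos_of_ne_zero hr)) (Nat.mod_lt _ (Nat.pos_of_ne_zero hr)) h2
  · intro h
    have h2 : m % r = 1 % r := h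
    rw [h1, h2, ← h1, pow_one]

variable {G : Type u} [Group G] [Fintype G] {p : ℕ} {M : Ideal AlgInt}
  {P : Subgroup G} [hp : Fact p.Prime]

theorem Loc.galIrr_eq (h : Loc p P) {k0 : ℕ} (hg : GalD p P k0) {m j : ℕ}
    (hm : m.Coprime (Nat.card G)) (hreg : ∀ c : G, ¬ p ∣ orderOf c → c ^ m = c)
    (hx : ∀ x ∈ P, x ^ m = x ^ (k0 ^ j)) (χ : IrrCharacter G) :
    galIrr m hm χ = (galIrr k0 hg.cop)^[j] χ := by
  apply Subtype.ext
  funext g
  rw [galIrr_apply, hg.iterate_apply]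
  rcases h.exists_conj g with h1 | ⟨x, hxP, hx1, s, hs, hconj⟩
  · rw [hreg g h1, hg.reg_iterate j h1]
  · obtain ⟨c, hc⟩ := isConj_iff.mp hconj
    have hcomm : Commute x (s : G) := by
      have := h.central hxP s
      exact congrArg (Subtype.val) this
    have hs' : ¬ p ∣ orderOf (s : G) := by rw [Subgroup.orderOf_coe]; exact hs
    have h2 : ∀ k : ℕ, (χ : G → ℂ) (g ^ k) = (χ : G → ℂ) ((x * s) ^ k) := by
      intro k
      rw [← irr_classFun χ.2 (g ^ k) c, ← hc, conj_pow]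
    rw [h2, h2, hcomm.mul_pow, hcomm.mul_pow, hreg s hs', hg.reg_iterate j hs', hx x hxP]

theorem Loc.card_eq (h : Loc p P) : p * (Nat.card G / p) = Nat.card G ∧
    Nat.Coprime p (Nat.card G / p) := by
  have hpd : p ∣ Nat.card G := by
    rw [← h.card]; exact Subgroup.card_subgroup_dvd_card P
  have hqr : p * (Nat.card G / p) = Nat.card G := Nat.mul_div_cancel' hpd
  refine ⟨hqr, ?_⟩
  rw [Nat.Prime.coprime_iff_not_dvd hp.out]
  intro hd
  apply h.sq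
  rw [← hqr, pow_two]
  exact Nat.mul_dvd_mul_left p hd

theorem Loc.order_dvd (h : Loc p P) {c : G} (hc : ¬ p ∣ orderOf c) :
    orderOf c ∣ Nat.card G / p := by
  have h1 : orderOf c ∣ p * (Nat.card G / p) := by
    rw [h.card_eq.1]; exact orderOf_dvd_natCard c
  exact (((Nat.Prime.coprime_iff_not_dvd hp.out).mpr hc).symm).dvd_of_dvd_mul_left h1

/-- a field automorphism fixing the `g'`-th roots of unity acts as an iterate -/
theorem Loc.aut_iterate (h : Loc p P) {k0 : ℕ} (hg : GalD p P k0) (σ : ℂ ≃+* ℂ)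
    (hσ : σ (Complex.exp (2 * Real.pi * Complex.I / ((Nat.card G / p : ℕ)))) =
      Complex.exp (2 * Real.pi * Complex.I / ((Nat.card G / p : ℕ)))) :
    ∃ j : ℕ, ∀ χ : IrrCharacter G, (fun g => σ ((χ : G → ℂ) g)) =
      (((galIrr k0 hg.cop)^[j] χ : IrrCharacter G) : G → ℂ) := by
  have hn : Nat.card G ≠ 0 := Nat.card_pos.ne'
  obtain ⟨m, hm, hσm⟩ := aut_pow hn σ
  obtain ⟨hqr, hcop⟩ := h.card_eq
  set r := Nat.card G / p with hr
  have hr0 : r ≠ 0 := by rintro h0; rw [h0, mul_zero] at hqr; exact hn hqr.symm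
  have hζ := Complex.isPrimitiveRoot_exp r hr0
  have h1 : Complex.exp (2 * Real.pi * Complex.I / (r : ℕ)) ^ m =
      Complex.exp (2 * Real.pi * Complex.I / (r : ℕ)) := by
    rw [← hσm _ (by rw [← hqr, mul_comm p r, pow_mul, hζ.pow_eq_one, one_pow]), hσ]
  have h2 : m ≡ 1 [MOD r] := (prim_pow_iff hr0 hζ).mp h1
  have hreg : ∀ c : G, ¬ p ∣ orderOf c → c ^ m = c := by
    intro c hc
    have h3 : m ≡ 1 [MOD orderOf c] := h2.of_dvd (h.order_dvd hc)
    have := pow_eq_pow_iff_modEq.mpr h3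
    rwa [pow_one] at this
  have hpm : ¬ p ∣ m := by
    intro hd
    have h3 : p ∣ Nat.card G := ⟨_, hqr.symm⟩
    have := Nat.dvd_gcd hd h3
    rw [hm.gcd_eq_one] at this
    exact hp.out.one_lt.ne' (Nat.dvd_one.mp this)
  obtain ⟨j, hj⟩ := hg.gen m hpm
  refine ⟨j, fun χ => ?_⟩
  rw [← h.galIrr_eq hg hm hreg hj χ]
  funext g
  rw [galIrr_apply]
  exact char_galois_apply (irr_isChar χ.2) (σ : ℂ →+* ℂ) hn hσm pow_card_eq_one'

theorem Loc.iterate_aut (h : Loc p P) {k0 : ℕ} (hg : GalD p P k0) (j : ℕ) :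
    ∃ σ : ℂ ≃+* ℂ, σ (Complex.exp (2 * Real.pi * Complex.I / ((Nat.card G / p : ℕ)))) =
      Complex.exp (2 * Real.pi * Complex.I / ((Nat.card G / p : ℕ))) ∧
      ∀ χ : IrrCharacter G, (fun g => σ ((χ : G → ℂ) g)) =
      (((galIrr k0 hg.cop)^[j] χ : IrrCharacter G) : G → ℂ) := by
  have hn : Nat.card G ≠ 0 := Nat.card_pos.ne'
  obtain ⟨hqr, hcop⟩ := h.card_eq
  set r := Nat.card G / p with hr
  have hr0 : r ≠ 0 := by rintro h0; rw [h0, mul_zero] at hqr; exact hn hqr.symm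
  have hζ := Complex.isPrimitiveRoot_exp r hr0
  obtain ⟨m, hm1, hm2⟩ := Nat.chineseRemainder hcop (k0 ^ j) 1
  have hk0 : (k0 ^ j).Coprime (Nat.card G) := Nat.Coprime.pow_left j hg.cop
  have hmc : m.Coprime (Nat.card G) := by
    rw [← hqr]
    apply Nat.Coprime.mul_right
    · have : (k0 ^ j).Coprime p := hk0.coprime_dvd_right ⟨_, hqr.symm⟩
      rw [Nat.coprime_iff_gcd_eq_one] at this ⊢
      rw [← this]
      exact hm1.gcd_eq
    · rw [Nat.coprime_iff_gcd_eq_one]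
      have := hm2.gcd_eq
      rw [this, Nat.gcd_one_left]
  have hreg : ∀ c : G, ¬ p ∣ orderOf c → c ^ m = c := by
    intro c hc
    have h3 : m ≡ 1 [MOD orderOf c] := hm2.of_dvd (h.order_dvd hc)
    have := pow_eq_pow_iff_modEq.mpr h3
    rwa [pow_one] at this
  have hx : ∀ x ∈ P, x ^ m = x ^ (k0 ^ j) := by
    intro x hx
    apply pow_eq_pow_iff_modEq.mpr
    apply hm1.of_dvd
    have h3 : orderOf (⟨x, hx⟩ : P) ∣ Nat.card P := orderOf_dvd_natCard _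
    rw [Subgroup.orderOf_mk, h.card] at h3
    exact h3
  obtain ⟨σ, hσ⟩ := exists_ringEquiv_pow hn hmc
  refine ⟨σ, ?_, fun χ => ?_⟩
  · rw [hσ _ (by rw [← hqr, mul_comm p r, pow_mul, hζ.pow_eq_one, one_pow])]
    exact (prim_pow_iff hr0 hζ).mpr hm2
  · rw [← h.galIrr_eq hg hmc hreg hx χ]
    funext g
    rw [galIrr_apply]
    exact char_galois_apply (irr_isChar χ.2) (σ : ℂ →+* ℂ) hn hσ pow_card_eq_one'

end Cfsg.Agent.LD
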