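import Mathlib
import Cfsg.Agent.L.DO13

set_option autoImplicit false

/-!
# Characters of small degree in groups with a Sylow `p`-subgroup of order `p`
-/

namespace Cfsg.Agent.LD

open Cfsg Cfsg.Agent.H3 Cfsg.Agent.H11 Cfsg.Agent.H26 Cfsg.Agent.H27 Finset
open scoped ComplexConjugate Pointwise

universe u

variable {G : Type u} [Group G] [Fintype G] {p : ℕ} {M : Ideal AlgInt}
  {P : Subgroup G} [hp : Fact p.Prime]

theorem norm_char_le_deg {χ : G → ℂ} (hχ : IsCharacter G χ) (g : G) :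
    ‖χ g‖ ≤ (charDegree χ : ℝ) := by
  obtain ⟨n, ρ, rfl⟩ := hχ
  have h1 := rep_norm_char_le ρ g
  have h2 : (charDegree (ρ.character) : ℂ) = ρ.character 1 := charDegree_cast ⟨n, ρ, rfl⟩
  rw [Representation.char_one] at h2
  have h3 : charDegree ρ.character = Module.finrank ℂ (Fin n → ℂ) := by exact_mod_cast h2
  rw [h3]; exact h1

theorem fin_split (P : Subgroup G) [DecidablePred (· ∈ P)]
    [DecidablePred fun x : G => x ∈ P ∧ x ≠ 1] (F : G → ℂ) :
    ∑ x : G with x ∈ P, F x = F 1 + ∑ x : G with x ∈ P ∧ x ≠ 1, F x := by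
  classical
  have h1 : (Finset.univ.filter fun x : G => x ∈ P) =
      insert 1 (Finset.univ.filter fun x : G => x ∈ P ∧ x ≠ 1) := by
    ext x
    simp only [Finset.mem_filter, Finset.mem_univ, true_and, Finset.mem_insert]
    constructor
    · intro hx
      by_cases h1 : x = 1
      · exact Or.inl h1
      · exact Or.inr ⟨hx, h1⟩
    · rintro (rfl | hx)
      · exact P.one_mem
      · exact hx.1
  rw [h1, Finset.sum_insert (by simp)]

section
variable (h : Loc p P) (hM : IsPModular p M) {B : Set (IrrCharacter G)} (hB : IsPBlock M B)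
  (hBD : IsDefectGroup p M B P)
  {θ : IrrCharacter (cz P)} (hθ : θ ∈ Th M P B)

include h hM hB hBD hθ in
/-- constant decomposition numbers and small degree force `P` into the kernel -/
theorem Loc.const_of [Fintype (cz P)] {χ : IrrCharacter G} (hχ : χ ∈ B)
    (hd : 2 * charDegree (χ : G → ℂ) < p) (κ : ℤ)
    (hκ : ∀ x ∈ P, x ≠ 1 → dd M x (χ : G → ℂ) θ = κ) : ∀ x ∈ P, (χ : G → ℂ) x = (χ : G → ℂ) 1 := by
  classical
  have := Fintype.ofFinite (IrrCharacter (cz P))
  have hθ1 := charDegree_cast (irr_isChar θ.2)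
  set r : ℤ := κ * (Nat.card (Th M P B) * charDegree (θ : cz P → ℂ) : ℕ) with hr
  have hval : ∀ x ∈ P, x ≠ 1 → (χ : G → ℂ) x = r := by
    intro x hx hx1
    have h2 := h.translate hM hB hχ hx hx1 (s := 1) (by
      rw [orderOf_one]; exact hp.out.one_lt.ne' ∘ Nat.dvd_one.mp)
    rw [OneMemClass.coe_one, mul_one] at h2
    have h3 : ∀ η ∈ Finset.univ.filter (fun η : IrrCharacter (cz P) => η ∈ Th M P B),
        dd M x (χ : G → ℂ) η * (η : cz P → ℂ) 1 = κ * (θ : cz P → ℂ) 1 := by
      intro η hη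
      obtain ⟨n, hn, rfl⟩ := h.Th_trans hM hB hBD hθ (Finset.mem_filter.mp hη).2
      obtain ⟨a, b, c⟩ := h.dd_conj hM hB hθ hn hχ hx hx1
      rw [c, hκ _ a b, cjI_apply, map_one]
    have h4 : (Finset.univ.filter fun η : IrrCharacter (cz P) => η ∈ Th M P B).card =
        Nat.card (Th M P B) := by
      rw [Nat.card_eq_fintype_card, Fintype.card_subtype]
    rw [h2, Finset.sum_congr rfl h3, Finset.sum_const, nsmul_eq_mul, h4, ← hθ1, hr]
    push_cast; ring
  obtain ⟨k, hk⟩ := sum_subgroup_int (irr_isChar χ.2) P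
  have hχ1 := charDegree_cast (irr_isChar χ.2)
  rw [fin_split, Finset.sum_congr rfl (fun x hx => hval x (Finset.mem_filter.mp hx).2.1
    (Finset.mem_filter.mp hx).2.2), Finset.sum_const, nsmul_eq_mul, h.card_ne, h.card, ← hχ1] at hk
  have hk2 : (charDegree (χ : G → ℂ) : ℤ) + ((p : ℤ) - 1) * r = p * k := by
    have h5 : ((p - 1 : ℕ) : ℂ) = (p : ℂ) - 1 := by
      rw [Nat.cast_sub hp.out.one_le, Nat.cast_one]
    rw [h5] at hk
    exact_mod_cast hk
  obtain ⟨x0, hx0, hx01⟩ := h.exists_ne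
  have hb : |r| ≤ (charDegree (χ : G → ℂ) : ℤ) := by
    have h6 := norm_char_le_deg (irr_isChar χ.2) x0
    rw [hval x0 hx0 hx01, Complex.norm_intCast] at h6
    exact_mod_cast h6
  have h7 : (charDegree (χ : G → ℂ) : ℤ) - r = p * (k - r) := by linear_combination hk2
  have h8 : k - r = 0 := by
    by_contra hne
    have h9 : (1 : ℤ) ≤ |k - r| := Int.one_le_abs hne
    have h10 : |(charDegree (χ : G → ℂ) : ℤ) - r| = p * |k - r| := by
      rw [h7, abs_mul, Nat.abs_cast]
    have h11 : |(charDegree (χ : G → ℂ) : ℤ) - r| ≤ 2 * (charDegree (χ : G → ℂ) : ℤ) := by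
      have := abs_sub (charDegree (χ : G → ℂ) : ℤ) r
      rw [Nat.abs_cast] at this
      linarith
    have h12 : (p : ℤ) ≤ p * |k - r| := le_mul_of_one_le_right (by positivity) h9
    have h13 : (2 * charDegree (χ : G → ℂ) : ℤ) < p := by exact_mod_cast hd
    linarith
  rw [h8, mul_zero] at h7
  intro x hx
  by_cases hx1 : x = 1
  · rw [hx1]
  · rw [hval x hx hx1, ← hχ1]
    have : r = (charDegree (χ : G → ℂ) : ℤ) := by linarith
    rw [this]; simp

/-- the central character on `P` -/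
noncomputable def omg (h : Loc p P) (φ : IrrCharacter (cz P)) : P →* ℂ where
  toFun u := H11.lam φ ⟨u, h.le_cz u.2⟩
  map_one' := by
    have : Fintype (cz P) := Fintype.ofFinite _
    exact H11.lam_one
  map_mul' u v := by
    have : Fintype (cz P) := Fintype.ofFinite _
    exact H11.lam_mul (u := (⟨u, h.le_cz u.2⟩ : cz P)) (v := (⟨v, h.le_cz v.2⟩ : cz P))
      (h.center (Subgroup.mem_subgroupOf.mpr u.2))

include h in
theorem Loc.omg_mul (φ : IrrCharacter (cz P)) (u : P) (g : cz P) :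
    (φ : cz P → ℂ) (⟨u, h.le_cz u.2⟩ * g) = omg h φ u * (φ : cz P → ℂ) g := by
  have : Fintype (cz P) := Fintype.ofFinite _
  exact H11.lam_mul_char (h.center (Subgroup.mem_subgroupOf.mpr u.2)) g

include h in
theorem Loc.omg_val (φ : IrrCharacter (cz P)) (u : P) :
    (φ : cz P → ℂ) ⟨u, h.le_cz u.2⟩ = omg h φ u * (φ : cz P → ℂ) 1 := by
  have := h.omg_mul φ u 1
  rwa [mul_one] at this

include h in
theorem Loc.omg_cjI {n : G} (hn : n ∈ nz P) (φ : IrrCharacter (cz P)) (u : P) :
    omg h (cjI hn φ) u = omg h φ ⟨n * u * n⁻¹, (Subgroup.mem_normalizer_iff.mp hn u).mp u.2⟩ := by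
  unfold omg
  simp only [MonoidHom.coe_mk, OneHom.coe_mk]
  unfold H11.lam
  rw [cjI_apply, cjI_apply, map_one]
  rfl

include h in
theorem Loc.omg_inj {φ : IrrCharacter (cz P)} (hφ : ¬ InKer P (φ : cz P → ℂ)) :
    Function.Injective (omg h φ) := by
  have hcard := h.card
  have hK : (omg h φ).ker = ⊥ ∨ (omg h φ).ker = ⊤ := by
    have : Fact (Nat.card P).Prime := ⟨by rw [hcard]; exact hp.out⟩
    exact (omg h φ).ker.eq_bot_or_eq_top_of_prime_card
  rcases hK with hK | hK
  · exact (MonoidHom.ker_eq_bot_iff _).mp hK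
  · exfalso
    apply hφ
    intro u hu g
    have h1 := h.omg_mul φ ⟨u, hu⟩ g
    have h2 : (⟨(u : G), hu⟩ : P) ∈ (omg h φ).ker := by rw [hK]; trivial
    rw [MonoidHom.mem_ker] at h2
    rw [h2, one_mul] at h1
    exact h1

include h in
/-- the stabilizer of a character nontrivial on `P` is the centralizer -/
theorem Loc.stab_eq {φ : IrrCharacter (cz P)} (hφ : ¬ InKer P (φ : cz P → ℂ)) {n : G}
    (hn : n ∈ nz P) (h1 : cjI hn φ = φ) : n ∈ cz P := by
  rw [Subgroup.mem_centralizer_iff]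
  intro x hx
  have h2 := h.omg_cjI hn φ ⟨x, hx⟩
  rw [h1] at h2
  have h3 := h.omg_inj hφ h2
  have h4 : x = n * x * n⁻¹ := congrArg Subtype.val h3
  calc x * n = n * x * n⁻¹ * n := by rw [← h4]
    _ = n * x := by group

open Classical in
/-- the orbit of a character of the centralizer -/
noncomputable def orb (φ : IrrCharacter (cz P)) : Finset (IrrCharacter (cz P)) :=
  Set.Finite.toFinset (Set.toFinite {η : IrrCharacter (cz P) | ∃ (n : G) (hn : n ∈ nz P), cjI hn φ = η})

omit hp in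
theorem mem_orb {φ η : IrrCharacter (cz P)} :
    η ∈ orb φ ↔ ∃ (n : G) (hn : n ∈ nz P), cjI hn φ = η := by
  unfold orb
  rw [Set.Finite.mem_toFinset]; rfl

include h in
theorem Loc.card_orb {φ : IrrCharacter (cz P)} (hφ : ¬ InKer P (φ : cz P → ℂ)) :
    (orb φ).card = (cz P).relIndex (nz P) := by
  classical
  have := Fintype.ofFinite (nz P)
  have hmaps : ∀ n : nz P, cjI n.2 φ ∈ orb φ := fun n => mem_orb.mpr ⟨n, n.2, rfl⟩
  have h1 : (Finset.univ : Finset (nz P)).card =
      ∑ η ∈ orb φ, (Finset.univ.filter fun n : nz P => cjI n.2 φ = η).card :=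
    Finset.card_eq_sum_card_fiberwise fun n _ => hmaps n
  have h2 : ∀ η ∈ orb φ, (Finset.univ.filter fun n : nz P => cjI n.2 φ = η).card =
      Nat.card (cz P) := by
    intro η hη
    obtain ⟨n0, hn0, rfl⟩ := mem_orb.mp hη
    have h3 : ∀ (n : G) (hn : n ∈ nz P), cjI hn φ = cjI hn0 φ ↔ n * n0⁻¹ ∈ cz P := by
      intro n hn
      have hm : n * n0⁻¹ ∈ nz P := (nz P).mul_mem hn ((nz P).inv_mem hn0)
      have h4 : cjI hn φ = cjI hn0 (cjI hm φ) := by
        rw [cjI_mul hm hn0]
        congr 1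
        group
      rw [h4]
      constructor
      · intro h5
        have h6 : cjI ((nz P).inv_mem hn0) (cjI hn0 (cjI hm φ)) =
            cjI ((nz P).inv_mem hn0) (cjI hn0 φ) := by rw [h5]
        have h7 : ∀ ξ : IrrCharacter (cz P), cjI ((nz P).inv_mem hn0) (cjI hn0 ξ) = ξ := by
          intro ξ
          rw [cjI_mul hn0 ((nz P).inv_mem hn0)]
          have : cjI (P := P) (n := n0 * n0⁻¹) ((nz P).mul_mem hn0 ((nz P).inv_mem hn0)) ξ =
              cjI (nz P).one_mem ξ := by congr 1; group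
          rw [this, cjI_one]
        rw [h7, h7] at h6
        exact h.stab_eq hφ hm h6
      · intro h5
        congr 1
        have h6 := cz_le_stT φ h5
        obtain ⟨hn', h7⟩ := mem_stT.mp h6
        exact h7
    rw [Nat.card_eq_fintype_card, ← Finset.card_univ]
    symm
    refine Finset.card_bij' (fun (c : cz P) _ => (⟨c * n0, (nz P).mul_mem
      (Loc.cz_le_nz c.2) hn0⟩ : nz P))
      (fun n hn => (⟨n * n0⁻¹, (h3 n n.2).mp (Finset.mem_filter.mp hn).2⟩ : cz P)) ?_ ?_ ?_ ?_
    · intro c _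
      refine Finset.mem_filter.mpr ⟨Finset.mem_univ _, ?_⟩
      rw [h3]
      simp
    · intro n _; exact Finset.mem_univ _
    · intro c _; apply Subtype.ext; simp
    · intro n _; apply Subtype.ext; simp
  rw [Finset.sum_congr rfl h2, Finset.sum_const, smul_eq_mul, Finset.card_univ,
    ← Nat.card_eq_fintype_card] at h1
  have h4 : (cz P).relIndex (nz P) * Nat.card (cz P) = Nat.card (nz P) := by
    have h1 := Subgroup.relIndex_mul_relIndex (⊥ : Subgroup G) (cz P) (nz P) bot_le Loc.cz_le_nz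
    rw [Subgroup.relIndex_bot_left, Subgroup.relIndex_bot_left] at h1
    rw [← h1, mul_comm]
  rw [← h4] at h1
  exact (Nat.eq_of_mul_eq_mul_right Nat.card_pos h1).symm

end

end Cfsg.Agent.LD
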