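import Mathlib
import Cfsg.Agent.L.SM1

set_option autoImplicit false

/-!
# Characters of small degree: structure
-/

namespace Cfsg.Agent.LD

open Cfsg Cfsg.Agent.H3 Cfsg.Agent.H11 Cfsg.Agent.H26 Cfsg.Agent.H27 Finset
open scoped ComplexConjugate Pointwise

universe u

variable {G : Type u} [Group G] [Fintype G] {p : ℕ} {M : Ideal AlgInt}
  {P : Subgroup G} [hp : Fact p.Prime]

section
variable (h : Loc p P) (hM : IsPModular p M) {B : Set (IrrCharacter G)} (hB : IsPBlock M B)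
  (hBD : IsDefectGroup p M B P)
  {θ : IrrCharacter (cz P)} (hθ : θ ∈ Th M P B)

include h hM hB hBD hθ in
theorem Loc.exists_phi [Fintype (cz P)] {χ : IrrCharacter G} (hχ : χ ∈ B)
    (hd : 2 * charDegree (χ : G → ℂ) < p) (hne : ∃ x ∈ P, (χ : G → ℂ) x ≠ (χ : G → ℂ) 1) :
    ∃ φ : IrrCharacter (cz P), φ ∈ blockOf M (θ : cz P → ℂ) ∧ φ ≠ θ ∧
      classInner (fun c : cz P => (χ : G → ℂ) c) (φ : cz P → ℂ) ≠ 0 := by
  classical
  have hpr := hM.2.1.isPrime
  by_contra hcon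
  push Not at hcon
  obtain ⟨a, ha⟩ := classInner_char_nat (isChar_restrict' (C := cz P) (irr_isChar χ.2))
    (irr_isChar θ.2)
  obtain ⟨x0, hx0, hx01⟩ := hne
  apply hx01
  refine h.const_of hM hB hBD hθ hχ hd a ?_ x0 hx0
  intro x hx hx1
  have hcomm : ∀ c, (⟨x, h.le_cz hx⟩ : cz P) * c = c * ⟨x, h.le_cz hx⟩ := h.central hx
  have h1 : ∀ φ : IrrCharacter (cz P), ac (cz P) x (χ : G → ℂ) (φ : cz P → ℂ) =
      classInner (fun c : cz P => (χ : G → ℂ) c) (φ : cz P → ℂ) *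
        lv (⟨x, h.le_cz hx⟩ : cz P) (φ : cz P → ℂ) :=
    fun φ => ac_eq (irr_isChar χ.2) hcomm φ
  unfold dd
  have h2 : ∑ᶠ φ ∈ blockOf M (θ : cz P → ℂ), ac (cz P) x (χ : G → ℂ) (φ : cz P → ℂ) =
      ∑ᶠ φ ∈ ({θ} : Set (IrrCharacter (cz P))), ac (cz P) x (χ : G → ℂ) (φ : cz P → ℂ) := by
    symm
    apply finsum_mem_inter_support_eq
    ext φ
    simp only [Set.mem_inter_iff, Set.mem_singleton_iff, Function.mem_support]
    constructor
    · rintro ⟨rfl, h3⟩
      exact ⟨mem_blockOf_self φ, h3⟩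
    · rintro ⟨h3, h4⟩
      refine ⟨?_, h4⟩
      by_contra hne
      apply h4
      rw [h1, hcon φ h3 hne, zero_mul]
  rw [h2, finsum_mem_singleton, h1, ha]
  have h3 : lv (⟨x, h.le_cz hx⟩ : cz P) (θ : cz P → ℂ) = 1 := by
    unfold lv
    have := hθ.1 ⟨x, h.le_cz hx⟩ hx 1
    rw [mul_one] at this
    rw [this, div_self (irr_one_ne_zero θ.2)]
  rw [h3, mul_one]; simp

omit hp in
theorem classInner_cjI [Fintype (cz P)] {n : G} (hn : n ∈ nz P) {χ : G → ℂ} (hχ : IsClassFunction G χ)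
    (φ : IrrCharacter (cz P)) :
    classInner (fun c : cz P => χ c) (cjI hn φ : cz P → ℂ) =
      classInner (fun c : cz P => χ c) (φ : cz P → ℂ) := by
  unfold classInner
  congr 1
  refine Fintype.sum_equiv (cjE P hn).toEquiv _ _ fun c => ?_
  simp only [cjI_apply]
  change χ (c : G) * _ = χ (cjE P hn c : G) * _
  rw [cjE_coe, hχ (c : G) n]
  rfl

include h hM hB hBD hθ in
/-- the structure of a faithful character of small degree on the centralizer -/
theorem Loc.small {χ : IrrCharacter G} (hχ : χ ∈ B)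
    (hd : 2 * charDegree (χ : G → ℂ) < p) (hne : ∃ x ∈ P, (χ : G → ℂ) x ≠ (χ : G → ℂ) 1) :
    ∃ φ : IrrCharacter (cz P), ¬ InKer P (φ : cz P → ℂ) ∧
      charDegree (χ : G → ℂ) = (cz P).relIndex (nz P) * charDegree (φ : cz P → ℂ) ∧
      ∀ c : cz P, (χ : G → ℂ) c = ∑ η ∈ orb φ, (η : cz P → ℂ) c := by
  classical
  have hpr := hM.2.1.isPrime
  have := Fintype.ofFinite (cz P)
  have := Fintype.ofFinite (IrrCharacter (cz P))
  obtain ⟨k0, hg, f, Y, c, s, D⟩ := h.exists_dat hM hB hBD hθ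
  obtain ⟨φ, hφb, hφθ, hφ⟩ := h.exists_phi hM hB hBD hθ hχ hd hne
  have hφk : ¬ InKer P (φ : cz P → ℂ) := by
    intro hk
    exact hφθ (h.can_unique hM ⟨θ, rfl⟩ (mem_blockOf_self θ) hφb hθ.1 hk)
  have hφ1 : (φ : cz P → ℂ) 1 = (θ : cz P → ℂ) 1 :=
    h.reg_eq hM ⟨θ, rfl⟩ hφb (mem_blockOf_self θ) (by
      rw [orderOf_one]; exact hp.out.one_lt.ne' ∘ Nat.dvd_one.mp)
  have hφd : charDegree (φ : cz P → ℂ) = charDegree (θ : cz P → ℂ) := by
    have h1 := charDegree_cast (irr_isChar φ.2)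
    have h2 := charDegree_cast (irr_isChar θ.2)
    rw [hφ1, ← h2] at h1
    exact_mod_cast h1
  obtain ⟨m, hm, hexp⟩ := char_expand (isChar_restrict' (C := cz P) (irr_isChar χ.2))
  have hdeg : charDegree (χ : G → ℂ) = ∑ η : IrrCharacter (cz P), m η * charDegree (η : cz P → ℂ) := by
    have h1 := congrFun hexp 1
    simp only [Finset.sum_apply, Pi.smul_apply, smul_eq_mul] at h1
    have h2 := charDegree_cast (irr_isChar χ.2)
    have h3 : ((1 : cz P) : G) = 1 := rfl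
    rw [h3, ← h2] at h1
    have h4 : ∀ η : IrrCharacter (cz P), (η : cz P → ℂ) 1 = (charDegree (η : cz P → ℂ) : ℂ) :=
      fun η => (charDegree_cast (irr_isChar η.2)).symm
    simp only [h4] at h1
    exact_mod_cast h1
  have hmorb : ∀ η ∈ orb φ, 1 ≤ m η ∧ charDegree (η : cz P → ℂ) = charDegree (φ : cz P → ℂ) := by
    intro η hη
    obtain ⟨n, hn, rfl⟩ := mem_orb.mp hη
    constructor
    · have h1 := hm (cjI hn φ)
      rw [classInner_cjI hn (irr_classFun χ.2)] at h1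
      rw [h1] at hφ
      have : m (cjI hn φ) ≠ 0 := by
        intro h0; apply hφ; rw [h0]; simp
      omega
    · have h1 := charDegree_cast (irr_isChar (cjI hn φ).2)
      have h2 := charDegree_cast (irr_isChar φ.2)
      rw [cjI_apply, map_one, ← h2] at h1
      exact_mod_cast h1
  have hsplit : ∑ η : IrrCharacter (cz P), m η * charDegree (η : cz P → ℂ) =
      ∑ η ∈ orb φ, charDegree (η : cz P → ℂ) +
      ∑ η : IrrCharacter (cz P), (m η - if η ∈ orb φ then 1 else 0) *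
        charDegree (η : cz P → ℂ) := by
    have h1 : ∑ η ∈ orb φ, charDegree (η : cz P → ℂ) =
        ∑ η : IrrCharacter (cz P), (if η ∈ orb φ then 1 else 0) * charDegree (η : cz P → ℂ) := by
      simp only [ite_mul, one_mul, zero_mul]
      rw [Finset.sum_ite_mem, Finset.univ_inter]
    rw [h1, ← Finset.sum_add_distrib]
    refine Finset.sum_congr rfl fun η _ => ?_
    rw [← add_mul]
    congr 1
    by_cases h2 : η ∈ orb φ
    · rw [if_pos h2]
      have := (hmorb η h2).1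
      omega
    · rw [if_neg h2]; omega
  have hosum : ∑ η ∈ orb φ, charDegree (η : cz P → ℂ) =
      (cz P).relIndex (nz P) * charDegree (φ : cz P → ℂ) := by
    rw [Finset.sum_congr rfl fun η hη => (hmorb η hη).2, Finset.sum_const, smul_eq_mul,
      h.card_orb hφk]
  have hle : (cz P).relIndex (nz P) * charDegree (φ : cz P → ℂ) ≤ charDegree (χ : G → ℂ) := by
    rw [hdeg, hsplit, hosum]; exact Nat.le_add_right _ _
  have hpos : 0 < charDegree (χ : G → ℂ) := Nat.pos_of_ne_zero (charDegree_spec χ.2).2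
  -- `χ` is exceptional
  have hY : χ ∈ Y := by
    by_contra hY
    obtain ⟨x0, hx0, hx01⟩ := hne
    exact hx01 (h.const_of hM hB hBD hθ hχ hd (c χ) (D.hc χ hχ hY) x0 hx0)
  have hcong := h.deg_Y hM hB hBD hθ D hY
  rw [← hφd] at hcong
  set a := charDegree (χ : G → ℂ) with ha
  set b := (cz P).relIndex (nz P) * charDegree (φ : cz P → ℂ) with hb
  have hab : a = b := by
    rcases D.s1 with h1 | h1
    · exfalso
      rw [h1, neg_one_mul, Int.modEq_iff_dvd] at hcong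
      have h2 : (p : ℤ) ∣ ((a + b : ℕ) : ℤ) := by
        have : ((a + b : ℕ) : ℤ) = -(-(b : ℤ) - a) := by push_cast; ring
        rw [this]; exact hcong.neg_right
      have h3 : p ∣ a + b := by exact_mod_cast h2
      have := Nat.le_of_dvd (by omega) h3
      omega
    · rw [h1, neg_neg, one_mul, Int.modEq_comm, Int.modEq_iff_dvd] at hcong
      have h2 : (p : ℤ) ∣ ((a - b : ℕ) : ℤ) := by
        rw [Nat.cast_sub hle]; exact hcong
      have h3 : p ∣ a - b := by exact_mod_cast h2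
      rcases Nat.eq_zero_or_pos (a - b) with h4 | h4
      · omega
      · have := Nat.le_of_dvd h4 h3
        omega
  refine ⟨φ, hφk, hab, ?_⟩
  have hzero : ∑ η : IrrCharacter (cz P), (m η - if η ∈ orb φ then 1 else 0) *
        charDegree (η : cz P → ℂ) = 0 := by
    have := hdeg
    rw [hsplit, hosum] at this
    omega
  have hmeq : ∀ η : IrrCharacter (cz P), m η = if η ∈ orb φ then 1 else 0 := by
    intro η
    have h1 := (Finset.sum_eq_zero_iff.mp hzero) η (Finset.mem_univ _)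
    have h2 := (charDegree_spec η.2).2
    have h3 := (Nat.mul_eq_zero.mp h1).resolve_right h2
    by_cases h4 : η ∈ orb φ
    · rw [if_pos h4] at h3 ⊢
      have := (hmorb η h4).1
      omega
    · rw [if_neg h4] at h3 ⊢
      omega
  intro c
  have h1 := congrFun hexp c
  simp only [Finset.sum_apply, Pi.smul_apply, smul_eq_mul] at h1
  rw [h1]
  simp only [hmeq]
  simp only [Nat.cast_ite, Nat.cast_one, Nat.cast_zero, ite_mul, one_mul, zero_mul]
  rw [Finset.sum_ite_mem, Finset.univ_inter]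

include h in
theorem Loc.omg_norm (φ : IrrCharacter (cz P)) (u : P) : ‖omg h φ u‖ = 1 := by
  have h1 : (omg h φ u) ^ p = 1 := by
    rw [← map_pow]
    have h2 : u ^ p = 1 := by
      have := pow_card_eq_one' (x := u)
      rwa [h.card] at this
    rw [h2, map_one]
  exact norm_eq_one_of_pow_eq_one' hp.out.pos h1

include h in
/-- orthogonality of Galois conjugates -/
theorem Loc.orth_P {χ : G → ℂ} {φ : IrrCharacter (cz P)} (hφ : ¬ InKer P (φ : cz P → ℂ))
    (hχ : ∀ c : cz P, χ c = ∑ η ∈ orb φ, (η : cz P → ℂ) c) {k : ℕ}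
    (hk : ¬ ∃ n ∈ nz P, ∀ x ∈ P, n * x * n⁻¹ = x ^ k) [DecidablePred (· ∈ P)] :
    ∑ x : G with x ∈ P, χ x * conj (χ (x ^ k)) = 0 := by
  classical
  have hfP := Fintype.ofFinite P
  have h0 : ∑ x : G with x ∈ P, χ x * conj (χ (x ^ k)) =
      ∑ x : P, χ x * conj (χ ((x : G) ^ k)) := by
    rw [Finset.sum_subtype (Finset.univ.filter fun x : G => x ∈ P) (p := fun x => x ∈ P)
      (fun x => by simp)]
  rw [h0]
  have hval : ∀ x : P, χ (x : G) = ∑ η ∈ orb φ, omg h η x * (η : cz P → ℂ) 1 := by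
    intro x
    exact (hχ ⟨x, h.le_cz x.2⟩).trans (Finset.sum_congr rfl fun η _ => h.omg_val η x)
  have h1 : ∀ x : P, χ x * conj (χ ((x : G) ^ k)) =
      ∑ η ∈ orb φ, ∑ ξ ∈ orb φ, ((η : cz P → ℂ) 1 * conj ((ξ : cz P → ℂ) 1)) *
        (omg h η x * conj (omg h ξ x) ^ k) := by
    intro x
    have h2 := hval (x ^ k)
    rw [show ((x ^ k : P) : G) = (x : G) ^ k from rfl] at h2
    rw [hval x, h2, map_sum, Finset.sum_mul_sum]
    refine Finset.sum_congr rfl fun η _ => Finset.sum_congr rfl fun ξ _ => ?_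
    rw [map_mul, map_pow, map_pow]
    ring
  rw [Finset.sum_congr rfl fun x _ => h1 x, Finset.sum_comm]
  refine Finset.sum_eq_zero fun η hη => ?_
  rw [Finset.sum_comm]
  refine Finset.sum_eq_zero fun ξ hξ => ?_
  rw [← Finset.mul_sum]
  let g : P →* ℂ := omg h η * (((starRingEnd ℂ : ℂ →+* ℂ) : ℂ →* ℂ).comp (omg h ξ)) ^ k
  have hgval : ∀ x : P, g x = omg h η x * conj (omg h ξ x) ^ k := fun x => rfl
  have hgne : g ≠ 1 := by
    intro hg1
    apply hk
    obtain ⟨n, hn, rfl⟩ := mem_orb.mp hη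
    obtain ⟨n', hn', rfl⟩ := mem_orb.mp hξ
    refine ⟨n'⁻¹ * n, (nz P).mul_mem ((nz P).inv_mem hn') hn, fun x hx => ?_⟩
    have h2 : g ⟨x, hx⟩ = 1 := by rw [hg1]; rfl
    rw [hgval] at h2
    have h3 := h.omg_norm (cjI hn' φ) ⟨x, hx⟩
    have h4 : conj (omg h (cjI hn' φ) ⟨x, hx⟩) = (omg h (cjI hn' φ) ⟨x, hx⟩)⁻¹ := by
      rw [Complex.inv_def, Complex.normSq_eq_norm_sq, h3]; simp
    have h5 : omg h (cjI hn' φ) ⟨x, hx⟩ ≠ 0 := by
      intro h6; rw [h6, norm_zero] at h3; exact zero_ne_one h3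
    rw [h4, inv_pow, mul_inv_eq_one₀ (pow_ne_zero _ h5), ← map_pow, h.omg_cjI hn, h.omg_cjI hn'] at h2
    have h6 := congrArg Subtype.val (h.omg_inj hφ h2)
    simp only at h6
    have h7 : ((⟨x, hx⟩ ^ k : P) : G) = x ^ k := rfl
    rw [h7] at h6
    calc n'⁻¹ * n * x * (n'⁻¹ * n)⁻¹ = n'⁻¹ * (n * x * n⁻¹) * n' := by group
      _ = n'⁻¹ * (n' * x ^ k * n'⁻¹) * n' := by rw [h6]
      _ = x ^ k := by group
  have h8 := sum_hom_units_eq_zero g hgne
  simp only [hgval] at h8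
  rw [h8, mul_zero]

end

end Cfsg.Agent.LD
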