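import Mathlib
import Cfsg.Agent.L.SM2
import Cfsg.Agent.H26.InfBlk3
import Cfsg.Agent.H27.Kernel
import Cfsg.Agent.H27.PMod

set_option autoImplicit false

/-!
# Characters of small degree: tools
-/

namespace Cfsg.Agent.LD

open Cfsg Cfsg.Agent.H3 Cfsg.Agent.H11 Cfsg.Agent.H26 Cfsg.Agent.H27 Finset
open scoped ComplexConjugate Pointwise

universe u

variable {G : Type u} [Group G] [Fintype G] {p : ℕ} {M : Ideal AlgInt}
  {P : Subgroup G} [hp : Fact p.Prime]

theorem Loc.isDefect_of (h : Loc p P) (hM : IsPModular p M) {χ : IrrCharacter G}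
    (hχ : ¬ p ∣ charDegree (χ : G → ℂ)) : IsDefectGroup p M (blockOf M (χ : G → ℂ)) P := by
  have hpr := hM.2.1.isPrime
  have hB : IsPBlock M (blockOf M (χ : G → ℂ)) := ⟨χ, rfl⟩
  obtain ⟨D, hD⟩ := exists_isDefectGroup hM hB
  have hcard := card_defect hM hB hD
  have hbd : blockDefect p (blockOf M (χ : G → ℂ)) = 1 := by
    unfold blockDefect
    have h1 : sInf ((fun χ : IrrCharacter G => (charDegree (χ : G → ℂ)).factorization p) ''
        (blockOf M (χ : G → ℂ))) = 0 := by
      apply Nat.eq_zero_of_le_zero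
      apply Nat.sInf_le
      exact ⟨χ, mem_blockOf_self χ, Nat.factorization_eq_zero_of_not_dvd hχ⟩
    rw [h1, h.fact_eq]
  rw [hbd, pow_one] at hcard
  have hpD : IsPGroup p D := IsPGroup.of_card (n := 1) (by rw [hcard, pow_one])
  obtain ⟨Q, hQ⟩ := hpD.exists_le_sylow
  have hQc : Nat.card (Q : Subgroup G) = p := by
    have h1 : Nat.card (Q : Subgroup G) = p ^ (Nat.card G).factorization p :=
      Q.card_eq_multiplicity
    rw [h1, h.fact_eq, pow_one]
  have hDQ : D = Q := Subgroup.eq_of_le_of_card_ge hQ (by rw [hcard, hQc])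
  obtain ⟨c, hc⟩ := MulAction.exists_smul_eq G Q h.syl
  have h2 : cg D c = P := by
    rw [hDQ, ← h.coe_syl, ← hc]
    rfl
  rw [← h2]
  exact isDefectGroup_cg hM hB hD c

/-- the sum of a character over a subgroup is a natural multiple of the order -/
theorem sum_subgroup_nat {χ : G → ℂ} (hχ : IsCharacter G χ) (P : Subgroup G)
    [DecidablePred (· ∈ P)] :
    ∃ k : ℕ, ∑ x : G with x ∈ P, χ x = (Nat.card P : ℂ) * k := by
  classical
  let _ : Fintype P := Fintype.ofFinite _
  have h1 : IsCharacter P (fun x : P => χ x) :=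
    isChar_restrict' (C := P) hχ
  obtain ⟨k, hk⟩ := classInner_char_nat h1 isChar_one
  refine ⟨k, ?_⟩
  rw [← hk, classInner, ← mul_assoc, mul_inv_cancel₀ (Nat.cast_ne_zero.mpr Nat.card_pos.ne'),
    one_mul]
  rw [Finset.sum_subtype (Finset.univ.filter fun x : G => x ∈ P) (p := fun x => x ∈ P)
    (fun x => by simp)]
  refine Finset.sum_congr rfl fun x _ => ?_
  simp

/-- a character whose restriction to `P` does not contain the principal character -/
theorem sum_translate_zero {χ : G → ℂ} (hχ : IsCharacter G χ) (P : Subgroup G)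
    [DecidablePred (· ∈ P)] (h0 : ∑ x : G with x ∈ P, χ x = 0) (s : G) :
    ∑ x : G with x ∈ P, χ (x * s) = 0 := by
  classical
  have hfP := Fintype.ofFinite P
  obtain ⟨n, ρ, rfl⟩ := hχ
  have hcP : (Nat.card P : ℂ) ≠ 0 := Nat.cast_ne_zero.mpr Nat.card_pos.ne'
  have hconv : ∀ F : G → ℂ, ∑ x : G with x ∈ P, F x = ∑ x : P, F x := by
    intro F
    rw [Finset.sum_subtype (Finset.univ.filter fun x : G => x ∈ P) (p := fun x => x ∈ P)
      (fun x => by simp)]
  rw [hconv] at h0 ⊢
  set E : Module.End ℂ (Fin n → ℂ) := (Nat.card P : ℂ)⁻¹ • ∑ x : P, ρ (x : G) with hE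
  have hmul : ∀ y : P, ρ (y : G) * ∑ x : P, ρ (x : G) = ∑ x : P, ρ (x : G) := by
    intro y
    rw [Finset.mul_sum]
    refine Fintype.sum_equiv (Equiv.mulLeft y) _ _ fun x => ?_
    rw [← map_mul]; rfl
  have hidem : IsIdempotentElem E := by
    rw [IsIdempotentElem, hE, smul_mul_smul_comm, Finset.sum_mul,
      Finset.sum_congr rfl fun y _ => hmul y, Finset.sum_const, Finset.card_univ,
      ← Nat.card_eq_fintype_card, ← Nat.cast_smul_eq_nsmul ℂ, smul_smul]
    congr 1
    field_simp
  have htr : LinearMap.trace ℂ _ E = 0 := by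
    rw [hE, map_smul, map_sum, smul_eq_mul]
    have : ∑ x : P, LinearMap.trace ℂ (Fin n → ℂ) (ρ (x : G)) = 0 := h0
    rw [this, mul_zero]
  have hE0 : E = 0 := LinearMap.IsIdempotentElem.eq_zero_of_trace_eq_zero hidem htr
  have hS : ∑ x : P, ρ (x : G) = 0 := by
    have h1 : (Nat.card P : ℂ) • E = ∑ x : P, ρ (x : G) := by
      rw [hE, smul_smul, mul_inv_cancel₀ hcP, one_smul]
    rw [← h1, hE0, smul_zero]
  have h2 : ∑ x : P, ρ.character ((x : G) * s) =
      LinearMap.trace ℂ _ ((∑ x : P, ρ (x : G)) * ρ s) := by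
    rw [Finset.sum_mul, map_sum]
    refine Finset.sum_congr rfl fun x _ => ?_
    rw [← map_mul]; rfl
  rw [h2, hS, zero_mul, map_zero]

/-- the inner product of functions with disjoint supports -/
theorem classInner_eq_zero_of {F K : G → ℂ} (h : ∀ g : G, F g = 0 ∨ K g = 0) :
    classInner F K = 0 := by
  unfold classInner
  rw [Finset.sum_eq_zero, mul_zero]
  intro g _
  rcases h g with h1 | h1
  · rw [h1, zero_mul]
  · rw [h1, map_zero, mul_zero]

end Cfsg.Agent.LD
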