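import Mathlib
import Cfsg.Agent.L.SM3

set_option autoImplicit false

/-!
# Characters of small degree: the principal block
-/

namespace Cfsg.Agent.LD

open Cfsg Cfsg.Agent.H3 Cfsg.Agent.H11 Cfsg.Agent.H26 Cfsg.Agent.H27 Finset
open scoped ComplexConjugate Pointwise

universe u

variable {G : Type u} [Group G] [Fintype G] {p : ℕ} {M : Ideal AlgInt}
  {P : Subgroup G} [hp : Fact p.Prime]

/-- the data of the principal block -/
structure PD (p : ℕ) (M : Ideal AlgInt) (P : Subgroup G) (Y : Set (IrrCharacter G))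
    (c : IrrCharacter G → ℤ) (s : ℤ) : Prop where
  sub : Y ⊆ principalBlock M G
  c1 : ∀ χ ∈ principalBlock M G, χ ∉ Y → c χ = 1 ∨ c χ = -1
  s1 : s = 1 ∨ s = -1
  cardX : Nat.card (principalBlock M G \ Y : Set (IrrCharacter G)) = (cz P).relIndex (nz P)
  ne : Y.Nonempty
  ydeg : ∀ χ ∈ Y, ∀ ψ ∈ Y, charDegree (χ : G → ℂ) = charDegree (ψ : G → ℂ)
  rel : ∀ ψ ∈ Y, ∑ᶠ χ ∈ principalBlock M G \ Y, c χ * (charDegree (χ : G → ℂ) : ℤ) +
    s * charDegree (ψ : G → ℂ) = 0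
  valX : ∀ χ ∈ principalBlock M G, χ ∉ Y → ∀ x ∈ P, x ≠ 1 → ∀ t ∈ cz P, ¬ p ∣ orderOf t →
    (χ : G → ℂ) (x * t) = c χ
  valY : ∀ x ∈ P, x ≠ 1 → ∀ t ∈ cz P, ¬ p ∣ orderOf t → ∑ᶠ ψ ∈ Y, (ψ : G → ℂ) (x * t) = s
  sumY : ∀ ψ ∈ Y, ∑ᶠ x ∈ {x : G | x ∈ P ∧ x ≠ 1}, (ψ : G → ℂ) x = ((cz P).relIndex (nz P) : ℂ) * s
  oneX : trv G ∈ principalBlock M G \ Y
  cone : c (trv G) = 1

theorem Loc.exists_PD (h : Loc p P) (hM : IsPModular p M)
    (hlt : (cz P).relIndex (nz P) < p - 1) :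
    ∃ (Y : Set (IrrCharacter G)) (c : IrrCharacter G → ℤ) (s : ℤ), PD p M P Y c s := by
  classical
  have hpr := hM.2.1.isPrime
  let _ : Fintype (cz P) := Fintype.ofFinite _
  have hfin := Fintype.ofFinite (IrrCharacter (cz P))
  have := Fintype.ofFinite (IrrCharacter G)
  have hB : IsPBlock M (principalBlock M G) := principalBlock_isPBlock
  have hBP : IsDefectGroup p M (principalBlock M G) P :=
    (st4652 p M hM P).mpr ⟨h.syl, h.coe_syl⟩
  obtain ⟨θ, hTh, hval, hThs, hst⟩ := principal_Th h hM hBP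
  obtain ⟨k0, hg, f', Y, c, s, D⟩ := h.exists_dat hM hB hBP hTh
  obtain ⟨hfpos, hepos⟩ := h.fpos hM hB hTh D.exc
  have hcard1 : Nat.card (Th M P (principalBlock M G)) = 1 := by
    rw [hThs]; simp
  have hone : ¬ p ∣ orderOf (1 : G) := by
    rw [orderOf_one]; exact hp.out.one_lt.ne' ∘ Nat.dvd_one.mp
  have h2 : (Finset.univ.filter fun η : IrrCharacter (cz P) =>
      η ∈ Th M P (principalBlock M G)) = {θ} := by
    ext η
    simp [hThs]
  have htr : ∀ χ ∈ principalBlock M G, ∀ x ∈ P, x ≠ 1 → ∀ t ∈ cz P, ¬ p ∣ orderOf t →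
      (χ : G → ℂ) (x * t) = dd M x (χ : G → ℂ) θ := by
    intro χ hχ x hx hx1 t ht htp
    have h1 := h.translate hM hB hχ hx hx1 (s := (⟨t, ht⟩ : cz P)) (by
      rw [Subgroup.orderOf_mk]; exact htp)
    rw [h2, Finset.sum_singleton, hval, mul_one] at h1
    exact h1
  have hYne : Y.Nonempty := by
    rw [Set.nonempty_iff_ne_empty]
    intro h0
    have := D.exc.card
    rw [h0] at this
    simp at this
    omega
  have hvalX : ∀ χ ∈ principalBlock M G, χ ∉ Y → ∀ x ∈ P, x ≠ 1 → ∀ t ∈ cz P, ¬ p ∣ orderOf t →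
      (χ : G → ℂ) (x * t) = c χ := fun χ hχ hY x hx hx1 t ht htp => by
    rw [htr χ hχ x hx hx1 t ht htp, D.hc χ hχ hY x hx hx1]
  obtain ⟨x0, hx0, hx01⟩ := h.exists_ne
  have hvalY : ∀ x ∈ P, x ≠ 1 → ∀ t ∈ cz P, ¬ p ∣ orderOf t →
      ∑ᶠ ψ ∈ Y, (ψ : G → ℂ) (x * t) = s := by
    intro x hx hx1 t ht htp
    rw [← D.hs x hx hx1]
    exact finsum_mem_congr rfl fun ψ hψ => htr ψ (D.exc.sub hψ) x hx hx1 t ht htp
  have htrvY : trv G ∉ Y := by
    intro hY
    have hψ : ∀ ψ ∈ Y, ψ = trv G := by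
      intro ψ hψ
      obtain ⟨j, hj⟩ := D.exc.trans (trv G) hY ψ hψ
      rw [← hj]
      apply Subtype.ext
      funext g
      rw [hg.iterate_apply]; rfl
    have hY1 : Y = {trv G} := by
      ext ψ
      rw [Set.mem_singleton_iff]
      exact ⟨hψ ψ, fun h1 => by rw [h1]; exact hY⟩
    have hf1 : f' = 1 := by
      have := D.exc.card
      rw [hY1] at this
      simpa using this.symm
    have hfm := D.exc.fmul
    rw [hf1, mul_one, hst] at hfm
    omega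
  refine ⟨Y, c, s, D.exc.sub, D.c1, D.s1, ?_, hYne, ?_, ?_, hvalX, hvalY, ?_, ⟨?_, htrvY⟩, ?_⟩
  · rw [D.cardX, hst]
  · intro χ hχ ψ hψ
    have h3 := D.yreg χ hχ ψ hψ 1 hone
    rw [← charDegree_cast (irr_isChar χ.2), ← charDegree_cast (irr_isChar ψ.2)] at h3
    exact_mod_cast h3
  · intro ψ hψ
    have h3 := D.rel 1 hone ψ hψ
    rw [finsum_mem_irr, ← charDegree_cast (irr_isChar ψ.2)] at h3
    rw [finsum_mem_eq_finite_toFinset_sum _ (Set.toFinite _)]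
    have h4 : ∀ χ : IrrCharacter G, (χ : G → ℂ) 1 = (charDegree (χ : G → ℂ) : ℂ) :=
      fun η => (charDegree_cast (irr_isChar η.2)).symm
    simp only [h4] at h3
    have h5 : (Set.toFinite (principalBlock M G \ Y : Set (IrrCharacter G))).toFinset =
        Finset.univ.filter fun χ : IrrCharacter G => χ ∈ principalBlock M G \ Y := by
      ext χ; simp
    rw [h5]
    exact_mod_cast h3
  · intro ψ hψ
    have h3 := h.sum_P hM hB hBP hTh (χ := ψ) (D.exc.sub hψ)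
    rw [finsum_mem_eq_finite_toFinset_sum _ (Set.toFinite _)]
    have h5 : (Set.toFinite {x : G | x ∈ P ∧ x ≠ 1}).toFinset =
        Finset.univ.filter fun x : G => x ∈ P ∧ x ≠ 1 := by
      ext x; simp
    rw [h5, h3, hcard1, hval, h.Dsum_Y hM hB hTh D hψ, hst]
    push_cast; ring
  · exact trv_mem G
  · have h3 := hvalX (trv G) (trv_mem G) htrvY x0 hx0 hx01 1 (Subgroup.one_mem _) hone
    have h4 : (1 : ℂ) = (c (trv G) : ℂ) := h3
    exact_mod_cast h4.symm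

end Cfsg.Agent.LD
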