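import Mathlib
import Cfsg.Agent.L.SM4

set_option autoImplicit false

/-!
# Characters of small degree: group theory and the kernel
-/

namespace Cfsg.Agent.LD

open Cfsg Cfsg.Agent.H3 Cfsg.Agent.H11 Cfsg.Agent.H26 Cfsg.Agent.H27 Finset
open scoped ComplexConjugate Pointwise

universe u

variable {G : Type u} [Group G] [Fintype G] {p : ℕ} {M : Ideal AlgInt}
  {P : Subgroup G} [hp : Fact p.Prime]

theorem Loc.inf_eq_bot (h : Loc p P) {L : Subgroup G} (hL : ¬ P ≤ L) : L ⊓ P = ⊥ := by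
  have : Fact (Nat.card P).Prime := ⟨by rw [h.card]; exact hp.out⟩
  rcases (L.subgroupOf P).eq_bot_or_eq_top_of_prime_card with h1 | h1
  · rw [Subgroup.subgroupOf_eq_bot] at h1
    exact h1.eq_bot
  · exact absurd (Subgroup.subgroupOf_eq_top.mp h1) hL

theorem Loc.comm_of (h : Loc p P) {L : Subgroup G} (hLn : L.Normal) (hL : ¬ P ≤ L) {l : G}
    (hl : l ∈ L) (hln : l ∈ nz P) {x : G} (hx : x ∈ P) : l * x = x * l := by
  have h1 : l * x * l⁻¹ * x⁻¹ ∈ L := by
    have h2 : x * l⁻¹ * x⁻¹ ∈ L := hLn.conj_mem _ (L.inv_mem hl) x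
    have h3 := L.mul_mem hl h2
    have h4 : l * x * l⁻¹ * x⁻¹ = l * (x * l⁻¹ * x⁻¹) := by group
    rw [h4]; exact h3
  have h2 : l * x * l⁻¹ * x⁻¹ ∈ P :=
    P.mul_mem ((Subgroup.mem_normalizer_iff.mp hln x).mp hx) (P.inv_mem hx)
  have h3 : l * x * l⁻¹ * x⁻¹ ∈ L ⊓ P := ⟨h1, h2⟩
  rw [h.inf_eq_bot hL, Subgroup.mem_bot] at h3
  have h4 : l * x * l⁻¹ = x := by
    have := mul_inv_eq_one.mp h3
    exact this
  calc l * x = l * x * l⁻¹ * l := by group
    _ = x * l := by rw [h4]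

/-- a normal subgroup containing the `p`-regular elements of the centralizer is central -/
theorem Loc.central_of (h : Loc p P) (ha : ∀ H : Subgroup G, P ≤ H → H ≠ ⊤ → H ≤ nz P)
    (hb : ∀ L : Subgroup G, L.Normal → P ≤ L → L = ⊤)
    (hf : (cz P).relIndex (nz P) ≠ 1) {L : Subgroup G} (hLn : L.Normal) (hL : ¬ P ≤ L) :
    L ≤ Subgroup.center G := by
  have hne : L ⊔ P ≠ ⊤ := by
    intro htop
    apply hf
    rw [Subgroup.relIndex_eq_one]
    intro n hn
    have hn' : n ∈ L ⊔ P := by rw [htop]; trivial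
    obtain ⟨l, hl, u, hu, rfl⟩ := (Subgroup.mem_sup_of_normal_left).mp hn'
    have hln : l ∈ nz P := by
      have : l = l * u * u⁻¹ := by group
      rw [this]
      exact (nz P).mul_mem hn ((nz P).inv_mem (Subgroup.le_normalizer hu))
    rw [Subgroup.mem_centralizer_iff]
    intro x hx
    have h1 := h.comm_of hLn hL hl hln hx
    have h2 := h.comm hx hu
    calc x * (l * u) = (x * l) * u := by group
      _ = l * (x * u) := by rw [← h1]; group
      _ = l * u * x := by rw [h2]; group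
  have hle : L ⊔ P ≤ nz P := ha _ le_sup_right hne
  have hPc : P ≤ Subgroup.centralizer (L : Set G) := by
    intro x hx
    rw [Subgroup.mem_centralizer_iff]
    intro l hl
    exact h.comm_of hLn hL hl (hle (Subgroup.mem_sup_left hl)) hx
  have h1 : Subgroup.centralizer (L : Set G) = ⊤ := hb _ (Subgroup.normal_centralizer) hPc
  intro l hl
  rw [Subgroup.mem_center_iff]
  intro g
  have h2 : g ∈ Subgroup.centralizer (L : Set G) := by rw [h1]; trivial
  exact ((Subgroup.mem_centralizer_iff.mp h2) l hl).symm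

theorem Loc.cz_comm (h : Loc p P) (hK : ∀ t ∈ cz P, ¬ p ∣ orderOf t → t ∈ Subgroup.center G) :
    ∀ a ∈ cz P, ∀ b ∈ cz P, a * b = b * a := by
  have key : ∀ a ∈ cz P, ∃ x ∈ P, ∃ y ∈ Subgroup.center G, a = x * y := by
    intro a ha
    obtain ⟨x, y, hxy, hcomm, hxp, hyp⟩ := exists_isPPart hp.out (⟨a, ha⟩ : cz P)
    have hxp' : ∃ k : ℕ, orderOf (x : G) = p ^ k := by
      obtain ⟨k, hk⟩ := hxp
      exact ⟨k, by rw [Subgroup.orderOf_coe]; exact hk⟩
    refine ⟨x, h.mem_of_pel (Loc.cz_le_nz x.2) hxp', y, hK y y.2 ?_, ?_⟩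
    · rw [Subgroup.orderOf_coe]; exact hyp
    · exact (congrArg Subtype.val hxy).symm
  intro a ha b hb
  obtain ⟨x, hx, y, hy, rfl⟩ := key a ha
  obtain ⟨x', hx', y', hy', rfl⟩ := key b hb
  rw [Subgroup.mem_center_iff] at hy hy'
  calc x * y * (x' * y') = x * (y * x') * y' := by group
    _ = x * (x' * y) * y' := by rw [hy x']
    _ = (x * x') * (y * y') := by group
    _ = (x' * x) * (y' * y) := by rw [h.comm hx hx', hy y']
    _ = x' * (x * y') * y := by group
    _ = x' * (y' * x) * y := by rw [hy' x]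
    _ = x' * y' * (x * y) := by group

end Cfsg.Agent.LD
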