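import Mathlib
import Cfsg.Agent.L.SM5

set_option autoImplicit false

/-!
# Characters of small degree: counting
-/

namespace Cfsg.Agent.LD

open Cfsg Cfsg.Agent.H3 Cfsg.Agent.H11 Cfsg.Agent.H26 Cfsg.Agent.H27 Finset
open scoped ComplexConjugate Pointwise

universe u

variable {G : Type u} [Group G] [Fintype G] {p : ℕ} {M : Ideal AlgInt}
  {P : Subgroup G} [hp : Fact p.Prime]

section
variable (h : Loc p P) {Y : Set (IrrCharacter G)} {c : IrrCharacter G → ℤ} {s : ℤ}
  (D : PD p M P Y c s)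
include h D

/-- inner products of class functions supported on `p`-singular elements -/
theorem Loc.innerX {F : G → ℂ} (hF : IsClassFunction G F) (hreg : ∀ g : G, ¬ p ∣ orderOf g → F g = 0)
    {ξ : IrrCharacter G} (hξ : ξ ∈ principalBlock M G) (hY : ξ ∉ Y) :
    classInner F (ξ : G → ℂ) = (c ξ : ℂ) * classInner F (fun _ => 1) := by
  have h1 : classInner F ((ξ : G → ℂ) - (c ξ : ℂ) • (fun _ => 1)) = 0 := by
    apply classInner_eq_zero_of
    intro g
    rcases h.exists_conj g with h2 | ⟨x, hx, hx1, t, ht, hconj⟩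
    · exact Or.inl (hreg g h2)
    · right
      obtain ⟨a, ha⟩ := isConj_iff.mp hconj
      have h3 : (ξ : G → ℂ) g = c ξ := by
        rw [← irr_classFun ξ.2 g a, ha]
        exact D.valX ξ hξ hY x hx hx1 t t.2 (by rw [Subgroup.orderOf_coe]; exact ht)
      simp [h3]
  rw [classInner_sub_right, classInner_smul_right, map_intCast, sub_eq_zero] at h1
  exact h1

theorem Loc.innerY {F : G → ℂ} (hF : IsClassFunction G F) (hreg : ∀ g : G, ¬ p ∣ orderOf g → F g = 0)
    [Fintype (IrrCharacter G)] [DecidablePred (· ∈ Y)] :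
    ∑ ψ : IrrCharacter G with ψ ∈ Y, classInner F (ψ : G → ℂ) =
      (s : ℂ) * classInner F (fun _ => 1) := by
  have h1 : classInner F ((∑ ψ : IrrCharacter G with ψ ∈ Y, (ψ : G → ℂ)) -
      (s : ℂ) • (fun _ => 1)) = 0 := by
    apply classInner_eq_zero_of
    intro g
    rcases h.exists_conj g with h2 | ⟨x, hx, hx1, t, ht, hconj⟩
    · exact Or.inl (hreg g h2)
    · right
      obtain ⟨a, ha⟩ := isConj_iff.mp hconj
      have h3 : ∑ ψ : IrrCharacter G with ψ ∈ Y, (ψ : G → ℂ) g = s := by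
        rw [← D.valY x hx hx1 t t.2 (by rw [Subgroup.orderOf_coe]; exact ht), finsum_mem_irr]
        refine Finset.sum_congr rfl fun ψ _ => ?_
        rw [← irr_classFun ψ.2 g a, ha]
      simp [h3]
  rw [classInner_sub_right, classInner_smul_right, map_intCast, sub_eq_zero,
    classInner_sum_right] at h1
  exact h1

/-- degrees and multiplicities for the non-exceptional characters -/
theorem Loc.degX {ξ : IrrCharacter G} (hξ : ξ ∈ principalBlock M G) (hY : ξ ∉ Y)
    [DecidablePred (· ∈ P)] {k : ℕ} (hk : ∑ x : G with x ∈ P, (ξ : G → ℂ) x = (Nat.card P : ℂ) * k) :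
    (charDegree (ξ : G → ℂ) : ℤ) + ((p : ℤ) - 1) * c ξ = p * k := by
  classical
  have h1 : ∀ x ∈ Finset.univ.filter (fun x : G => x ∈ P ∧ x ≠ 1), (ξ : G → ℂ) x = c ξ := by
    intro x hx
    obtain ⟨_, hx, hx1⟩ := Finset.mem_filter.mp hx
    have := D.valX ξ hξ hY x hx hx1 1 (Subgroup.one_mem _) (by
      rw [orderOf_one]; exact hp.out.one_lt.ne' ∘ Nat.dvd_one.mp)
    rwa [mul_one] at this
  rw [fin_split, Finset.sum_congr rfl h1, Finset.sum_const, nsmul_eq_mul, h.card_ne, h.card,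
    ← charDegree_cast (irr_isChar ξ.2), Nat.cast_sub hp.out.one_le, Nat.cast_one] at hk
  exact_mod_cast hk

theorem Loc.degY {ψ : IrrCharacter G} (hY : ψ ∈ Y)
    [DecidablePred (· ∈ P)] {k : ℕ} (hk : ∑ x : G with x ∈ P, (ψ : G → ℂ) x = (Nat.card P : ℂ) * k) :
    (charDegree (ψ : G → ℂ) : ℤ) + (cz P).relIndex (nz P) * s = p * k := by
  classical
  have h1 := D.sumY ψ hY
  rw [finsum_mem_eq_finite_toFinset_sum _ (Set.toFinite _)] at h1
  have h5 : (Set.toFinite {x : G | x ∈ P ∧ x ≠ 1}).toFinset =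
      Finset.univ.filter fun x : G => x ∈ P ∧ x ≠ 1 := by
    ext x; simp
  rw [h5] at h1
  rw [fin_split, h1, h.card, ← charDegree_cast (irr_isChar ψ.2)] at hk
  exact_mod_cast hk

/-- the non-trivial non-exceptional characters of positive sign -/
theorem Loc.two_le (hb : ∀ L : Subgroup G, L.Normal → P ≤ L → L = ⊤) {ξ : IrrCharacter G}
    (hξ : ξ ∈ principalBlock M G) (hY : ξ ∉ Y) (hc : c ξ = 1) (hne : ξ ≠ trv G)
    [DecidablePred (· ∈ P)] {k : ℕ} (hk : ∑ x : G with x ∈ P, (ξ : G → ℂ) x = (Nat.card P : ℂ) * k) :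
    2 ≤ k := by
  have h1 := h.degX D hξ hY hk
  rw [hc, mul_one] at h1
  have hpos : 0 < charDegree (ξ : G → ℂ) := Nat.pos_of_ne_zero (charDegree_spec ξ.2).2
  have hp2 := hp.out.two_le
  by_contra hlt
  have hk2 : k = 0 ∨ k = 1 := by omega
  rcases hk2 with hk2 | hk2
  · rw [hk2] at h1
    have : (0 : ℤ) < charDegree (ξ : G → ℂ) := by exact_mod_cast hpos
    have h3 : (2 : ℤ) ≤ p := by exact_mod_cast hp2
    simp at h1
    linarith
  · rw [hk2] at h1
    have h2 : charDegree (ξ : G → ℂ) = 1 := by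
      have : (charDegree (ξ : G → ℂ) : ℤ) = 1 := by push_cast at h1; linarith
      exact_mod_cast this
    have h3 : (ξ : G → ℂ) 1 = 1 := by
      rw [← charDegree_cast (irr_isChar ξ.2), h2]; simp
    have h4 : P ≤ charKer (irr_isChar ξ.2) := by
      intro x hx
      rw [mem_charKer, h3]
      by_cases hx1 : x = 1
      · rw [hx1, h3]
      · have := D.valX ξ hξ hY x hx hx1 1 (Subgroup.one_mem _) (by
          rw [orderOf_one]; exact hp.out.one_lt.ne' ∘ Nat.dvd_one.mp)
        rw [mul_one, hc] at this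
        rw [this]; simp
    have h5 := hb _ (charKer_normal _) h4
    apply hne
    apply Subtype.ext
    funext g
    have h6 : g ∈ charKer (irr_isChar ξ.2) := by rw [h5]; trivial
    rw [mem_charKer, h3] at h6
    exact h6

/-- the kernel of a non-exceptional character of negative sign and degree `p-1` -/
theorem Loc.mem_ker {ξ : IrrCharacter G}
    (hξ : ξ ∈ principalBlock M G) (hY : ξ ∉ Y) (hc : c ξ = -1)
    [DecidablePred (· ∈ P)] (hk : ∑ x : G with x ∈ P, (ξ : G → ℂ) x = 0) :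
    ¬ P ≤ charKer (irr_isChar ξ.2) ∧
    ∀ t ∈ cz P, ¬ p ∣ orderOf t → t ∈ charKer (irr_isChar ξ.2) := by
  classical
  have h1 := h.degX D hξ hY (k := 0) (by rw [hk]; simp)
  rw [hc] at h1
  have hp2 := hp.out.two_le
  have hone : ¬ p ∣ orderOf (1 : G) := by
    rw [orderOf_one]; exact hp.out.one_lt.ne' ∘ Nat.dvd_one.mp
  have hdeg : (ξ : G → ℂ) 1 = (p : ℂ) - 1 := by
    rw [← charDegree_cast (irr_isChar ξ.2)]
    have : (charDegree (ξ : G → ℂ) : ℤ) = (p : ℤ) - 1 := by push_cast at h1; linarith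
    exact_mod_cast this
  constructor
  · intro hP
    obtain ⟨x, hx, hx1⟩ := h.exists_ne
    have h2 := hP hx
    rw [mem_charKer, hdeg] at h2
    have h3 := D.valX ξ hξ hY x hx hx1 1 (Subgroup.one_mem _) hone
    rw [mul_one, hc] at h3
    rw [h3] at h2
    have h4 : ((-1 : ℤ) : ℂ) = (((p : ℤ) - 1 : ℤ) : ℂ) := by push_cast; rw [← h2]; simp
    have h5 : (-1 : ℤ) = (p : ℤ) - 1 := by exact_mod_cast h4
    omega
  · intro t ht htp
    rw [mem_charKer, hdeg]
    have h2 := sum_translate_zero (irr_isChar ξ.2) P hk t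
    rw [fin_split P (fun x => (ξ : G → ℂ) (x * t)), one_mul,
      Finset.sum_congr rfl (fun x hx => D.valX ξ hξ hY x (Finset.mem_filter.mp hx).2.1
        (Finset.mem_filter.mp hx).2.2 t ht htp), Finset.sum_const, nsmul_eq_mul, h.card_ne, hc,
      Nat.cast_sub hp.out.one_le] at h2
    push_cast at h2
    linear_combination h2

end

end Cfsg.Agent.LD
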