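import Mathlib
import Cfsg.Agent.L.SM6

set_option autoImplicit false

/-!
# Characters of small degree: the main counting argument
-/

namespace Cfsg.Agent.LD

open Cfsg Cfsg.Agent.H3 Cfsg.Agent.H11 Cfsg.Agent.H26 Cfsg.Agent.H27 Finset
open scoped ComplexConjugate Pointwise

universe u

variable {G : Type u} [Group G] [Fintype G] {p : ℕ} {M : Ideal AlgInt}
  {P : Subgroup G} [hp : Fact p.Prime]

/-- the arithmetic at the end -/
theorem final_arith {f n₁ n₂ m₀ p' S : ℤ} {s : ℤ} (hs : s = 1 ∨ s = -1) (hf : 2 ≤ f)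
    (hfp : 2 * f < p') (hn1 : 0 ≤ n₁) (hn2 : 0 ≤ n₂) (hsum : n₁ + n₂ = f)
    (hS : 2 * n₁ - 1 ≤ S) (hS2 : S = f - s * m₀) (hm0 : 0 ≤ m₀) (hm1 : s = 1 → 1 ≤ m₀)
    (hm2 : s = -1 → m₀ = 0) (hd1 : s = 1 → n₂ * p' ≤ f * f)
    (hd2 : s = -1 → n₂ * p' + f ≤ f * f) : False := by
  rcases hs with hs | hs
  · have h1 := hm1 hs
    have h2 := hd1 hs
    rw [hs, one_mul] at hS2
    have h3 : n₁ ≤ n₂ := by linarith
    have h4 : f ≤ 2 * n₂ := by linarith
    have h5 : 1 ≤ n₂ := by omega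
    nlinarith
  · have h1 := hm2 hs
    have h2 := hd2 hs
    rw [h1, mul_zero, sub_zero] at hS2
    have h3 : n₁ ≤ n₂ + 1 := by linarith
    have h4 : f ≤ 2 * n₂ + 1 := by linarith
    have h5 : 1 ≤ n₂ := by omega
    nlinarith

/-- **Brauer**: a character of degree less than `(p-1)/2` is scalar on `P` -/
theorem Loc.core (h : Loc p P) (ha : ∀ H : Subgroup G, P ≤ H → H ≠ ⊤ → H ≤ nz P)
    (hb : ∀ L : Subgroup G, L.Normal → P ≤ L → L = ⊤) (χ : IrrCharacter G)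
    (hd : 2 * charDegree (χ : G → ℂ) + 1 < p) :
    ∀ x ∈ P, ‖(χ : G → ℂ) x‖ = charDegree (χ : G → ℂ) := by
  classical
  by_contra hcon
  push Not at hcon
  obtain ⟨x0, hx0, hx01⟩ := hcon
  have := Fintype.ofFinite (IrrCharacter G)
  let _ : Fintype (cz P) := Fintype.ofFinite _
  obtain ⟨M, hM⟩ := exists_isPModular hp.out
  have hpr := hM.2.1.isPrime
  have hdpos : 0 < charDegree (χ : G → ℂ) := Nat.pos_of_ne_zero (charDegree_spec χ.2).2
  have hχ1 := charDegree_cast (irr_isChar χ.2)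
  have hndvd : ¬ p ∣ charDegree (χ : G → ℂ) := by
    intro hdvd
    have := Nat.le_of_dvd hdpos hdvd
    omega
  have hB : IsPBlock M (blockOf M (χ : G → ℂ)) := ⟨χ, rfl⟩
  have hBD := h.isDefect_of hM hndvd
  obtain ⟨θ, hθ⟩ := h.exists_Th hM hB hBD
  obtain ⟨φ, hφk, hdeg, hχC⟩ := h.small hM hB hBD hθ (mem_blockOf_self χ) (by omega)
    ⟨x0, hx0, fun h1 => hx01 (by rw [h1, ← hχ1]; simp)⟩
  have hcard := h.card_orb hφk
  set f := (cz P).relIndex (nz P) with hf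
  have hφmem : φ ∈ orb φ := mem_orb.mpr ⟨1, (nz P).one_mem, cjI_one φ⟩
  have hfpos : 0 < f := by rw [← hcard]; exact Finset.card_pos.mpr ⟨φ, hφmem⟩
  have hφd : 0 < charDegree (φ : cz P → ℂ) := Nat.pos_of_ne_zero (charDegree_spec φ.2).2
  have hf1 : f ≠ 1 := by
    intro hf1
    rw [hf1] at hcard
    obtain ⟨η, hη⟩ := Finset.card_eq_one.mp hcard
    have h1 : orb φ = {φ} := by
      rw [hη] at hφmem ⊢
      rw [Finset.mem_singleton.mp hφmem]
    have h2 := hχC ⟨x0, h.le_cz hx0⟩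
    rw [h1, Finset.sum_singleton] at h2
    have h3 := h.omg_val φ ⟨x0, hx0⟩
    rw [h3] at h2
    apply hx01
    have h4 : (χ : G → ℂ) x0 = omg h φ ⟨x0, hx0⟩ * (φ : cz P → ℂ) 1 := h2
    rw [h4, norm_mul, h.omg_norm, one_mul, ← charDegree_cast (irr_isChar φ.2), hdeg, hf1, one_mul]
    simp
  have hfd : f ≤ charDegree (χ : G → ℂ) := by rw [hdeg]; exact Nat.le_mul_of_pos_right f hφd
  -- the Galois conjugate
  obtain ⟨g0, t, hft, hg0, hgen, hj⟩ := h.cyc_aut (le_refl (nz P)) Loc.cz_le_nz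
  obtain ⟨k0, hg, hk0⟩ := exists_galD h hg0 hgen
  have ht1 : ¬ t ∣ 1 := by
    intro h1
    rw [Nat.dvd_one] at h1
    rw [h1, mul_one, ← hf] at hft
    omega
  have hnk : ¬ ∃ n ∈ nz P, ∀ x ∈ P, n * x * n⁻¹ = x ^ k0 := by
    rintro ⟨n, hn, h1⟩
    apply ht1
    rw [← hj 1]
    exact ⟨n, hn, fun x hx => by rw [h1 x hx, hk0 x hx, pow_one]⟩
  have horth := h.orth_P hφk hχC hnk
  set ψ := galIrr k0 hg.cop χ with hψ
  have hψv : ∀ g, (ψ : G → ℂ) g = (χ : G → ℂ) (g ^ k0) := fun g => rfl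
  have hne : χ ≠ ψ := by
    intro h1
    have h2 : ∀ x : G, (χ : G → ℂ) (x ^ k0) = (χ : G → ℂ) x := by
      intro x; rw [← hψv, ← h1]
    simp only [h2] at horth
    have h3 : ∑ x : G with x ∈ P, ‖(χ : G → ℂ) x‖ ^ 2 = 0 := by
      have h4 : ((∑ x : G with x ∈ P, ‖(χ : G → ℂ) x‖ ^ 2 : ℝ) : ℂ) = 0 := by
        rw [← horth]
        push_cast
        refine Finset.sum_congr rfl fun x _ => ?_
        rw [Complex.mul_conj, Complex.normSq_eq_norm_sq]
        push_cast; ring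
      exact_mod_cast h4
    rw [Finset.sum_eq_zero_iff_of_nonneg (fun _ _ => by positivity)] at h3
    have h5 := h3 1 (Finset.mem_filter.mpr ⟨Finset.mem_univ _, P.one_mem⟩)
    have h6 : ‖(χ : G → ℂ) 1‖ = 0 := pow_eq_zero_iff (two_ne_zero) |>.mp h5
    exact irr_one_ne_zero χ.2 (norm_eq_zero.mp h6)
  -- the two products
  set α : G → ℂ := (χ : G → ℂ) * (fun g => conj ((χ : G → ℂ) g)) with hα
  set β : G → ℂ := (χ : G → ℂ) * (fun g => conj ((ψ : G → ℂ) g)) with hβ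
  have hαc : IsCharacter G α := isChar_mul (irr_isChar χ.2) (isChar_conj (irr_isChar χ.2))
  have hβc : IsCharacter G β := isChar_mul (irr_isChar χ.2) (isChar_conj (irr_isChar ψ.2))
  have hα1 : classInner α (fun _ => 1) = 1 := by
    refine Eq.trans ?_ (classInner_self_of_irr χ.2)
    unfold classInner
    congr 1
    exact Finset.sum_congr rfl fun g _ => by simp [hα]
  have hβ1 : classInner β (fun _ => 1) = 0 := by
    have h1 := classInner_irr' χ ψ
    rw [if_neg hne] at h1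
    refine Eq.trans ?_ h1
    unfold classInner
    congr 1
    exact Finset.sum_congr rfl fun g _ => by simp [hβ]
  have hFc : IsClassFunction G (α - β) := classFun_sub (char_classFun hαc) (char_classFun hβc)
  have hF1 : classInner (α - β) (fun _ => 1) = 1 := by
    rw [classInner_sub_left, hα1, hβ1, sub_zero]
  have hFr : ∀ g : G, ¬ p ∣ orderOf g → (α - β) g = 0 := by
    intro g hg'
    simp only [Pi.sub_apply, hα, hβ, Pi.mul_apply, hψv]
    rw [hg.reg g hg', sub_self]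
  obtain ⟨a, ha', _⟩ := char_expand hαc
  obtain ⟨b, hb', hbexp⟩ := char_expand hβc
  choose mP hmP using fun ξ : IrrCharacter G => sum_subgroup_nat (irr_isChar ξ.2) P
  -- constituents of `β` have no fixed points
  have hG : ∀ ξ : IrrCharacter G, b ξ ≠ 0 → mP ξ = 0 := by
    have h1 : ∑ x : G with x ∈ P, β x = 0 := by
      rw [← horth]
      exact Finset.sum_congr rfl fun x _ => by simp [hβ, hψv]
    rw [hbexp] at h1
    simp only [Finset.sum_apply, Pi.smul_apply, smul_eq_mul] at h1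
    rw [Finset.sum_comm] at h1
    have h2 : ∀ ξ : IrrCharacter G, ∑ x : G with x ∈ P, (b ξ : ℂ) * (ξ : G → ℂ) x =
        ((Nat.card P * (b ξ * mP ξ) : ℕ) : ℂ) := by
      intro ξ
      rw [← Finset.mul_sum, hmP ξ]; push_cast; ring
    rw [Finset.sum_congr rfl fun ξ _ => h2 ξ, ← Nat.cast_sum, Nat.cast_eq_zero,
      Finset.sum_eq_zero_iff] at h1
    intro ξ hξ
    have h3 := h1 ξ (Finset.mem_univ _)
    rcases Nat.mul_eq_zero.mp h3 with h4 | h4
    · exact absurd h4 Nat.card_pos.ne'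
    · exact (Nat.mul_eq_zero.mp h4).resolve_left hξ
  -- the degree
  have hH : charDegree (χ : G → ℂ) * charDegree (χ : G → ℂ) =
      ∑ ξ : IrrCharacter G, b ξ * charDegree (ξ : G → ℂ) := by
    have h1 := congrFun hbexp 1
    simp only [Finset.sum_apply, Pi.smul_apply, smul_eq_mul, hβ, Pi.mul_apply, hψv, one_pow,
      ← hχ1, Complex.conj_natCast] at h1
    have h4 : ∀ η : IrrCharacter G, (η : G → ℂ) 1 = (charDegree (η : G → ℂ) : ℂ) :=
      fun η => (charDegree_cast (irr_isChar η.2)).symm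
    simp only [h4] at h1
    exact_mod_cast h1
  obtain ⟨Y, c, s, D⟩ := h.exists_PD hM (by omega)
  set X := Finset.univ.filter fun ξ : IrrCharacter G => ξ ∈ principalBlock M G \ Y with hX
  have hXc : X.card = f := by
    rw [hf, ← D.cardX, hX, Nat.card_eq_fintype_card, Fintype.card_subtype]
  set X₁ := X.filter fun ξ => c ξ = 1 with hX1
  set X₂ := X.filter fun ξ => ¬ c ξ = 1 with hX2
  have hX12 : X₁.card + X₂.card = f := by
    rw [← hXc]; exact Finset.card_filter_add_card_filter_not (fun ξ => c ξ = 1)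
  have hX2c : ∀ ξ ∈ X₂, ξ ∈ principalBlock M G ∧ ξ ∉ Y ∧ c ξ = -1 := by
    intro ξ hξ
    obtain ⟨h1, h2⟩ := Finset.mem_filter.mp hξ
    have h3 := (Finset.mem_filter.mp h1).2
    exact ⟨h3.1, h3.2, (D.c1 ξ h3.1 h3.2).resolve_left h2⟩
  have hX1c : ∀ ξ ∈ X₁, ξ ∈ principalBlock M G ∧ ξ ∉ Y ∧ c ξ = 1 := by
    intro ξ hξ
    obtain ⟨h1, h2⟩ := Finset.mem_filter.mp hξ
    have h3 := (Finset.mem_filter.mp h1).2
    exact ⟨h3.1, h3.2, h2⟩
  have hX2b : ∀ ξ ∈ X₂, b ξ ≠ 0 := by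
    intro ξ hξ h0
    obtain ⟨h1, h2, h3⟩ := hX2c ξ hξ
    have h4 := h.innerX D hFc hFr h1 h2
    rw [hF1, mul_one, h3, classInner_sub_left, ha', hb', h0] at h4
    have h5 : (a ξ : ℤ) = -1 := by
      have : ((a ξ : ℤ) : ℂ) = ((-1 : ℤ) : ℂ) := by rw [← h4]; simp
      exact_mod_cast this
    omega
  have hX2m : ∀ ξ ∈ X₂, mP ξ = 0 := fun ξ hξ => hG ξ (hX2b ξ hξ)
  have hX2d : ∀ ξ ∈ X₂, (charDegree (ξ : G → ℂ) : ℤ) = (p : ℤ) - 1 := by
    intro ξ hξ
    obtain ⟨h1, h2, h3⟩ := hX2c ξ hξ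
    have h4 := h.degX D h1 h2 (hmP ξ)
    rw [hX2m ξ hξ, h3] at h4
    push_cast at h4
    linarith
  -- choice of an exceptional character
  obtain ⟨ψ0, hψ0, hψ0b⟩ : ∃ ψ0 ∈ Y, s = -1 → b ψ0 ≠ 0 := by
    rcases D.s1 with h1 | h1
    · obtain ⟨ψ0, hψ0⟩ := D.ne
      exact ⟨ψ0, hψ0, fun h2 => by omega⟩
    · by_contra hno
      push Not at hno
      have h2 := h.innerY D hFc hFr
      rw [hF1, mul_one, h1] at h2
      have h3 : ∀ ψ' ∈ Finset.univ.filter (fun ψ' : IrrCharacter G => ψ' ∈ Y),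
          classInner (α - β) (ψ' : G → ℂ) = (a ψ' : ℂ) := by
        intro ψ' hψ'
        have h4 := (hno ψ' (Finset.mem_filter.mp hψ').2).2
        rw [classInner_sub_left, ha', hb', h4]; simp
      rw [Finset.sum_congr rfl h3, ← Nat.cast_sum] at h2
      have h5 : ((∑ ψ' : IrrCharacter G with ψ' ∈ Y, a ψ' : ℕ) : ℤ) = -1 := by
        exact_mod_cast h2
      omega
  have hψ0d := h.degY D hψ0 (hmP ψ0)
  rw [← hf] at hψ0d
  -- the relation
  have hrel := D.rel ψ0 hψ0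
  have hrel2 : ∑ ξ ∈ X, c ξ * (charDegree (ξ : G → ℂ) : ℤ) + s * charDegree (ψ0 : G → ℂ) = 0 := by
    rw [← hrel, finsum_mem_eq_finite_toFinset_sum _ (Set.toFinite _)]
    congr 1
    apply Finset.sum_congr _ fun _ _ => rfl
    ext ξ; simp [hX]
  have hsX1 : ∑ ξ ∈ X₁, c ξ * (charDegree (ξ : G → ℂ) : ℤ) =
      p * ∑ ξ ∈ X₁, (mP ξ : ℤ) - X₁.card * ((p : ℤ) - 1) := by
    have h1 : ∀ ξ ∈ X₁, c ξ * (charDegree (ξ : G → ℂ) : ℤ) = p * (mP ξ : ℤ) - ((p : ℤ) - 1) := by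
      intro ξ hξ
      obtain ⟨h1, h2, h3⟩ := hX1c ξ hξ
      have h4 := h.degX D h1 h2 (hmP ξ)
      rw [h3] at h4 ⊢
      linarith
    rw [Finset.sum_congr rfl h1, Finset.sum_sub_distrib, ← Finset.mul_sum, Finset.sum_const,
      nsmul_eq_mul]
  have hsX2 : ∑ ξ ∈ X₂, c ξ * (charDegree (ξ : G → ℂ) : ℤ) = - (X₂.card * ((p : ℤ) - 1)) := by
    have h1 : ∀ ξ ∈ X₂, c ξ * (charDegree (ξ : G → ℂ) : ℤ) = -((p : ℤ) - 1) := by
      intro ξ hξ
      rw [hX2d ξ hξ, (hX2c ξ hξ).2.2]; ring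
    rw [Finset.sum_congr rfl h1, Finset.sum_const, nsmul_eq_mul]; ring
  rw [← Finset.sum_filter_add_sum_filter_not X (fun ξ => c ξ = 1), hsX1, hsX2] at hrel2
  have hs2 : s * s = 1 := by rcases D.s1 with h1 | h1 <;> rw [h1] <;> rfl
  have hp0 : (0 : ℤ) < p := by exact_mod_cast hp.out.pos
  have hX12z : (X₁.card : ℤ) + X₂.card = f := by exact_mod_cast hX12
  have hS : ∑ ξ ∈ X₁, (mP ξ : ℤ) = f - s * mP ψ0 := by
    have h1 : (p : ℤ) * ∑ ξ ∈ X₁, (mP ξ : ℤ) = p * (f - s * mP ψ0) := by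
      have h2 : (charDegree (ψ0 : G → ℂ) : ℤ) = p * mP ψ0 - f * s := by linarith
      rw [h2] at hrel2
      have h3 : s * (p * mP ψ0 - f * s) = s * (p * mP ψ0) - f := by
        linear_combination (-(f : ℤ)) * hs2
      rw [h3] at hrel2
      linear_combination hrel2 + ((p : ℤ) - 1) * hX12z
    exact mul_left_cancel₀ hp0.ne' h1
  -- lower bound
  have htrv : trv G ∈ X₁ := by
    refine Finset.mem_filter.mpr ⟨Finset.mem_filter.mpr ⟨Finset.mem_univ _, D.oneX⟩, D.cone⟩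
  have hmtrv : 1 ≤ mP (trv G) := by
    have h4 := h.degX D D.oneX.1 D.oneX.2 (hmP (trv G))
    rw [D.cone] at h4
    by_contra hlt
    have h5 : mP (trv G) = 0 := by omega
    rw [h5] at h4
    have h6 : (0 : ℤ) < charDegree (trv G : G → ℂ) := by
      have := Nat.pos_of_ne_zero (charDegree_spec (trv G).2).2
      exact_mod_cast this
    have h7 : (2 : ℤ) ≤ p := by exact_mod_cast hp.out.two_le
    simp at h4
    linarith
  have hSle : 2 * (X₁.card : ℤ) - 1 ≤ ∑ ξ ∈ X₁, (mP ξ : ℤ) := by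
    rw [← Finset.add_sum_erase _ _ htrv]
    have h1 : ∑ ξ ∈ X₁.erase (trv G), (2 : ℤ) ≤ ∑ ξ ∈ X₁.erase (trv G), (mP ξ : ℤ) := by
      refine Finset.sum_le_sum fun ξ hξ => ?_
      obtain ⟨h1, h2⟩ := Finset.mem_erase.mp hξ
      obtain ⟨h3, h4, h5⟩ := hX1c ξ h2
      exact_mod_cast h.two_le D hb h3 h4 h5 h1 (hmP ξ)
    rw [Finset.sum_const, nsmul_eq_mul, Finset.card_erase_of_mem htrv] at h1
    have h2 : 1 ≤ X₁.card := Finset.card_pos.mpr ⟨_, htrv⟩
    rw [Nat.cast_sub h2] at h1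
    have h3 : (1 : ℤ) ≤ mP (trv G) := by exact_mod_cast hmtrv
    push_cast at h1
    linarith
  have hm1 : s = 1 → 1 ≤ (mP ψ0 : ℤ) := by
    intro h1
    rw [h1] at hψ0d
    by_contra hlt
    have h5 : mP ψ0 = 0 := by omega
    rw [h5] at hψ0d
    have h6 : (0 : ℤ) < charDegree (ψ0 : G → ℂ) := by
      have := Nat.pos_of_ne_zero (charDegree_spec ψ0.2).2
      exact_mod_cast this
    have h7 : (0 : ℤ) < f := by exact_mod_cast hfpos
    simp at hψ0d
    linarith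
  have hm2 : s = -1 → (mP ψ0 : ℤ) = 0 := fun h1 => by
    exact_mod_cast hG ψ0 (hψ0b h1)
  -- there is a character of negative sign
  have hX2ne : X₂.Nonempty := by
    rw [Finset.nonempty_iff_ne_empty]
    intro h0
    rw [h0] at hX12z
    simp at hX12z
    have h7 : (2 : ℤ) ≤ f := by
      have : 2 ≤ f := by omega
      exact_mod_cast this
    rcases D.s1 with h1 | h1
    · have := hm1 h1
      rw [h1] at hS
      linarith
    · have := hm2 h1
      rw [this] at hS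
      linarith
  obtain ⟨ξ, hξ⟩ := hX2ne
  obtain ⟨hξ1, hξ2, hξ3⟩ := hX2c ξ hξ
  obtain ⟨hk1, hk2⟩ := h.mem_ker D hξ1 hξ2 hξ3 (by rw [hmP ξ, hX2m ξ hξ]; simp)
  have hcen := h.central_of ha hb (hf ▸ hf1) (charKer_normal _) hk1
  have hab := h.cz_comm (fun t ht htp => hcen (hk2 t ht htp))
  have : IsMulCommutative (cz P) := ⟨⟨fun x y => Subtype.ext (hab x x.2 y y.2)⟩⟩
  have hφ1 : charDegree (φ : cz P → ℂ) = 1 := by
    have h1 := charDegree_cast (irr_isChar φ.2)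
    rw [irr_degree_one_of_comm φ.2] at h1
    exact_mod_cast h1
  rw [hφ1, mul_one] at hdeg
  -- the degree bounds
  have hsub : X₂ ⊆ Finset.univ := Finset.subset_univ _
  have hlow : (X₂.card : ℤ) * ((p : ℤ) - 1) ≤ ∑ ξ ∈ X₂, (b ξ * charDegree (ξ : G → ℂ) : ℕ) := by
    push_cast
    rw [← nsmul_eq_mul, ← Finset.sum_const]
    refine Finset.sum_le_sum fun ξ hξ => ?_
    rw [hX2d ξ hξ]
    have h1 : (1 : ℤ) ≤ b ξ := by
      have := hX2b ξ hξ
      exact_mod_cast Nat.one_le_iff_ne_zero.mpr this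
    have h2 : (0 : ℤ) ≤ (p : ℤ) - 1 := by linarith
    nlinarith
  have hψ0X : ψ0 ∉ X₂ := fun h1 => (hX2c ψ0 h1).2.1 hψ0
  refine final_arith (f := f) (n₁ := X₁.card) (n₂ := X₂.card) (m₀ := mP ψ0) (p' := (p : ℤ) - 1)
    (S := ∑ ξ ∈ X₁, (mP ξ : ℤ)) (s := s) D.s1 (by
      have : 2 ≤ f := by omega
      exact_mod_cast this) ?_ (by positivity) (by positivity) hX12z hSle hS (by positivity)
      hm1 hm2 ?_ ?_
  · have : (2 * f + 1 : ℕ) < p := by omega
    have h2 : ((2 * f + 1 : ℕ) : ℤ) < p := by exact_mod_cast this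
    push_cast at h2
    linarith
  · intro _
    refine hlow.trans ?_
    have h1 : ∑ ξ ∈ X₂, (b ξ * charDegree (ξ : G → ℂ)) ≤ f * f := by
      rw [← hdeg, hH]
      exact Finset.sum_le_sum_of_subset hsub
    exact_mod_cast h1
  · intro h1
    have h2 : ∑ ξ ∈ insert ψ0 X₂, (b ξ * charDegree (ξ : G → ℂ)) ≤ f * f := by
      rw [← hdeg, hH]
      exact Finset.sum_le_sum_of_subset (Finset.subset_univ _)
    rw [Finset.sum_insert hψ0X] at h2
    have h3 : (f : ℤ) ≤ (b ψ0 * charDegree (ψ0 : G → ℂ) : ℕ) := by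
      have h4 : (charDegree (ψ0 : G → ℂ) : ℤ) = f := by
        rw [hm2 h1, h1] at hψ0d
        linarith
      have h5 : (1 : ℤ) ≤ b ψ0 := by
        exact_mod_cast Nat.one_le_iff_ne_zero.mpr (hψ0b h1)
      push_cast
      rw [h4]
      have h6 : (0 : ℤ) ≤ f := by positivity
      nlinarith
    have h7 : ((b ψ0 * charDegree (ψ0 : G → ℂ) : ℕ) : ℤ) +
        ((∑ ξ ∈ X₂, (b ξ * charDegree (ξ : G → ℂ)) : ℕ) : ℤ) ≤ (f : ℤ) * f := by exact_mod_cast h2
    have h8 : ((∑ ξ ∈ X₂, (b ξ * charDegree (ξ : G → ℂ)) : ℕ) : ℤ) =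
        ∑ ξ ∈ X₂, ((b ξ * charDegree (ξ : G → ℂ) : ℕ) : ℤ) := by push_cast; rfl
    rw [h8] at h7
    linarith

end Cfsg.Agent.LD
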