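import Mathlib
import Cfsg.Agent.L.SM7

set_option autoImplicit false

/-!
# Brauer's theorem on characters of small degree
-/

namespace Cfsg.Agent.LD

open Cfsg Cfsg.Agent.H3 Cfsg.Agent.H11 Cfsg.Agent.H26 Cfsg.Agent.H27 Finset
open scoped ComplexConjugate Pointwise

universe u

theorem irr_comm_of_norm {G : Type u} [Group G] [Finite G] {ξ : G → ℂ} (hξ : IsCharacter G ξ) {x : G}
    (hx : ‖ξ x‖ = charDegree ξ) (g : G) : ξ (x * g * x⁻¹ * g⁻¹) = ξ 1 := by
  obtain ⟨n, ρ, rfl⟩ := hξ
  have h2 : (charDegree (ρ.character) : ℂ) = ρ.character 1 := charDegree_cast ⟨n, ρ, rfl⟩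
  rw [Representation.char_one] at h2
  have h3 : charDegree ρ.character = Module.finrank ℂ (Fin n → ℂ) := by exact_mod_cast h2
  rw [h3] at hx
  have h4 := rep_scalar_of_norm_eq ρ x hx
  set z := ρ.character x / (Module.finrank ℂ (Fin n → ℂ) : ℂ)
  have h5 : ρ (x * g) = ρ (g * x) := by
    rw [map_mul, map_mul, h4]
    ext v
    simp
  have h6 : ρ (x * g * x⁻¹ * g⁻¹) = 1 := by
    have : x * g * x⁻¹ * g⁻¹ = (x * g) * (g * x)⁻¹ := by group
    rw [this, map_mul, h5, ← map_mul, mul_inv_cancel, map_one]
  change LinearMap.trace ℂ _ (ρ (x * g * x⁻¹ * g⁻¹)) = LinearMap.trace ℂ _ (ρ 1)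
  rw [h6, map_one ρ]

variable {p : ℕ} [hp : Fact p.Prime]

theorem Loc.sub {G : Type u} [Group G] [Finite G] {P : Subgroup G} (h : Loc p P) {H : Subgroup G}
    (hPH : P ≤ H) : Loc p (P.subgroupOf H) := by
  refine ⟨?_, fun h1 => h.sq (h1.trans (Subgroup.card_subgroup_dvd_card H))⟩
  rw [Nat.card_congr (Subgroup.subgroupOfEquivOfLe hPH).toEquiv, h.card]

/-- **Brauer** -/
theorem brauer_small (n : ℕ) : ∀ (G : Type u) [Group G] [Finite G] (P : Subgroup G), Loc p P →
    ∀ (χ : G → ℂ), IsCharacter G χ → (∀ g : G, χ g = χ 1 → g = 1) → 2 * charDegree χ + 1 < p →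
    Nat.card G = n → P.Normal := by
  induction n using Nat.strong_induction_on with
  | _ n ih =>
    intro G _ _ P h χ hχ hfaith hd hn
    classical
    have := Fintype.ofFinite G
    have := Fintype.ofFinite (IrrCharacter G)
    by_contra hnot
    have ha : ∀ H : Subgroup G, P ≤ H → H ≠ ⊤ → H ≤ nz P := by
      intro H hPH hne
      have hlt : Nat.card H < n := by
        rw [← hn]
        refine lt_of_le_of_ne (Nat.le_of_dvd Nat.card_pos (Subgroup.card_subgroup_dvd_card H)) ?_
        intro h1
        exact hne (Subgroup.eq_top_of_card_eq H h1)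
      have h1 : IsCharacter H (fun c : H => χ c) := isChar_restrict' (C := H) hχ
      have h2 : charDegree (fun c : H => χ c) = charDegree χ := by
        have e1 := charDegree_cast h1
        have e2 := charDegree_cast hχ
        have e3 : ((1 : H) : G) = 1 := rfl
        rw [e3, ← e2] at e1
        exact_mod_cast e1
      have h3 := ih (Nat.card H) hlt H (P.subgroupOf H) (h.sub hPH) (fun c : H => χ c) h1
        (fun g hg => Subtype.ext (hfaith g hg)) (by rw [h2]; exact hd) rfl
      exact (Subgroup.normal_subgroupOf_iff_le_normalizer hPH).mp h3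
    have hb : ∀ L : Subgroup G, L.Normal → P ≤ L → L = ⊤ := by
      intro L hL hPL
      by_contra hne
      apply hnot
      have hle := ha L hPL hne
      refine ⟨fun x hx g => ?_⟩
      have h1 : g * x * g⁻¹ ∈ L := hL.conj_mem x (hPL hx) g
      obtain ⟨k, hk⟩ := h.pel hx
      refine h.mem_of_pel (hle h1) ⟨k, ?_⟩
      rw [← hk]
      exact orderOf_conj x g
    obtain ⟨m, hm, hexp⟩ := char_expand hχ
    apply hnot
    have hcen : P ≤ Subgroup.center G := by
      intro x hx
      rw [Subgroup.mem_center_iff]
      intro g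
      have h1 : χ (x * g * x⁻¹ * g⁻¹) = χ 1 := by
        rw [hexp]
        simp only [Finset.sum_apply, Pi.smul_apply, smul_eq_mul]
        refine Finset.sum_congr rfl fun ξ _ => ?_
        by_cases h0 : m ξ = 0
        · rw [h0]; simp
        · have h2 : charDegree (ξ : G → ℂ) ≤ charDegree χ := by
            have e1 := charDegree_cast (irr_isChar ξ.2)
            have e2 := charDegree_cast hχ
            have e3 := congrFun hexp 1
            simp only [Finset.sum_apply, Pi.smul_apply, smul_eq_mul] at e3
            have h4 : ∀ η : IrrCharacter G, (η : G → ℂ) 1 = (charDegree (η : G → ℂ) : ℂ) :=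
              fun η => (charDegree_cast (irr_isChar η.2)).symm
            simp only [h4] at e3
            rw [← e2] at e3
            have e4 : charDegree χ = ∑ η : IrrCharacter G, m η * charDegree (η : G → ℂ) := by
              exact_mod_cast e3
            rw [e4]
            calc charDegree (ξ : G → ℂ) ≤ m ξ * charDegree (ξ : G → ℂ) :=
                  Nat.le_mul_of_pos_left _ (Nat.pos_of_ne_zero h0)
              _ ≤ _ := Finset.single_le_sum (f := fun η : IrrCharacter G =>
                  m η * charDegree (η : G → ℂ)) (fun _ _ => Nat.zero_le _) (Finset.mem_univ ξ)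
          have h5 := h.core ha hb ξ (by omega) x hx
          rw [irr_comm_of_norm (irr_isChar ξ.2) h5 g]
      have h6 := hfaith _ h1
      have h7 : x * g * (g * x)⁻¹ = 1 := by rw [← h6]; group
      exact (mul_inv_eq_one.mp h7).symm
    exact ⟨fun x hx g => by
      have := (Subgroup.mem_center_iff.mp (hcen hx)) g
      rw [this, mul_inv_cancel_right]; exact hx⟩

end Cfsg.Agent.LD
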